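import Groth.Agent.Lib.EtRam10.Generators
import Groth.Agent.Lib.DVRExt.Compositum
import Groth.Agent.Lib.DVRExt.FiniteExt
import Groth.Agent.Lib.GeomRed2.Basic
import Groth.Agent.Lib.PseudoCompl.Basic
import Groth.Agent.Lib.TameAbh21.Local
import Groth.Agent.S1983

set_option linter.all false
set_option backward.isDefEq.respectTransparency false
set_option autoImplicit false

/-!
# Abhyankar's lemma for arbitrary extensions of DVRs
-/

universe u

open IsLocalRing TensorProduct

namespace GrothLib.EtRam10

theorem dominates_comap_of_comp {A M : Type u} [CommRing A] [IsLocalRing A] [Field M] {F : Type u} [Field F]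
    (j : F →+* M) (g : A →+* F) (W : ValuationSubring M) (h : EtRam.Dominates A (j.comp g) W) :
    EtRam.Dominates A g (W.comap j) := by
  refine ⟨fun a => h.1 a, fun a ha => ?_⟩
  refine ((W.comap j).valuation_lt_one_iff ⟨g a, h.1 a⟩).mp fun hu => ?_
  have hu' := hu.map (EtRam.inclOfComap W j)
  exact ((W.valuation_eq_one_iff _).mp hu').not_lt (h.2 a ha)

/-- Domination from a uniformizer. -/
theorem dominates_of_uniformizer {A M : Type u} [CommRing A] [IsLocalRing A] [Field M] (g : A →+* M)
    (W : ValuationSubring M) {ϖ : A} (hϖ : maximalIdeal A = Ideal.span {ϖ})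
    (h1 : ∀ a, g a ∈ W) (h2 : W.valuation (g ϖ) < 1) : EtRam.Dominates A g W := by
  refine ⟨h1, fun a ha => ?_⟩
  rw [hϖ, Ideal.mem_span_singleton] at ha
  obtain ⟨b, rfl⟩ := ha
  rw [map_mul, map_mul]
  exact (mul_le_of_le_one_right' ((W.valuation_le_one_iff _).mpr (h1 b))).trans_lt h2

theorem valuation_comap_lt_one {F M : Type u} [Field F] [Field M] (j : F →+* M) (W : ValuationSubring M)
    {x : F} (h : W.valuation (j x) < 1) : (W.comap j).valuation x < 1 := by
  have hx : j x ∈ W := (W.valuation_le_one_iff _).mp h.le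
  refine ((W.comap j).valuation_lt_one_iff ⟨x, hx⟩).mp fun hu => ?_
  exact ((W.valuation_eq_one_iff _).mp (hu.map (EtRam.inclOfComap W j))).not_lt h

theorem isLocalHom_of_dominates {A M : Type u} [CommRing A] [IsLocalRing A] [Field M] (g : A →+* M)
    (W : ValuationSubring M) (h : EtRam.Dominates A g W) : IsLocalHom (g.codRestrict W.toSubring h.1) := ⟨fun a ha => by
  by_contra hna
  exact ((W.valuation_eq_one_iff _).mp ha).not_lt (h.2 a hna)⟩

theorem geometricallyReduced_of_bijective {k k' l : Type u} [Field k] [Field k'] [CommRing l] [Algebra k k']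
    [Algebra k l] [Algebra k' l] [IsScalarTower k k' l] (hb : Function.Surjective (algebraMap k k'))
    [Algebra.IsGeometricallyReduced k l] : Algebra.IsGeometricallyReduced k' l := by
  haveI := GrothLib.PseudoCompl.isGeometricallyReduced_baseChange k k' l
  let f : l →ₐ[k'] k' ⊗[k] l :=
    { (Algebra.TensorProduct.includeRight : l →ₐ[k] k' ⊗[k] l).toRingHom with
      commutes' := fun r => by
        obtain ⟨s, rfl⟩ := hb r
        show (1 : k') ⊗ₜ[k] algebraMap k' l (algebraMap k k' s) = _
        rw [← IsScalarTower.algebraMap_apply, Algebra.TensorProduct.algebraMap_apply, Algebra.algebraMap_self,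
          RingHom.id_apply, ← Algebra.TensorProduct.tmul_one_eq_one_tmul] }
  refine Algebra.IsGeometricallyReduced.of_injective f (Function.LeftInverse.injective (g :=
    Algebra.TensorProduct.lift (Algebra.ofId k' l) (AlgHom.id k l) fun _ _ => mul_comm _ _) fun x => ?_)
  exact (Algebra.TensorProduct.lift_tmul _ _ _ (1 : k') x).trans (by simp)

open Polynomial in
theorem abhyankar_root (A B K L : Type u) [CommRing A] [IsDomain A] [IsDiscreteValuationRing A]
    [CommRing B] [IsDomain B] [IsDiscreteValuationRing B] [Algebra A B] [IsLocalHom (algebraMap A B)]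
    (hinj : Function.Injective (algebraMap A B))
    [Field K] [Field L] [Algebra A K] [IsFractionRing A K] [Algebra B L] [IsFractionRing B L]
    [Algebra K L] [Algebra A L] [IsScalarTower A K L] [IsScalarTower A B L]
    [Algebra.IsGeometricallyReduced (ResidueField A) (ResidueField B)]
    (π : A) (hπ : maximalIdeal A = Ideal.span {π}) (ϖ : B) (hϖ : maximalIdeal B = Ideal.span {ϖ})
    (e : ℕ) (he0 : 0 < e) (heu : IsUnit (e : A)) (u : Bˣ) (hu : algebraMap A B π = u * ϖ ^ e)
    (K₁ : Type u) [Field K₁] [Algebra K K₁] [FiniteDimensional K K₁]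
    (M : Type u) [Field M] [Algebra K M] [Algebra L M] [Algebra K₁ M] [IsScalarTower K L M] [IsScalarTower K K₁ M]
    (s : M) (hs : s ^ e = algebraMap L M (algebraMap B L u))
    (hgen : Algebra.adjoin L (Set.range (algebraMap K₁ M) ∪ {s}) = ⊤)
    (W : ValuationSubring M) (hW : EtRam.Dominates B ((algebraMap L M).comp (algebraMap B L)) W)
    (k : ℕ) (ϖ₁ : K₁) (u₁ : K₁) (hu₁ : W.valuation (algebraMap K₁ M u₁) = 1)
    (hk : algebraMap K K₁ (algebraMap A K π) = u₁ * ϖ₁ ^ (e * k))
    (hϖ₁ : ∀ z : K₁, W.valuation (algebraMap K₁ M z) < 1 →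
      W.valuation (algebraMap K₁ M z) ≤ W.valuation (algebraMap K₁ M ϖ₁))
    (hϖ₁' : W.valuation (algebraMap K₁ M ϖ₁) < 1) :
    (letI : Algebra (W.comap (algebraMap K₁ M)) W := (EtRam.inclOfComap W (algebraMap K₁ M)).toAlgebra
    EtRam.IsWeaklyUnramified (W.comap (algebraMap K₁ M)) W) ∧
      @Algebra.IsGeometricallyReduced (ResidueField (W.comap (algebraMap K₁ M))) (ResidueField W) _ _
        (ResidueField.map (EtRam.inclOfComap W (algebraMap K₁ M))).toAlgebra := by
  classical
  set θ : M := s * algebraMap L M (algebraMap B L ϖ) with hθ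
  have hAM : ∀ a, algebraMap K M (algebraMap A K a) = algebraMap L M (algebraMap B L (algebraMap A B a)) := fun a => by
    rw [IsScalarTower.algebraMap_apply K L M, ← IsScalarTower.algebraMap_apply A K L, ← IsScalarTower.algebraMap_apply A B L]
  have hθe : θ ^ e = algebraMap K M (algebraMap A K π) := by
    rw [hAM, hu, map_mul, map_mul, map_pow, map_pow, hθ, mul_pow, hs]
  have hvs : W.valuation s = 1 := by
    have h1 : W.valuation (algebraMap L M (algebraMap B L u)) = 1 := by
      refine le_antisymm ((W.valuation_le_one_iff _).mpr (hW.1 _)) (not_lt.mp fun hlt => ?_)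
      haveI := isLocalHom_of_dominates _ W hW
      exact ((W.valuation_eq_one_iff ⟨_, hW.1 _⟩).mp
        (u.isUnit.map (((algebraMap L M).comp (algebraMap B L)).codRestrict W.toSubring hW.1))).not_lt hlt
    rwa [← hs, map_pow, pow_eq_one_iff_of_nonneg zero_le' he0.ne'] at h1
  have hvθ : W.valuation θ < 1 := by
    rw [hθ, map_mul, hvs, one_mul]
    exact hW.2 ϖ (hϖ ▸ Ideal.mem_span_singleton_self ϖ)
  have hWA : EtRam.Dominates A ((algebraMap K M).comp (algebraMap A K)) W := by
    refine ⟨fun a => by show algebraMap K M _ ∈ W; rw [hAM]; exact hW.1 _, fun a ha => ?_⟩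
    show W.valuation (algebraMap K M _) < 1
    rw [hAM]
    exact hW.2 _ fun hu => ha (IsUnit.of_map (algebraMap A B) a hu)
  have heA : ∀ {R : Type u} [CommRing R] (g : A →+* R), IsUnit (e : R) := fun g => by
    simpa using heu.map g
  -- `K' = K(θ)`
  set K' := IntermediateField.adjoin K {θ} with hK'
  have hmθ : (X ^ e - C (algebraMap A K π) : K[X]).Monic := monic_X_pow_sub_C _ he0.ne'
  have hθroot : aeval θ (X ^ e - C (algebraMap A K π) : K[X]) = 0 := by simp [hθe]
  have hθint : IsIntegral K θ := ⟨_, hmθ, hθroot⟩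
  haveI : FiniteDimensional K K' := IntermediateField.adjoin.finiteDimensional hθint
  have hK'dim : Module.finrank K K' ≤ e := by
    rw [hK', IntermediateField.adjoin.finrank hθint]
    exact (natDegree_le_of_dvd (minpoly.dvd K θ hθroot) hmθ.ne_zero).trans (natDegree_X_pow_sub_C).le
  set VA := W.comap (algebraMap K' M) with hVA
  letI : Algebra A K' := ((algebraMap K K').comp (algebraMap A K)).toAlgebra
  haveI : IsScalarTower A K K' := .of_algebraMap_eq' rfl
  have hdA : EtRam.Dominates A (algebraMap A K') VA := by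
    refine dominates_comap_of_comp (algebraMap K' M) _ W ?_
    exact hWA
  haveI := GrothLib.DVRExt.isDiscreteValuationRing_of_dominates A K K' VA hdA
  let θ' : K' := ⟨θ, IntermediateField.mem_adjoin_simple_self K θ⟩
  have hθ' : θ' ^ e = algebraMap A K' π := Subtype.ext (by
    show θ ^ e = _
    rw [hθe]; rfl)
  obtain ⟨-, htr⟩ := finrank_eq_and_isTotallyRamified (K := K) hπ θ' (q := e)
    (fun V _ => by rw [← map_pow, hθ']) he0 hK'dim
  have hresA := htr.2.2 VA hdA
  -- `L₁ = L(s)`
  set L₁ := IntermediateField.adjoin L {s} with hL₁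
  have hms : (X ^ e - C (algebraMap B L u) : L[X]).Monic := monic_X_pow_sub_C _ he0.ne'
  have hsint : IsIntegral L s := ⟨_, hms, by simp [hs]⟩
  haveI : FiniteDimensional L L₁ := IntermediateField.adjoin.finiteDimensional hsint
  set VB := W.comap (algebraMap L₁ M) with hVB
  letI : Algebra B L₁ := ((algebraMap L L₁).comp (algebraMap B L)).toAlgebra
  haveI : IsScalarTower B L L₁ := .of_algebraMap_eq' rfl
  have hdB : EtRam.Dominates B (algebraMap B L₁) VB := dominates_comap_of_comp (algebraMap L₁ M) _ W hW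
  haveI := GrothLib.DVRExt.isDiscreteValuationRing_of_dominates B L L₁ VB hdB
  let s' : L₁ := ⟨s, IntermediateField.mem_adjoin_simple_self L s⟩
  have hs' : s' ^ e = algebraMap B L₁ u := Subtype.ext (by
    show s ^ e = _
    rw [hs]; rfl)
  have hunrB := isUnramifiedExt_of_separable_reduction (K := L) hϖ s' (X ^ e - C (u : B))
    (monic_X_pow_sub_C _ he0.ne') (by rw [map_sub, map_pow, aeval_X, aeval_C, hs', sub_self]) (by
      rw [Polynomial.map_sub, Polynomial.map_pow, map_X, map_C]
      refine separable_X_pow_sub_C _ ?_ ?_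
      · exact ((heA ((residue B).comp (algebraMap A B)))).ne_zero
      · exact (u.isUnit.map (residue B)).ne_zero)
    (by
      have := IntermediateField.adjoin_simple_toSubalgebra_of_isAlgebraic hsint.isAlgebraic
      intro x
      have hx : (x : M) ∈ Algebra.adjoin L {s} := this ▸ x.2
      rw [Algebra.adjoin_singleton_eq_range_aeval] at hx
      obtain ⟨g, hg⟩ := hx
      exact ⟨g, Subtype.ext (by rw [← hg]; exact (aeval_algHom_apply L₁.val s' g))⟩)
  -- `K'₁ = K₁(θ)`
  set K₁' := IntermediateField.adjoin K₁ {θ} with hK₁'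
  have hθK₁ : aeval θ (X ^ e - C (algebraMap K K₁ (algebraMap A K π)) : K₁[X]) = 0 := by
    simp [hθe, ← IsScalarTower.algebraMap_apply]
  haveI : FiniteDimensional K₁ K₁' :=
    IntermediateField.adjoin.finiteDimensional ⟨_, monic_X_pow_sub_C _ he0.ne', hθK₁⟩
  haveI : FiniteDimensional K K₁' := FiniteDimensional.trans K K₁ K₁'
  -- `C = W ∩ K₁`
  set VC := W.comap (algebraMap K₁ M) with hVC
  have hdC : EtRam.Dominates A ((algebraMap K K₁).comp (algebraMap A K)) VC := by
    refine dominates_comap_of_comp (algebraMap K₁ M) _ W ?_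
    rw [← RingHom.comp_assoc, ← IsScalarTower.algebraMap_eq K K₁ M]
    exact hWA
  haveI := GrothLib.DVRExt.isDiscreteValuationRing_of_dominates A K K₁ VC hdC
  let ϖC : VC := ⟨ϖ₁, (W.valuation_le_one_iff _).mp hϖ₁'.le⟩
  have hmC : maximalIdeal VC = Ideal.span {ϖC} := by
    refine le_antisymm (fun z hz => ?_) ((Ideal.span_singleton_le_iff_mem _).mpr
      ((VC.valuation_lt_one_iff ϖC).mpr (valuation_comap_lt_one _ W hϖ₁')))
    have hz1 : W.valuation (algebraMap K₁ M z) < 1 := by
      refine lt_of_le_of_ne ((W.valuation_le_one_iff _).mpr z.2) fun h1 => ?_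
      have : IsUnit (EtRam.inclOfComap W (algebraMap K₁ M) z) := (W.valuation_eq_one_iff _).mpr h1
      exact hz (IsUnit.of_map (EtRam.inclOfComap W (algebraMap K₁ M)) z this)
    rcases eq_or_ne ϖ₁ 0 with h0 | h0
    · have h2 := hϖ₁ z hz1
      rw [h0, map_zero, map_zero, le_zero_iff, Valuation.zero_iff, map_eq_zero] at h2
      rw [show z = 0 from Subtype.ext h2]
      exact Ideal.zero_mem _
    · have hmem : (z : K₁) / ϖ₁ ∈ VC := by
        show algebraMap K₁ M _ ∈ W
        rw [← W.valuation_le_one_iff, map_div₀, map_div₀,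
          div_le_one₀ (zero_lt_iff.mpr ((Valuation.ne_zero_iff _).mpr ((_root_.map_ne_zero _).mpr h0)))]
        exact hϖ₁ z hz1
      exact Ideal.mem_span_singleton.mpr ⟨⟨_, hmem⟩, Subtype.ext (mul_div_cancel₀ (z : K₁) h0).symm⟩
  set VC' := W.comap (algebraMap K₁' M) with hVC'
  let uC : VC := ⟨u₁, (W.valuation_le_one_iff _).mp hu₁.le⟩
  have huC : IsUnit uC := IsUnit.of_map (EtRam.inclOfComap W (algebraMap K₁ M)) uC ((W.valuation_eq_one_iff _).mpr hu₁)
  have hdC' : EtRam.Dominates VC (algebraMap VC K₁') VC' := by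
    refine dominates_comap_of_comp (algebraMap K₁' M) _ W ?_
    refine dominates_of_uniformizer _ W hmC (fun c => c.2) ?_
    exact hϖ₁'
  have hϖ0 : ϖ₁ ≠ 0 := by
    intro h0
    have h1 := congrArg (algebraMap K₁ M) hk
    rw [h0, zero_pow (Nat.mul_ne_zero he0.ne' (by
      rintro rfl
      rw [mul_zero, pow_zero, mul_one] at hk
      have h2 : W.valuation (algebraMap K₁ M u₁) < 1 := by
        rw [← hk, ← IsScalarTower.algebraMap_apply]
        exact hWA.2 π (hπ ▸ Ideal.mem_span_singleton_self π)
      exact h2.ne hu₁)), mul_zero, map_zero, ← IsScalarTower.algebraMap_apply,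
      ← hθe, pow_eq_zero_iff he0.ne', hθ, mul_eq_zero] at h1
    rcases h1 with h1 | h1
    · rw [h1, map_zero] at hvs; exact zero_ne_one hvs
    · rw [map_eq_zero, map_eq_zero_iff _ (IsFractionRing.injective B L)] at h1
      exact IsDiscreteValuationRing.not_a_field B (by rw [hϖ, h1]; exact Ideal.span_singleton_eq_bot.mpr rfl)
  let τ : K₁' := ⟨θ, IntermediateField.mem_adjoin_simple_self K₁ θ⟩ / algebraMap K₁ K₁' (ϖ₁ ^ k)
  have hτ : τ ^ e = algebraMap VC K₁' uC := by
    apply Subtype.ext
    show (θ / algebraMap K₁ M (ϖ₁ ^ k)) ^ e = algebraMap K₁ M u₁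
    rw [div_pow, hθe, IsScalarTower.algebraMap_apply K K₁ M, hk, ← map_pow, ← map_div₀, ← pow_mul, mul_comm k e,
      mul_div_cancel_right₀ _ (pow_ne_zero _ hϖ0)]
  have hτgen : ∀ x : K₁', ∃ g : K₁[X], x = aeval τ g := by
    intro x
    have := IntermediateField.adjoin_simple_toSubalgebra_of_isAlgebraic
      (IsIntegral.isAlgebraic (⟨_, monic_X_pow_sub_C _ he0.ne', hθK₁⟩ : IsIntegral K₁ θ))
    have hx : (x : M) ∈ Algebra.adjoin K₁ {θ} := this ▸ x.2
    rw [Algebra.adjoin_singleton_eq_range_aeval] at hx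
    obtain ⟨g, hg⟩ := hx
    refine ⟨g.comp (C (ϖ₁ ^ k) * X), Subtype.ext ?_⟩
    rw [aeval_comp, map_mul, aeval_C, aeval_X, ← hg]
    have h1 : algebraMap K₁ K₁' (ϖ₁ ^ k) * τ = ⟨θ, IntermediateField.mem_adjoin_simple_self K₁ θ⟩ :=
      mul_div_cancel₀ _ ((_root_.map_ne_zero _).mpr (pow_ne_zero _ hϖ0))
    rw [h1]
    show aeval θ g = _
    exact (aeval_algHom_apply K₁'.val (⟨θ, IntermediateField.mem_adjoin_simple_self K₁ θ⟩ : K₁') g)
  let gA : A →+* VC := RingHom.codRestrict ((algebraMap K K₁).comp (algebraMap A K)) VC hdC.1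
  have hunrC := isUnramifiedExt_of_separable_reduction (K := K₁) hmC τ (X ^ e - C uC)
    (monic_X_pow_sub_C _ he0.ne') (by rw [map_sub, map_pow, aeval_X, aeval_C, hτ, sub_self]) (by
      rw [Polynomial.map_sub, Polynomial.map_pow, map_X, map_C]
      exact separable_X_pow_sub_C _ ((heA ((residue VC).comp gA))).ne_zero (huC.map (residue VC)).ne_zero)
    hτgen
  -- the square `A' → B₁`, `K'₁`
  have hKL : ∀ x ∈ K', x ∈ L₁ := fun x hx => (IntermediateField.adjoin_simple_le_iff
    (K := L₁.restrictScalars K)).mpr (mul_mem (IntermediateField.mem_adjoin_simple_self L s)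
      (L₁.algebraMap_mem _)) hx
  have hKK : ∀ x ∈ K', x ∈ K₁' := fun x hx => (IntermediateField.adjoin_simple_le_iff
    (K := K₁'.restrictScalars K)).mpr (IntermediateField.mem_adjoin_simple_self K₁ θ) hx
  letI : Algebra K' L₁ := RingHom.toAlgebra
    { toFun := fun x => ⟨(x : M), hKL x x.2⟩, map_one' := rfl, map_mul' := fun _ _ => rfl,
      map_zero' := rfl, map_add' := fun _ _ => rfl }
  letI : Algebra K' K₁' := RingHom.toAlgebra
    { toFun := fun x => ⟨(x : M), hKK x x.2⟩, map_one' := rfl, map_mul' := fun _ _ => rfl,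
      map_zero' := rfl, map_add' := fun _ _ => rfl }
  haveI : IsScalarTower K' L₁ M := .of_algebraMap_eq fun _ => rfl
  haveI : IsScalarTower K' K₁' M := .of_algebraMap_eq fun _ => rfl
  haveI : IsScalarTower K K' K₁' := .of_algebraMap_eq fun x => Subtype.ext (by
    show algebraMap K M x = _
    rfl)
  haveI : FiniteDimensional K' K₁' := Module.Finite.right K K' K₁'
  let gAB : VA →+* VB :=
    RingHom.codRestrict ((algebraMap K' L₁).comp VA.subtype) VB fun x => x.2
  letI : Algebra VA VB := gAB.toAlgebra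
  haveI : IsLocalHom (algebraMap VA VB) := ⟨fun x hx => by
    by_contra hnx
    have h1 : W.valuation ((x : K') : M) < 1 := by
      refine lt_of_le_of_ne ((W.valuation_le_one_iff _).mpr x.2) fun h1 => hnx ?_
      exact IsUnit.of_map (EtRam.inclOfComap W (algebraMap K' M)) x ((W.valuation_eq_one_iff _).mpr h1)
    exact ((W.valuation_eq_one_iff _).mp (hx.map (EtRam.inclOfComap W (algebraMap L₁ M)))).not_lt h1⟩
  letI : Algebra VA L₁ := ((algebraMap K' L₁).comp (algebraMap VA K')).toAlgebra
  haveI : IsScalarTower VA K' L₁ := .of_algebraMap_eq' rfl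
  haveI : IsScalarTower VA VB L₁ := .of_algebraMap_eq fun _ => rfl
  have hinjAB : Function.Injective (algebraMap VA VB) := fun x y hxy => by
    apply Subtype.ext; apply Subtype.ext
    exact congrArg (fun t : VB => ((t : L₁) : M)) hxy
  -- residue fields
  letI : Algebra A VA := (RingHom.codRestrict (algebraMap A K') VA hdA.1).toAlgebra
  haveI : IsLocalHom (algebraMap A VA) := isLocalHom_of_dominates _ VA hdA
  letI : Algebra B VB := (RingHom.codRestrict (algebraMap B L₁) VB hdB.1).toAlgebra
  haveI : IsLocalHom (algebraMap B VB) := isLocalHom_of_dominates _ VB hdB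
  obtain ⟨hwB, hsB⟩ := hunrB VB hdB
  have hwAB : EtRam.IsWeaklyUnramified VA VB := by
    refine le_antisymm (((local_hom_TFAE (algebraMap VA VB)).out 0 2 rfl rfl).mp inferInstance) ?_
    rw [← hwB, hϖ, Ideal.map_span, Set.image_singleton, Ideal.span_singleton_le_iff_mem]
    have hθV : θ' ∈ VA := (W.valuation_le_one_iff _).mp hvθ.le
    have hθm : (⟨θ', hθV⟩ : VA) ∈ maximalIdeal VA :=
      (VA.valuation_lt_one_iff _).mpr (valuation_comap_lt_one _ W hvθ)
    have hs0 : s ≠ 0 := fun h0 => by rw [h0, map_zero] at hvs; exact zero_ne_one hvs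
    have hsi : (s'⁻¹ : L₁) ∈ VB := by
      show (algebraMap L₁ M) (s'⁻¹) ∈ W
      rw [← W.valuation_le_one_iff, map_inv₀, map_inv₀, show algebraMap L₁ M s' = s from rfl, hvs, inv_one]
    have : algebraMap B VB ϖ = algebraMap VA VB ⟨θ', hθV⟩ * ⟨s'⁻¹, hsi⟩ := by
      apply Subtype.ext; apply Subtype.ext
      show algebraMap L M (algebraMap B L ϖ) = θ * s⁻¹
      rw [hθ]; field_simp
    rw [this]
    exact Ideal.mul_mem_right _ _ (Ideal.mem_map_of_mem _ hθm)
  haveI hgrAB : Algebra.IsGeometricallyReduced (ResidueField VA) (ResidueField VB) := by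
    haveI : Algebra.IsGeometricallyReduced (ResidueField B) (ResidueField VB) :=
      GrothLib.GeomRed2.isGeometricallyReduced_of_isSeparable (k := ResidueField B) (k' := ResidueField VB)
    letI : Algebra A VB := ((algebraMap B VB).comp (algebraMap A B)).toAlgebra
    haveI : IsLocalHom (algebraMap A VB) := RingHom.isLocalHom_comp (algebraMap B VB) (algebraMap A B)
    haveI : IsScalarTower A B VB := .of_algebraMap_eq' rfl
    haveI : IsScalarTower A VA VB := .of_algebraMap_eq fun a => by
      apply Subtype.ext; apply Subtype.ext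
      show algebraMap L M (algebraMap B L (algebraMap A B a)) = algebraMap K M (algebraMap A K a)
      exact (hAM a).symm
    haveI : IsScalarTower (ResidueField A) (ResidueField B) (ResidueField VB) := .of_algebraMap_eq fun r => by
      obtain ⟨a, rfl⟩ := residue_surjective r
      exact congrArg (residue VB) (IsScalarTower.algebraMap_apply A B VB a)
    haveI : IsScalarTower (ResidueField A) (ResidueField VA) (ResidueField VB) := .of_algebraMap_eq fun r => by
      obtain ⟨a, rfl⟩ := residue_surjective r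
      exact congrArg (residue VB) (IsScalarTower.algebraMap_apply A VA VB a)
    haveI := GrothLib.PseudoCompl.isGeometricallyReduced_trans (ResidueField A) (ResidueField B) (ResidueField VB)
    refine geometricallyReduced_of_bijective (k := ResidueField A) fun r => ?_
    obtain ⟨a, ha⟩ := hresA r
    exact ⟨residue A a, ha⟩
  -- apply the unramified base change
  have hgen' : Algebra.adjoin L₁ (Set.range (algebraMap K₁' M)) = ⊤ := by
    rw [eq_top_iff]
    intro x hx0
    clear hx0
    have hx : x ∈ Algebra.adjoin L (Set.range (algebraMap K₁ M) ∪ {s}) := hgen ▸ Algebra.mem_top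
    induction hx using Algebra.adjoin_induction with
    | mem x hx =>
      rcases hx with ⟨y, rfl⟩ | rfl
      · exact Algebra.subset_adjoin ⟨algebraMap K₁ K₁' y, rfl⟩
      · exact Subalgebra.algebraMap_mem _ (⟨_, IntermediateField.mem_adjoin_simple_self L _⟩ : L₁)
    | algebraMap r => exact Subalgebra.algebraMap_mem _ (algebraMap L L₁ r)
    | add x y _ _ hx hy => exact add_mem hx hy
    | mul x y _ _ hx hy => exact mul_mem hx hy
  have hdW : EtRam.Dominates VB ((algebraMap L₁ M).comp (algebraMap VB L₁)) W :=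
    ⟨fun z => z.2, fun z hz => lt_of_le_of_ne ((W.valuation_le_one_iff _).mpr z.2) fun h1 =>
      hz (IsUnit.of_map (EtRam.inclOfComap W (algebraMap L₁ M)) z ((W.valuation_eq_one_iff _).mpr h1))⟩
  obtain ⟨hwC', hgrC'⟩ := Groth.Agent.S1983.local_ext VA VB K' L₁ hinjAB hwAB K₁' M hgen' W hdW
  -- descend along `C → C'`
  letI : Algebra VC VC' := (RingHom.codRestrict (algebraMap VC K₁') VC' hdC'.1).toAlgebra
  haveI : IsLocalHom (algebraMap VC VC') := isLocalHom_of_dominates _ VC' hdC'
  letI : Algebra VC' W := (EtRam.inclOfComap W (algebraMap K₁' M)).toAlgebra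
  haveI : IsLocalHom (algebraMap VC' W) := EtRam.isLocalHom_inclOfComap _ _
  letI : Algebra VC W := (EtRam.inclOfComap W (algebraMap K₁ M)).toAlgebra
  haveI : IsLocalHom (algebraMap VC W) := EtRam.isLocalHom_inclOfComap _ _
  haveI : IsScalarTower VC VC' W := .of_algebraMap_eq fun _ => rfl
  obtain ⟨hwC, hsC⟩ := hunrC VC' hdC'
  have hwC2 : (maximalIdeal VC').map (algebraMap VC' W) = maximalIdeal W := hwC'
  refine ⟨?_, ?_⟩
  · show (maximalIdeal VC).map (algebraMap VC W) = maximalIdeal W
    rw [IsScalarTower.algebraMap_eq VC VC' W, ← Ideal.map_map, hwC, hwC2]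
  · haveI : Algebra.IsGeometricallyReduced (ResidueField VC') (ResidueField W) := by
      convert hgrC' using 1
      apply Algebra.algebra_ext
      intro r
      obtain ⟨v, rfl⟩ := residue_surjective r
      rfl
    haveI : Algebra.IsGeometricallyReduced (ResidueField VC) (ResidueField VC') :=
      GrothLib.GeomRed2.isGeometricallyReduced_of_isSeparable (k := ResidueField VC) (k' := ResidueField VC')
    haveI : IsScalarTower (ResidueField VC) (ResidueField VC') (ResidueField W) := .of_algebraMap_eq fun r => by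
      obtain ⟨a, rfl⟩ := residue_surjective r
      exact congrArg (residue W) (IsScalarTower.algebraMap_apply VC VC' W a)
    have hfin := GrothLib.PseudoCompl.isGeometricallyReduced_trans (ResidueField VC) (ResidueField VC') (ResidueField W)
    convert! hfin using 4
    apply Algebra.algebra_ext
    intro r
    obtain ⟨v, rfl⟩ := residue_surjective r
    rfl

end GrothLib.EtRam10
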