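import Groth.Agent.Lib.EtRam10.Generators
import Mathlib.FieldTheory.Galois.Basic
import Mathlib.GroupTheory.PGroup

set_option linter.all false
set_option backward.isDefEq.respectTransparency false
set_option autoImplicit false

/-!
# Ramification in Artin–Schreier extensions of a DVR
-/

universe u

open Polynomial IsLocalRing

namespace GrothLib.EtRam10

/-- The fourth case of the ramification classification of degree `p` extensions. -/
def Inseparable4 (p : ℕ) (A : Type u) [CommRing A] [IsLocalRing A] {L : Type u} [Field L] (g : A →+* L) : Prop :=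
  (∃ V : ValuationSubring L, EtRam.Dominates A g V) ∧
      (∀ V V' : ValuationSubring L, EtRam.Dominates A g V → EtRam.Dominates A g V' → V = V') ∧
      ∀ (V : ValuationSubring L) (h : EtRam.Dominates A g V),
        letI : Algebra A V := (RingHom.codRestrict g V h.1).toAlgebra
        ∀ [IsLocalHom (algebraMap A V)],
          EtRam.IsWeaklyUnramified A V ∧
            IsPurelyInseparable (IsLocalRing.ResidueField A) (IsLocalRing.ResidueField V) ∧
            Module.finrank (IsLocalRing.ResidueField A) (IsLocalRing.ResidueField V) = p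

variable {A : Type u} [CommRing A] [IsDomain A] [IsDiscreteValuationRing A]
  {K : Type u} [Field K] [Algebra A K] [IsFractionRing A K]
  {L : Type u} [Field L] [Algebra K L] [Algebra A L] [IsScalarTower A K L]

theorem exists_aeval_of_adjoin_eq_top (z : L) (hint : IsIntegral K z)
    (hgen : IntermediateField.adjoin K {z} = ⊤) (x : L) : ∃ g : K[X], x = aeval z g := by
  have h1 : x ∈ (IntermediateField.adjoin K {z}).toSubalgebra := by rw [hgen]; trivial
  rw [IntermediateField.adjoin_simple_toSubalgebra_of_isAlgebraic hint.isAlgebraic,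
    Algebra.adjoin_singleton_eq_range_aeval] at h1
  obtain ⟨g, hg⟩ := h1
  exact ⟨g, hg.symm⟩

theorem finite_of_adjoin_eq_top (z : L) (f : K[X]) (hf : f.Monic) (hz : aeval z f = 0)
    (hgen : IntermediateField.adjoin K {z} = ⊤) :
    FiniteDimensional K L ∧ Module.finrank K L ≤ f.natDegree := by
  have hint : IsIntegral K z := ⟨f, hf, hz⟩
  haveI := IntermediateField.adjoin.finiteDimensional hint
  let e := (IntermediateField.equivOfEq hgen).trans IntermediateField.topEquiv
  refine ⟨e.toLinearEquiv.finiteDimensional, ?_⟩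
  rw [← e.toLinearEquiv.finrank_eq, IntermediateField.adjoin.finrank hint]
  exact natDegree_le_of_dvd (minpoly.dvd K z hz) hf.ne_zero

section AS

variable {p : ℕ} [hp : Fact p.Prime] [CharP K p] (ξ : K) (z : L)
  (hz : z ^ p - z = algebraMap K L ξ) (hgen : IntermediateField.adjoin K {z} = ⊤)

theorem monic_as : (X ^ p - (X + C ξ) : K[X]).Monic :=
  monic_X_pow_sub (by
    refine lt_of_le_of_lt (degree_add_le _ _) (max_lt ?_ ?_)
    · rw [degree_X]; exact_mod_cast hp.out.one_lt
    · exact degree_C_le.trans_lt (by exact_mod_cast hp.out.pos))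

theorem natDegree_as : (X ^ p - (X + C ξ) : K[X]).natDegree = p := by
  rw [natDegree_sub_eq_left_of_natDegree_lt] <;> simp [natDegree_X_add_C, hp.out.one_lt]

include hz in
theorem aeval_as : aeval z (X ^ p - (X + C ξ) : K[X]) = 0 := by
  simp [← hz]

include hz hgen in
theorem as_finite : FiniteDimensional K L ∧ Module.finrank K L ≤ p := by
  have := finite_of_adjoin_eq_top z _ (monic_as ξ) (aeval_as ξ z hz) hgen
  rwa [natDegree_as] at this

include hz in
theorem roots_as (y : L) (hy : y ^ p - y = algebraMap K L ξ) : ∃ j : ℕ, y = z + j := by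
  classical
  haveI : CharP L p := charP_of_injective_algebraMap (algebraMap K L).injective p
  set Q : L[X] := (X ^ p - (X + C ξ) : K[X]).map (algebraMap K L) with hQ
  have hQ0 : Q ≠ 0 := ((monic_as ξ).map _).ne_zero
  have hroot : ∀ w : L, w ^ p - w = algebraMap K L ξ → w ∈ Q.roots.toFinset := by
    intro w hw
    rw [Multiset.mem_toFinset, mem_roots hQ0]
    simp [hQ, ← hw]
  set S : Finset L := (Finset.range p).image (fun j : ℕ => z + (j : L)) with hS
  have hScard : S.card = p := by
    rw [hS, Finset.card_image_of_injOn, Finset.card_range]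
    intro i hi j hj hij
    exact CharP.natCast_injOn_Iio L p (Finset.mem_range.mp hi) (Finset.mem_range.mp hj) (add_left_cancel hij)
  have hsub : S ⊆ Q.roots.toFinset := by
    intro w hw
    obtain ⟨j, -, rfl⟩ := Finset.mem_image.mp hw
    refine hroot _ ?_
    rw [add_pow_char, ← hz]
    have : (j : L) ^ p = j := by
      rw [← frobenius_def, map_natCast]
    rw [this]; ring
  have hle : Q.roots.toFinset.card ≤ S.card := by
    rw [hScard]
    refine (Multiset.toFinset_card_le _).trans ((card_roots' _).trans ?_)
    rw [hQ, (monic_as ξ).natDegree_map, natDegree_as]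
  have := hroot y hy
  rw [← Finset.eq_of_subset_of_card_le hsub hle, hS] at this
  obtain ⟨j, -, rfl⟩ := Finset.mem_image.mp this
  exact ⟨j, rfl⟩

include hz hgen in
theorem as_isGalois : IsGalois K L := by
  classical
  haveI : CharP L p := charP_of_injective_algebraMap (algebraMap K L).injective p
  have hsep : (X ^ p - (X + C ξ) : K[X]).Separable := by
    rw [separable_def, derivative_sub, derivative_add, derivative_X_pow, derivative_C, derivative_X,
      CharP.cast_eq_zero, map_zero, zero_mul, add_zero, zero_sub]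
    exact isCoprime_one_right.neg_right
  set Q : L[X] := (X ^ p - (X + C ξ) : K[X]).map (algebraMap K L) with hQ
  have hQ0 : Q ≠ 0 := ((monic_as ξ).map _).ne_zero
  have hsplit : Q.Splits := by
    rw [splits_iff_card_roots]
    refine le_antisymm (card_roots' _) ?_
    rw [hQ, (monic_as ξ).natDegree_map, natDegree_as, ← hQ]
    calc p = ((Finset.range p).image (fun j : ℕ => z + (j : L))).card := by
          rw [Finset.card_image_of_injOn, Finset.card_range]
          intro i hi j hj hij
          exact CharP.natCast_injOn_Iio L p (Finset.mem_range.mp hi) (Finset.mem_range.mp hj)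
            (add_left_cancel hij)
      _ ≤ Q.roots.toFinset.card := by
          refine Finset.card_le_card fun w hw => ?_
          obtain ⟨j, -, rfl⟩ := Finset.mem_image.mp hw
          rw [Multiset.mem_toFinset, mem_roots hQ0]
          have : (j : L) ^ p = j := by rw [← frobenius_def, map_natCast]
          simp [hQ, add_pow_char, this]
          linear_combination hz
      _ ≤ Multiset.card Q.roots := Multiset.toFinset_card_le _
  haveI : (X ^ p - (X + C ξ) : K[X]).IsSplittingField K L := by
    refine ⟨hsplit, ?_⟩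
    rw [eq_top_iff]
    intro x _
    obtain ⟨g, rfl⟩ := exists_aeval_of_adjoin_eq_top z ⟨_, monic_as ξ, aeval_as ξ z hz⟩ hgen x
    refine Algebra.adjoin_mono ?_ (aeval_mem_adjoin_singleton K z)
    rw [Set.singleton_subset_iff, mem_rootSet_of_ne (monic_as ξ).ne_zero]
    exact aeval_as ξ z hz
  exact IsGalois.of_separable_splitting_field hsep

include hz hgen in
theorem as_finrank : Module.finrank K L = 1 ∨ Module.finrank K L = p := by
  haveI := (as_finite ξ z hz hgen).1
  haveI := as_isGalois ξ z hz hgen
  haveI : CharP L p := charP_of_injective_algebraMap (algebraMap K L).injective p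
  have hpg : IsPGroup p Gal(L/K) := by
    intro σ
    refine ⟨1, ?_⟩
    obtain ⟨j, hj⟩ := roots_as ξ z hz (σ z) (by rw [← map_pow, ← map_sub, hz, AlgEquiv.commutes])
    have hk : ∀ k : ℕ, (σ ^ k) z = z + k * j := by
      intro k
      induction k with
      | zero => simp
      | succ k ih =>
        rw [pow_succ', AlgEquiv.mul_apply, ih, map_add, map_mul, map_natCast, map_natCast, hj]
        push_cast; ring
    rw [pow_one]
    apply AlgEquiv.ext
    intro x
    obtain ⟨g, rfl⟩ := exists_aeval_of_adjoin_eq_top z ⟨_, monic_as ξ, aeval_as ξ z hz⟩ hgen x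
    rw [AlgEquiv.one_apply, ← aeval_algHom_apply, hk, CharP.cast_eq_zero, zero_mul, add_zero]
  obtain ⟨e, he⟩ := IsPGroup.iff_card.mp hpg
  rw [IsGalois.card_aut_eq_finrank] at he
  have hle := (as_finite ξ z hz hgen).2
  rw [he] at hle ⊢
  rcases e with _ | _ | e
  · left; simp
  · right; simp
  · exfalso
    have := Nat.pow_lt_pow_right hp.out.one_lt (show 1 < e + 1 + 1 by omega)
    rw [pow_one] at this
    omega

variable {π : A} (hπ : maximalIdeal A = Ideal.span {π})

include hz hgen hπ in
theorem as_unramified (a : A) (ha : algebraMap A K a = ξ) :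
    EtRam.IsUnramifiedExt A (algebraMap A L) := by
  haveI : CharP A p := (algebraMap A K).charP (IsFractionRing.injective A K) p
  have hm : (X ^ p - (X + C a) : A[X]).Monic :=
    monic_X_pow_sub (by
      refine lt_of_le_of_lt (degree_add_le _ _) (max_lt ?_ ?_)
      · rw [degree_X]; exact_mod_cast hp.out.one_lt
      · exact degree_C_le.trans_lt (by exact_mod_cast hp.out.pos))
  refine isUnramifiedExt_of_separable_reduction (K := K) hπ z _ hm ?_ ?_
    (exists_aeval_of_adjoin_eq_top z ⟨_, monic_as ξ, aeval_as ξ z hz⟩ hgen)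
  · simp [IsScalarTower.algebraMap_apply A K L, ha, ← hz]
  · have h0 : ((p : ℕ) : ResidueField A) = 0 := by
      rw [← map_natCast (residue A), CharP.cast_eq_zero, map_zero]
    rw [Polynomial.map_sub, Polynomial.map_pow, Polynomial.map_add, map_X, map_C, separable_def,
      derivative_sub, derivative_add, derivative_X_pow, derivative_C, derivative_X, h0, map_zero,
      zero_mul, add_zero, zero_sub]
    exact isCoprime_one_right.neg_right

theorem valuation_zpow_one_lt {V : ValuationSubring L} (h : EtRam.Dominates A (algebraMap A L) V)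
    (hπ : maximalIdeal A = Ideal.span {π}) (K : Type u) [Field K] [Algebra A K] [IsFractionRing A K]
    [Algebra K L] [IsScalarTower A K L]
    {n : ℕ} (hn : 0 < n) : 1 < ((V.valuation (algebraMap A L π)) ^ n)⁻¹ :=
  one_lt_inv₀ (pow_pos (valuation_pi_pos K hπ V) n) |>.mpr
    (pow_lt_one₀ zero_le' (h.2 π (hπ ▸ Ideal.mem_span_singleton_self π)) hn.ne')

include hz hπ in
theorem valuation_z_pow {V : ValuationSubring L} (h : EtRam.Dominates A (algebraMap A L) V)
    {n : ℕ} (hn : 0 < n) {a : A} (ha : a ∉ maximalIdeal A)
    (he : ξ * algebraMap A K π ^ n = algebraMap A K a) :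
    V.valuation z ^ p * V.valuation (algebraMap A L π) ^ n = 1 := by
  have hv : V.valuation (algebraMap K L ξ) * V.valuation (algebraMap A L π) ^ n = 1 := by
    rw [← map_pow, ← map_mul, IsScalarTower.algebraMap_apply A K L π, ← map_pow, ← map_mul, he,
      ← IsScalarTower.algebraMap_apply, valuation_algebraMap_eq_one h ha]
  have hb : 1 < V.valuation (algebraMap K L ξ) := by
    rw [eq_inv_of_mul_eq_one_left hv]
    exact valuation_zpow_one_lt h hπ K hn
  have h1 : 1 < V.valuation z := by
    by_contra hle
    push Not at hle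
    rw [← hz] at hb
    exact absurd hb (not_lt.mpr (V.valuation.map_sub_le (by rw [map_pow]; exact pow_le_one₀ zero_le' hle) hle))
  rwa [← hz, Valuation.map_sub_eq_of_lt_left, map_pow] at hv
  rw [map_pow]
  calc V.valuation z = V.valuation z ^ 1 := (pow_one _).symm
    _ < V.valuation z ^ p := pow_lt_pow_right₀ h1 hp.out.one_lt

include hz hgen hπ in
theorem as_totallyRamified {n : ℕ} {a : A} (hn : 0 < n) (hpn : ¬ p ∣ n) (ha : a ∉ maximalIdeal A)
    (he : ξ * algebraMap A K π ^ n = algebraMap A K a) :
    EtRam.IsTotallyRamified A (algebraMap A L) ∧ Module.finrank K L = p := by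
  haveI := (as_finite ξ z hz hgen).1
  have hco : Int.gcd (n : ℤ) (p : ℤ) = 1 :=
    (Nat.coprime_comm.mp ((Nat.Prime.coprime_iff_not_dvd hp.out).mpr hpn))
  obtain ⟨α, β, hab⟩ : ∃ α β : ℤ, α * n + β * p = 1 :=
    Int.isCoprime_iff_gcd_eq_one.mpr hco
  refine (finrank_eq_and_isTotallyRamified hπ (z ^ (-α) * algebraMap A L π ^ β) ?_ hp.out.pos
    (as_finite ξ z hz hgen).2).symm
  intro V h
  have h1 := valuation_z_pow ξ z hz hπ h hn ha he
  have hpne := (valuation_pi_pos K hπ V).ne'
  rw [map_mul, map_zpow₀, map_zpow₀, mul_pow, ← zpow_natCast, ← zpow_natCast, ← zpow_mul, ← zpow_mul,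
    show -α * (p : ℤ) = (p : ℤ) * (-α) by ring, zpow_mul, zpow_natCast,
    eq_inv_of_mul_eq_one_left h1, inv_zpow', neg_neg, ← zpow_natCast, ← zpow_mul, ← zpow_add₀ hpne,
    show (n : ℤ) * α + β * p = 1 by linarith, zpow_one]

include hz hgen hπ in
theorem as_inseparable {n : ℕ} {a : A} (hn : 0 < n) (hpn : p ∣ n)
    (hna : ∀ r : A, residue A a ≠ residue A r ^ p)
    (he : ξ * algebraMap A K π ^ n = algebraMap A K a) :
    Inseparable4 p A (algebraMap A L) := by
  haveI := (as_finite ξ z hz hgen).1
  obtain ⟨m, rfl⟩ := hpn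
  have hm : 0 < m := Nat.pos_of_mul_pos_left hn
  haveI : CharP (ResidueField A) p := (CharP.charP_iff_prime_eq_zero hp.out).mpr (by
    haveI : CharP A p := (algebraMap A K).charP (IsFractionRing.injective A K) p
    rw [← map_natCast (residue A), CharP.cast_eq_zero, map_zero])
  have ha : a ∉ maximalIdeal A := fun h => hna 0 (by
    rw [map_zero, zero_pow hp.out.ne_zero, IsLocalRing.residue_eq_zero_iff]; exact h)
  refine ⟨exists_dominates, (residually_inseparable (K := K) hπ hp.out (z * algebraMap A L π ^ m) a hna ?_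
    (as_finite ξ z hz hgen).2).2⟩
  intro V h
  have h1 := valuation_z_pow ξ z hz hπ h (Nat.mul_pos hp.out.pos hm) ha he
  rw [mul_comm p m, pow_mul, ← mul_pow, pow_eq_one_iff_of_nonneg zero_le' hp.out.ne_zero, ← map_pow, ← map_mul] at h1
  refine ⟨h1.le, ?_⟩
  have he' : (algebraMap K L ξ) * algebraMap A L π ^ (p * m) = algebraMap A L a := by
    rw [IsScalarTower.algebraMap_apply A K L a, ← he, map_mul, map_pow, ← IsScalarTower.algebraMap_apply]
  have h2 : (z * algebraMap A L π ^ m) ^ p - algebraMap A L a =
      z * algebraMap A L π ^ m * algebraMap A L π ^ (m * (p - 1)) := by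
    rw [← he', ← hz, mul_pow, ← pow_mul, mul_assoc, ← pow_add]
    have : m + m * (p - 1) = p * m := by
      obtain ⟨q, hq⟩ := Nat.exists_eq_add_of_lt hp.out.pos
      subst hq; simp; ring
    rw [this, mul_comm m p]; ring
  rw [h2, map_mul, h1, one_mul, map_pow]
  exact pow_lt_one₀ zero_le' (h.2 π (hπ ▸ Ideal.mem_span_singleton_self π))
    (Nat.mul_ne_zero hm.ne' (Nat.sub_ne_zero_of_lt hp.out.one_lt))

omit hz hgen in
include hπ in
theorem as_cases : ∀ (n : ℕ) (ξ : K) (z : L), z ^ p - z = algebraMap K L ξ →
    IntermediateField.adjoin K {z} = ⊤ → ∀ a : A, ξ * algebraMap A K π ^ n = algebraMap A K a →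
    (EtRam.IsUnramifiedExt A (algebraMap A L)) ∨
      (EtRam.IsTotallyRamified A (algebraMap A L) ∧ Module.finrank K L = p) ∨
      Inseparable4 p A (algebraMap A L) := by
  intro n
  induction n with
  | zero =>
    intro ξ z hz hgen a he
    rw [pow_zero, mul_one] at he
    exact .inl (as_unramified ξ z hz hgen hπ a he.symm)
  | succ n ih =>
    intro ξ z hz hgen a he
    have hπK : algebraMap A K π ≠ 0 :=
      (_root_.map_ne_zero_iff _ (IsFractionRing.injective A K)).mpr (ne_zero_of_maximalIdeal_eq hπ)
    by_cases ha : a ∈ maximalIdeal A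
    · rw [hπ, Ideal.mem_span_singleton] at ha
      obtain ⟨b, rfl⟩ := ha
      refine ih ξ z hz hgen b (mul_left_cancel₀ hπK ?_)
      rw [← map_mul, ← he]; ring
    by_cases hpn : p ∣ n + 1
    swap
    · exact .inr (.inl (as_totallyRamified ξ z hz hgen hπ n.succ_pos hpn ha he))
    by_cases hna : ∀ r : A, residue A a ≠ residue A r ^ p
    · exact .inr (.inr (as_inseparable ξ z hz hgen hπ n.succ_pos hpn hna he))
    push Not at hna
    obtain ⟨r, hr⟩ := hna
    rw [← map_pow, ← sub_eq_zero, ← map_sub, IsLocalRing.residue_eq_zero_iff, hπ,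
      Ideal.mem_span_singleton] at hr
    obtain ⟨b, hb⟩ := hr
    obtain ⟨m, hm⟩ := hpn
    have hmn : m ≤ n := by
      rcases Nat.eq_zero_or_pos m with rfl | hm0
      · exact Nat.zero_le _
      have := Nat.mul_le_mul_right m hp.out.two_le
      omega
    haveI : CharP L p := charP_of_injective_algebraMap (algebraMap K L).injective p
    set s : K := algebraMap A K r / algebraMap A K π ^ m with hs
    refine ih (ξ - (s ^ p - s)) (z - algebraMap K L s) ?_ ?_ (b + r * π ^ (n - m)) ?_
    · rw [sub_pow_char, map_sub, map_sub, map_pow, ← hz]; ring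
    · rw [eq_top_iff, ← hgen, IntermediateField.adjoin_simple_le_iff]
      have h1 := IntermediateField.mem_adjoin_simple_self K (z - algebraMap K L s)
      have h2 := add_mem h1 ((IntermediateField.adjoin K {z - algebraMap K L s}).algebraMap_mem s)
      rwa [sub_add_cancel] at h2
    · apply mul_right_cancel₀ hπK
      have h1 : s ^ p * algebraMap A K π ^ (n + 1) = algebraMap A K (r ^ p) := by
        rw [hs, hm, map_pow, div_pow, ← pow_mul, mul_comm m p, div_mul_cancel₀ _ (pow_ne_zero _ hπK)]
      have h2 : s * algebraMap A K π ^ n = algebraMap A K (r * π ^ (n - m)) := by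
        rw [hs, map_mul, map_pow, div_mul_eq_mul_div, div_eq_iff (pow_ne_zero _ hπK), mul_assoc,
          ← pow_add, Nat.sub_add_cancel hmn]
      have h3 : algebraMap A K a - algebraMap A K (r ^ p) = algebraMap A K π * algebraMap A K b := by
        rw [← map_sub, ← map_mul, hb]
      rw [map_add]
      linear_combination he - h1 + h3 + (algebraMap A K π) * h2

end AS

end GrothLib.EtRam10
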