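import Groth.Agent.Lib.TameAbh21.Root
import Groth.Agent.S1989
import Groth.Agent.S1990
import Mathlib.FieldTheory.Galois.Basic
import Mathlib.FieldTheory.Normal.Closure
import Mathlib.FieldTheory.IsSepClosed

set_option linter.all false
set_option backward.isDefEq.respectTransparency false
set_option autoImplicit false

/-!
# Composita and Galois closures of tame and unramified extensions
-/

universe u

open IsLocalRing

namespace GrothLib.EtRam10

/-- Tame or unramified, as chosen by `b`. -/
def TameOrUnr (b : Bool) (A : Type u) [CommRing A] [IsLocalRing A] {L : Type u} [Field L] (g : A →+* L) : Prop :=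
  match b with
  | true => EtRam.IsTamelyRamified A g
  | false => EtRam.IsUnramifiedExt A g

variable {A K : Type u} [CommRing A] [IsDomain A] [IsDiscreteValuationRing A] [Field K] [Algebra A K]
  [IsFractionRing A K]

theorem isTamelyRamified_of_isUnramifiedExt {L : Type u} [Field L] [Algebra K L] [FiniteDimensional K L]
    [Algebra.IsSeparable K L] (h : EtRam.IsUnramifiedExt A ((algebraMap K L).comp (algebraMap A K))) :
    EtRam.IsTamelyRamified A ((algebraMap K L).comp (algebraMap A K)) := by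
  intro V hV
  letI : Algebra A V := (RingHom.codRestrict ((algebraMap K L).comp (algebraMap A K)) V hV.1).toAlgebra
  intro hl
  obtain ⟨hdvr, hinj, -⟩ := GrothLib.DVRExt.dominates_algebra A K L V hV
  haveI := hdvr
  obtain ⟨hw, hs⟩ := @h V hV hl
  refine ⟨hs, fun p hp _ hd => ?_⟩
  rw [(GrothLib.DVRExt.weaklyUnramified_iff (A := A) (B := V) hinj).mp hw] at hd
  exact hp.not_dvd_one hd

theorem of_pair (b : Bool) {L₁ L₂ F : Type u} [Field L₁] [Field L₂] [Field F] [Algebra K L₁] [Algebra K L₂]
    [Algebra K F] [FiniteDimensional K L₁] [FiniteDimensional K L₂] [Algebra.IsSeparable K L₁]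
    [Algebra.IsSeparable K L₂] [FiniteDimensional K F] [Algebra.IsSeparable K F]
    [Algebra L₁ F] [IsScalarTower K L₁ F] (ι : L₂ →ₐ[K] F)
    (hgen : IntermediateField.adjoin L₁ (Set.range ι) = ⊤)
    (h₁ : TameOrUnr b A ((algebraMap K L₁).comp (algebraMap A K)))
    (h₂ : TameOrUnr b A ((algebraMap K L₂).comp (algebraMap A K))) :
    TameOrUnr b A ((algebraMap K F).comp (algebraMap A K)) := by
  have key : ∀ (V : ValuationSubring L₁) (hV : EtRam.Dominates A ((algebraMap K L₁).comp (algebraMap A K)) V),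
      TameOrUnr b V ((algebraMap L₁ F).comp V.subtype) := by
    intro V hV
    letI : Algebra A V := (RingHom.codRestrict ((algebraMap K L₁).comp (algebraMap A K)) V hV.1).toAlgebra
    obtain ⟨hdvr, hinj, hl⟩ := GrothLib.DVRExt.dominates_algebra A K L₁ V hV
    haveI := hdvr
    haveI : IsLocalHom (algebraMap A V) := hl
    letI : Algebra A L₁ := ((algebraMap K L₁).comp (algebraMap A K)).toAlgebra
    haveI : IsScalarTower A K L₁ := .of_algebraMap_eq fun _ => rfl
    haveI : IsScalarTower A V L₁ := .of_algebraMap_eq fun _ => rfl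
    have hcomm : (ι : L₂ →+* F).comp (algebraMap K L₂) = (algebraMap L₁ F).comp (algebraMap K L₁) := by
      rw [← IsScalarTower.algebraMap_eq K L₁ F]
      exact RingHom.ext ι.commutes
    have htame₂ : EtRam.IsTamelyRamified A ((algebraMap K L₂).comp (algebraMap A K)) := by
      cases b
      · exact isTamelyRamified_of_isUnramifiedExt h₂
      · exact h₂
    have hp : ∀ p : ℕ, p.Prime → CharP (ResidueField V) p → CharP (ResidueField A) p := fun p hp hc =>
      (algebraMap (ResidueField A) (ResidueField V)).charP_iff_charP p |>.mpr hc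
    haveI : FiniteDimensional L₁ F := Module.Finite.right K L₁ F
    haveI : Algebra.IsSeparable L₁ F := Algebra.isSeparable_tower_top_of_isSeparable K L₁ F
    cases b
    · intro W hW
      letI : Algebra V W := (RingHom.codRestrict ((algebraMap L₁ F).comp V.subtype) W hW.1).toAlgebra
      intro hlW
      obtain ⟨V', h', hs, hd⟩ := @GrothLib.TameAbh21.baseChange A V K L₁ L₂ F _ _ _ _ _ _ _ _ hinj _ _ _ _ _ _ _ _ _ _ _ _ _ _ htame₂ _ _ (ι : L₂ →+* F) hcomm hgen W hW hlW
      letI : Algebra A V' := (RingHom.codRestrict ((algebraMap K L₂).comp (algebraMap A K)) V' h'.1).toAlgebra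
      obtain ⟨hdvr', hinj', hl'⟩ := GrothLib.DVRExt.dominates_algebra A K L₂ V' h'
      haveI := hdvr'
      haveI : IsLocalHom (algebraMap A V') := hl'
      have he := (GrothLib.DVRExt.weaklyUnramified_iff (A := A) (B := V') hinj').mp (@h₂ V' h' hl').1
      rw [he, Nat.dvd_one] at hd
      obtain ⟨hdW, hinjW, -⟩ := GrothLib.DVRExt.dominates_algebra V L₁ F W hW
      haveI := hdW
      exact ⟨(GrothLib.DVRExt.weaklyUnramified_iff (A := V) (B := W) hinjW).mpr hd, hs⟩
    · intro W hW
      letI : Algebra V W := (RingHom.codRestrict ((algebraMap L₁ F).comp V.subtype) W hW.1).toAlgebra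
      intro hlW
      obtain ⟨V', h', hs, hd⟩ := @GrothLib.TameAbh21.baseChange A V K L₁ L₂ F _ _ _ _ _ _ _ _ hinj _ _ _ _ _ _ _ _ _ _ _ _ _ _ htame₂ _ _ (ι : L₂ →+* F) hcomm hgen W hW hlW
      letI : Algebra A V' := (RingHom.codRestrict ((algebraMap K L₂).comp (algebraMap A K)) V' h'.1).toAlgebra
      obtain ⟨hdvr', hinj', hl'⟩ := GrothLib.DVRExt.dominates_algebra A K L₂ V' h'
      exact ⟨hs, fun p hpr hc hdvd => (@h₂ V' h' hl').2 p hpr (hp p hpr hc) (hdvd.trans hd)⟩
  obtain ⟨ht, hu⟩ := Groth.Agent.S1990.result A K L₁ F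
  cases b
  · exact hu h₁ key
  · exact ht h₁ key

theorem of_algHom (b : Bool) {L M : Type u} [Field L] [Field M] [Algebra K L] [Algebra K M]
    [FiniteDimensional K M] [Algebra.IsSeparable K M] (f : L →ₐ[K] M)
    (h : TameOrUnr b A ((algebraMap K M).comp (algebraMap A K))) :
    TameOrUnr b A ((algebraMap K L).comp (algebraMap A K)) := by
  letI : Algebra L M := f.toRingHom.toAlgebra
  haveI : IsScalarTower K L M := .of_algebraMap_eq fun r => (f.commutes r).symm
  obtain ⟨ht, hu⟩ := Groth.Agent.S1989.result A K L M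
  cases b
  · exact hu h
  · exact ht h

variable {Ω : Type u} [Field Ω] [Algebra K Ω] [Algebra.IsSeparable K Ω]

theorem sup (b : Bool) (E₁ E₂ : IntermediateField K Ω) [FiniteDimensional K E₁] [FiniteDimensional K E₂]
    (h₁ : TameOrUnr b A ((algebraMap K E₁).comp (algebraMap A K)))
    (h₂ : TameOrUnr b A ((algebraMap K E₂).comp (algebraMap A K))) :
    TameOrUnr b A ((algebraMap K ↥(E₁ ⊔ E₂)).comp (algebraMap A K)) := by
  haveI : FiniteDimensional K ↥(E₁ ⊔ E₂) := IntermediateField.finiteDimensional_sup E₁ E₂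
  letI : Algebra E₁ ↥(E₁ ⊔ E₂) := (IntermediateField.inclusion le_sup_left).toRingHom.toAlgebra
  haveI : IsScalarTower K E₁ ↥(E₁ ⊔ E₂) := .of_algebraMap_eq fun _ => rfl
  refine of_pair b (IntermediateField.inclusion (le_sup_right : E₂ ≤ E₁ ⊔ E₂)) ?_ h₁ h₂
  set S := IntermediateField.adjoin E₁ (Set.range (IntermediateField.inclusion (le_sup_right : E₂ ≤ E₁ ⊔ E₂)))
  have hle : E₁ ⊔ E₂ ≤ (S.restrictScalars K).map (E₁ ⊔ E₂).val := by
    refine sup_le (fun x hx => ?_) fun x hx => ?_
    · exact ⟨algebraMap E₁ _ ⟨x, hx⟩, S.algebraMap_mem _, rfl⟩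
    · exact ⟨_, IntermediateField.subset_adjoin _ _ ⟨⟨x, hx⟩, rfl⟩, rfl⟩
  rw [eq_top_iff]
  intro x _
  obtain ⟨y, hy, hyx⟩ := hle x.2
  obtain rfl : y = x := Subtype.ext hyx
  exact hy

theorem normalClosure_spec (b : Bool) [Normal K Ω] {L : Type u} [Field L] [Algebra K L] [FiniteDimensional K L]
    [Algebra.IsSeparable K L] (f₀ : L →ₐ[K] Ω)
    (h : TameOrUnr b A ((algebraMap K L).comp (algebraMap A K))) :
    ∃ (M : IntermediateField K Ω) (_ : FiniteDimensional K M) (_ : IsGalois K M) (_ : L →ₐ[K] M),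
      TameOrUnr b A ((algebraMap K M).comp (algebraMap A K)) := by
  classical
  have hf : ∀ s : Finset (L →ₐ[K] Ω), ∃ _ : FiniteDimensional K ↥(s.sup fun f => f.fieldRange),
      TameOrUnr b A ((algebraMap K ↥(s.sup fun f => f.fieldRange)).comp (algebraMap A K)) := by
    intro s
    induction s using Finset.induction with
    | empty =>
      rw [Finset.sup_empty]
      exact ⟨inferInstance, of_algHom b ((Algebra.ofId K L).comp (IntermediateField.botEquiv K Ω).toAlgHom) h⟩
    | insert f s hfs ih =>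
      obtain ⟨hfd, hih⟩ := ih
      rw [Finset.sup_insert]
      haveI := hfd
      let e := AlgEquiv.ofInjectiveField f
      haveI : FiniteDimensional K f.fieldRange := Module.Finite.equiv e.toLinearEquiv
      exact ⟨IntermediateField.finiteDimensional_sup _ _, sup b f.fieldRange _ (of_algHom b e.symm.toAlgHom h) hih⟩
  have heq : (Finset.univ.sup fun f : L →ₐ[K] Ω => f.fieldRange) = IntermediateField.normalClosure K L Ω := by
    rw [normalClosure_def, Finset.sup_univ_eq_iSup]
  obtain ⟨hfd, hM⟩ := hf Finset.univ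
  rw [heq] at hfd hM
  haveI := hfd
  haveI : Normal K ↥(IntermediateField.normalClosure K L Ω) := normalClosure.normal K L Ω
  exact ⟨IntermediateField.normalClosure K L Ω, hfd, {},
    (IntermediateField.inclusion f₀.fieldRange_le_normalClosure).comp (AlgEquiv.ofInjectiveField f₀).toAlgHom, hM⟩

theorem pair_spec (b : Bool) {L₁ L₂ : Type u} [Field L₁] [Field L₂] [Algebra K L₁] [Algebra K L₂]
    [FiniteDimensional K L₁] [FiniteDimensional K L₂] [Algebra.IsSeparable K L₁] [Algebra.IsSeparable K L₂]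
    (f₁ : L₁ →ₐ[K] Ω) (f₂ : L₂ →ₐ[K] Ω)
    (h₁ : TameOrUnr b A ((algebraMap K L₁).comp (algebraMap A K)))
    (h₂ : TameOrUnr b A ((algebraMap K L₂).comp (algebraMap A K))) :
    ∃ (M : IntermediateField K Ω) (_ : FiniteDimensional K M) (_ : L₁ →ₐ[K] M) (_ : L₂ →ₐ[K] M),
      TameOrUnr b A ((algebraMap K M).comp (algebraMap A K)) := by
  let e₁ := AlgEquiv.ofInjectiveField f₁
  let e₂ := AlgEquiv.ofInjectiveField f₂
  haveI : FiniteDimensional K f₁.fieldRange := Module.Finite.equiv e₁.toLinearEquiv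
  haveI : FiniteDimensional K f₂.fieldRange := Module.Finite.equiv e₂.toLinearEquiv
  exact ⟨f₁.fieldRange ⊔ f₂.fieldRange, IntermediateField.finiteDimensional_sup _ _,
    (IntermediateField.inclusion le_sup_left).comp e₁.toAlgHom,
    (IntermediateField.inclusion le_sup_right).comp e₂.toAlgHom,
    sup b _ _ (of_algHom b e₁.symm.toAlgHom h₁) (of_algHom b e₂.symm.toAlgHom h₂)⟩

end GrothLib.EtRam10
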