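import Groth.Agent.Lib.EtRam10.Inseparable
import Groth.Agent.Lib.EtRam10.Abhyankar
import Groth.Agent.Lib.DVRExt.FiniteExt
import Mathlib.RingTheory.Valuation.LocalSubring
import Mathlib.RingTheory.Polynomial.Basic

set_option linter.all false
set_option backward.isDefEq.respectTransparency false
set_option autoImplicit false

/-!
# Deforming a purely inseparable extension of degree `p` into a separable one

If `M₂ = M₁(a^{1/p})` and `M₃ = M₁(y)` with `y^p = a + g y` for `g` very small, then the valuation rings of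
`M₃` over `B` have the same value groups and residue fields as those of `M₂`.
-/

universe u

open IsLocalRing Polynomial

namespace GrothLib.EtRam10

/-- An element lying in every valuation subring containing `B` is integral over `B`. -/
theorem isIntegral_of_forall_mem {B M : Type u} [CommRing B] [Field M] [Algebra B M] {x : M}
    (h : ∀ V : ValuationSubring M, (∀ b, algebraMap B M b ∈ V) → x ∈ V) : IsIntegral B x := by
  let S := Subring.closure (Set.range (algebraMap B M))
  have hS : ∀ s : S, ∃ b, algebraMap B M b = (s : M) := fun s => by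
    have h1 : Subring.closure (Set.range (algebraMap B M)) ≤ (algebraMap B M).range :=
      Subring.closure_le.mpr fun y hy => hy
    exact h1 s.2
  have hx : x ∈ (integralClosure S M).toSubring := by
    rw [← iInf_valuationSubring_superset]
    exact Subring.mem_iInf.mpr fun V => h V.1 fun b => V.2 ⟨b, rfl⟩
  letI : Algebra B S :=
    ((algebraMap B M).codRestrict S fun b => Subring.subset_closure ⟨b, rfl⟩).toAlgebra
  haveI : IsScalarTower B S M := .of_algebraMap_eq fun _ => rfl
  haveI : Algebra.IsIntegral B S := ⟨fun s => by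
    obtain ⟨b, hb⟩ := hS s
    rw [show s = algebraMap B S b from Subtype.ext hb.symm]
    exact isIntegral_algebraMap⟩
  exact isIntegral_trans x hx

theorem mem_of_isIntegral {B M : Type u} [CommRing B] [Field M] [Algebra B M] (V : ValuationSubring M)
    (h : ∀ b, algebraMap B M b ∈ V) {x : M} (hx : IsIntegral B x) : x ∈ V := by
  letI : Algebra B V := ((algebraMap B M).codRestrict V h).toAlgebra
  haveI : IsScalarTower B V M := .of_algebraMap_eq fun _ => rfl
  obtain ⟨y, hy⟩ := (IsIntegrallyClosed.isIntegral_iff (R := V) (K := M)).mp (hx.tower_top (A := V))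
  exact hy ▸ y.2

section Fraction

variable {B : Type u} [CommRing B] [IsDomain B] [IsDiscreteValuationRing B]
  {L : Type u} [Field L] [Algebra B L] [IsFractionRing B L]
  {M₁ M₃ : Type u} [Field M₁] [Field M₃] [Algebra L M₁] [Algebra B M₁] [IsScalarTower B L M₁]
  [FiniteDimensional L M₁]

variable (L) in
include L in
/-- A nonzero polynomial over `B` killing a given element, with a coefficient which is a unit. -/
theorem exists_aeval_eq_zero_isUnit_coeff (q : M₁) :
    ∃ (f : B[X]) (k : ℕ), aeval q f = 0 ∧ IsUnit (f.coeff k) := by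
  obtain ⟨π, hπ⟩ := IsDiscreteValuationRing.exists_irreducible B
  obtain ⟨f, hf0, hf⟩ : IsAlgebraic B q :=
    (IsFractionRing.isAlgebraic_iff B L M₁).mpr (IsIntegral.of_finite L q).isAlgebraic
  have hπC : Irreducible (C π : B[X]) := (prime_C_iff.mpr hπ.prime).irreducible
  obtain ⟨n, f', hnd, rfl⟩ := WfDvdMonoid.max_power_factor hf0 hπC
  have hπ0 : algebraMap B M₁ π ≠ 0 := by
    rw [IsScalarTower.algebraMap_apply B L M₁, _root_.map_ne_zero, _root_.map_ne_zero_iff _ (IsFractionRing.injective B L)]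
    exact hπ.ne_zero
  refine ⟨f', ?_⟩
  rw [C_dvd_iff_dvd_coeff] at hnd
  push Not at hnd
  obtain ⟨k, hk⟩ := hnd
  refine ⟨k, ?_, ?_⟩
  · rw [map_mul, map_pow, aeval_C, mul_eq_zero] at hf
    exact hf.resolve_left (pow_ne_zero _ hπ0)
  · by_contra hu
    exact hk (Ideal.mem_span_singleton.mp (hπ.maximalIdeal_eq ▸ hu))

variable (L) in
include L in
/-- An element of a valuation subring dominating `B` is a quotient of integral elements with unit denominator. -/
theorem exists_integral_fraction (j : M₁ →+* M₃) (W : ValuationSubring M₃)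
    (hW : EtRam.Dominates B (j.comp (algebraMap B M₁)) W) (q : M₁) (hq : W.valuation (j q) ≤ 1) :
    ∃ r s : M₁, IsIntegral B r ∧ IsIntegral B s ∧ W.valuation (j s) = 1 ∧ q * s = r := by
  classical
  obtain ⟨f, k, hf, hk⟩ := exists_aeval_eq_zero_isUnit_coeff (B := B) L q
  let b : ℕ → M₁ := fun i => aeval q (Polynomial.divX^[i] f)
  have hb0 : b 0 = 0 := hf
  have hrec : ∀ i, b i = q * b (i + 1) + algebraMap B M₁ (f.coeff i) := by
    intro i
    have hc : ∀ (i : ℕ) (g : B[X]) (m : ℕ), (Polynomial.divX^[i] g).coeff m = g.coeff (i + m) := by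
      intro i
      induction i with
      | zero => intro g m; simp
      | succ i ih =>
        intro g m
        rw [Function.iterate_succ_apply, ih, coeff_divX]
        congr 1; omega
    show aeval q _ = _
    conv_lhs => rw [← X_mul_divX_add (Polynomial.divX^[i] f)]
    rw [map_add, map_mul, aeval_X, aeval_C, hc i f 0, add_zero]
    simp [b, Function.iterate_succ_apply']
  have hint : ∀ V : ValuationSubring M₁, (∀ c, algebraMap B M₁ c ∈ V) → ∀ i, b i ∈ V ∧ b i * q ∈ V := by
    intro V hV i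
    rcases V.mem_or_inv_mem q with hqV | hqV
    · have h1 : ∀ i, b i ∈ V := fun i => by
        show aeval q (Polynomial.divX^[i] f) ∈ V
        rw [aeval_eq_sum_range]
        exact sum_mem fun m _ => by
          rw [Algebra.smul_def]
          exact mul_mem (hV _) (pow_mem hqV _)
      exact ⟨h1 i, mul_mem (h1 i) hqV⟩
    · by_cases hq0 : q = 0
      · have h1 : ∀ i, b i = algebraMap B M₁ (f.coeff i) := fun i => by rw [hrec, hq0, zero_mul, zero_add]
        exact ⟨h1 i ▸ hV _, by rw [hq0, mul_zero]; exact V.zero_mem⟩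
      have h1 : ∀ i, b i ∈ V := by
        intro i
        induction i with
        | zero => rw [hb0]; exact V.zero_mem
        | succ i ih =>
          have h2 : b (i + 1) = (b i - algebraMap B M₁ (f.coeff i)) * q⁻¹ := by
            rw [hrec i]; field_simp; ring
          rw [h2]
          exact mul_mem (sub_mem ih (hV _)) hqV
      refine ⟨h1 i, ?_⟩
      cases i with
      | zero => rw [hb0, zero_mul]; exact V.zero_mem
      | succ i =>
        rw [show b (i + 1) * q = b i - algebraMap B M₁ (f.coeff i) by rw [hrec i]; ring]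
        exact sub_mem (h1 i) (hV _)
  have hbint : ∀ i, IsIntegral B (b i) ∧ IsIntegral B (b i * q) := fun i =>
    ⟨isIntegral_of_forall_mem fun V hV => (hint V hV i).1, isIntegral_of_forall_mem fun V hV => (hint V hV i).2⟩
  suffices ∃ i, W.valuation (j (b i)) = 1 by
    obtain ⟨i, hi⟩ := this
    exact ⟨b i * q, b i, (hbint i).2, (hbint i).1, hi, mul_comm _ _⟩
  have hle : ∀ i, W.valuation (j (b i)) ≤ 1 := fun i => (W.valuation_le_one_iff _).mpr
    ((hint (W.comap j) hW.1 i).1)
  by_contra hcon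
  push Not at hcon
  have hlt : ∀ i, W.valuation (j (b i)) < 1 := fun i => lt_of_le_of_ne (hle i) (hcon i)
  have h1 : W.valuation (j (algebraMap B M₁ (f.coeff k))) < 1 := by
    rw [show algebraMap B M₁ (f.coeff k) = b k - q * b (k + 1) by rw [hrec k]; ring, map_sub, map_mul]
    exact W.valuation.map_sub_lt (hlt k) (by rw [map_mul]; exact (mul_le_of_le_one_left' hq).trans_lt (hlt _))
  obtain ⟨u, hu⟩ := hk
  have h2 : W.valuation (j (algebraMap B M₁ (↑u⁻¹ : B))) ≤ 1 := (W.valuation_le_one_iff _).mpr (hW.1 _)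
  have h3 : W.valuation (j (algebraMap B M₁ (f.coeff k))) * W.valuation (j (algebraMap B M₁ (↑u⁻¹ : B))) = 1 := by
    rw [← map_mul, ← map_mul, ← map_mul, ← hu, Units.mul_inv, map_one, map_one, map_one]
  exact ((mul_le_of_le_one_right' h2).trans_lt h1).ne h3

variable {p : ℕ}

/-- The coordinates of an element with integral `p`-th power are bounded: a uniform lower bound for the
valuation of `∑ lᵢ^p aⁱ`. -/
theorem exists_pth_root_bound (hp : p.Prime) (hB : CAlg.IsNagata B) {π : B} (hπ : maximalIdeal B = Ideal.span {π})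
    (M₂ : Type u) [Field M₂] [Algebra L M₂] [Algebra M₁ M₂] [IsScalarTower L M₁ M₂] [Algebra B M₂]
    [IsScalarTower B M₁ M₂] [IsScalarTower B L M₂] [CharP M₂ p]
    (a : M₁) (d : M₂) (hd : d ^ p = algebraMap M₁ M₂ a)
    (bas : Module.Basis (Fin p) M₁ M₂) (hbas : ∀ i, bas i = d ^ (i : ℕ)) :
    ∃ γ : B, γ ≠ 0 ∧ ∀ (M₃ : Type u) [Field M₃] (j : M₁ →+* M₃) (W : ValuationSubring M₃),
      EtRam.Dominates B (j.comp (algebraMap B M₁)) W → ∀ (l : Fin p → M₁) (i : Fin p),
        W.valuation (j (algebraMap B M₁ (γ * π))) ^ p * W.valuation (j (l i)) ^ p ≤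
          W.valuation (j (∑ k, l k ^ p * a ^ (k : ℕ))) := by
  classical
  haveI := Fact.mk hp
  haveI : Module.Finite M₁ M₂ := Module.Finite.of_basis bas
  haveI : FiniteDimensional L M₂ := FiniteDimensional.trans L M₁ M₂
  haveI := finite_integralClosure_of_nagata hB L M₂
  obtain ⟨S, hS⟩ := Module.finite_def.mp (inferInstance : Module.Finite B (integralClosure B M₂))
  haveI : Algebra.IsAlgebraic B M₁ := ⟨fun x =>
    (IsFractionRing.isAlgebraic_iff B L M₁).mpr (IsIntegral.of_finite L x).isAlgebraic⟩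
  obtain ⟨γ, hγ0, hγ⟩ := Algebra.IsAlgebraic.exists_integral_multiples B
    ((S ×ˢ (Finset.univ : Finset (Fin p))).image fun z => bas.repr (z.1 : M₂) z.2)
  have hcoord : ∀ z : M₂, IsIntegral B z → ∀ i, IsIntegral B (γ • bas.repr z i) := by
    intro z hz i
    have hmem : (⟨z, hz⟩ : integralClosure B M₂) ∈ Submodule.span B (S : Set (integralClosure B M₂)) := hS ▸ trivial
    suffices ∀ y ∈ Submodule.span B (S : Set (integralClosure B M₂)), IsIntegral B (γ • bas.repr (y : M₂) i) from
      this _ hmem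
    intro y hy
    induction hy using Submodule.span_induction with
    | mem y hy => exact hγ _ (Finset.mem_image.mpr ⟨(y, i), Finset.mem_product.mpr ⟨hy, Finset.mem_univ _⟩, rfl⟩)
    | zero => simp [isIntegral_zero]
    | add x y _ _ hx hy =>
      rw [Subalgebra.coe_add, map_add, Finsupp.add_apply, smul_add]
      exact hx.add hy
    | smul c x _ hx =>
      rw [Subalgebra.coe_smul, ← algebraMap_smul M₁ c (x : M₂), map_smul, Finsupp.smul_apply, smul_eq_mul,
        ← Algebra.smul_def, smul_comm]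
      exact hx.smul c
  have hπ0 : π ≠ 0 := fun h => IsDiscreteValuationRing.not_a_field B (by rw [hπ, h]; exact Ideal.span_singleton_eq_bot.mpr rfl)
  refine ⟨γ, hγ0, fun M₃ _ j W hW l i => ?_⟩
  set G : M₁ := algebraMap B M₁ (γ * π) with hG
  have hG0 : G ≠ 0 := by
    rw [hG, IsScalarTower.algebraMap_apply B L M₁, _root_.map_ne_zero, _root_.map_ne_zero_iff _ (IsFractionRing.injective B L)]
    exact mul_ne_zero hγ0 hπ0
  by_contra hlt
  push Not at hlt
  have hli : l i ≠ 0 := fun h0 => by
    rw [h0, map_zero, map_zero, zero_pow hp.ne_zero, mul_zero] at hlt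
    exact not_lt_zero' hlt
  set N : M₁ := ∑ k, (l k / l i) ^ p * a ^ (k : ℕ) with hN
  have hNeq : N * l i ^ p = ∑ k, l k ^ p * a ^ (k : ℕ) := by
    rw [hN, Finset.sum_mul]
    refine Finset.sum_congr rfl fun k _ => ?_
    rw [div_pow]; field_simp
  have hq : W.valuation (j (N / G ^ p)) ≤ 1 := by
    have hpos : 0 < W.valuation (j (l i)) ^ p :=
      pow_pos (zero_lt_iff.mpr ((Valuation.ne_zero_iff _).mpr ((_root_.map_ne_zero _).mpr hli))) p
    rw [← hNeq, map_mul, map_mul, map_pow j (l i), map_pow W.valuation] at hlt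
    have h1 := lt_of_mul_lt_mul_right' hlt
    rw [map_div₀, map_div₀, map_pow, map_pow, div_le_one₀
      (pow_pos (zero_lt_iff.mpr ((Valuation.ne_zero_iff _).mpr ((_root_.map_ne_zero _).mpr hG0))) p)]
    exact h1.le
  obtain ⟨r, s, hr, hs, hvs, hrs⟩ := exists_integral_fraction L j W hW _ hq
  set z : M₂ := algebraMap M₁ M₂ (s / G) * ∑ k, algebraMap M₁ M₂ (l k / l i) * d ^ (k : ℕ) with hz
  have hzp : z ^ p = algebraMap M₁ M₂ (s ^ (p - 1) * r) := by
    have h1 : (∑ k, algebraMap M₁ M₂ (l k / l i) * d ^ (k : ℕ)) ^ p = algebraMap M₁ M₂ N := by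
      rw [sum_pow_char p, hN, map_sum]
      refine Finset.sum_congr rfl fun k _ => ?_
      rw [mul_pow, ← pow_mul, mul_comm (k : ℕ) p, pow_mul, hd, map_mul, map_pow, map_pow]
    rw [hz, mul_pow, h1, ← map_pow, ← map_mul]
    congr 1
    rw [← hrs]
    conv_lhs => rw [div_pow, ← Nat.sub_add_cancel hp.one_le, pow_succ s]
    rw [Nat.sub_add_cancel hp.one_le]
    field_simp
  have hzint : IsIntegral B z := IsIntegral.of_pow hp.pos (hzp ▸ ((hs.pow _).mul hr).algebraMap)
  have h2 := hcoord z hzint i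
  have hzrepr : bas.repr z i = s / G := by
    have h3 : z = ∑ k, (s / G * (l k / l i)) • bas k := by
      rw [hz, Finset.mul_sum]
      refine Finset.sum_congr rfl fun k _ => ?_
      rw [hbas, Algebra.smul_def, map_mul, mul_assoc]
    rw [h3, bas.repr_sum_self]
    show s / G * (l i / l i) = _
    rw [div_self hli, mul_one]
  rw [hzrepr, Algebra.smul_def] at h2
  have h4 : algebraMap B M₁ γ * (s / G) = s / algebraMap B M₁ π := by
    rw [hG, map_mul]
    have : algebraMap B M₁ γ ≠ 0 := by
      intro h0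
      rw [hG, map_mul, h0, zero_mul] at hG0
      exact hG0 rfl
    field_simp
  rw [h4] at h2
  have h5 : W.valuation (j (s / algebraMap B M₁ π)) ≤ 1 := by
    rw [W.valuation_le_one_iff]
    letI : Algebra B M₃ := (j.comp (algebraMap B M₁)).toAlgebra
    let jA : M₁ →ₐ[B] M₃ := { j with commutes' := fun _ => rfl }
    have h6 : IsIntegral B (j (s / algebraMap B M₁ π)) := h2.map jA
    exact mem_of_isIntegral W hW.1 h6
  have hvπ : W.valuation (j (algebraMap B M₁ π)) < 1 := hW.2 π (hπ ▸ Ideal.mem_span_singleton_self π)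
  have hπpos : 0 < W.valuation (j (algebraMap B M₁ π)) := by
    refine zero_lt_iff.mpr ((Valuation.ne_zero_iff _).mpr ((_root_.map_ne_zero _).mpr ?_))
    intro h0
    rw [hG, map_mul, h0, mul_zero] at hG0
    exact hG0 rfl
  rw [map_div₀, map_div₀, hvs, one_div, inv_le_one₀ hπpos] at h5
  exact absurd hvπ (not_lt.mpr h5)

end Fraction

section Transfer

variable {M₂ M₃ : Type u} [Field M₂] [Field M₃] {p : ℕ}

theorem charP_residueField_valuationSubring {M : Type u} [Field M] (hp : p.Prime) [CharP M p] (W : ValuationSubring M) :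
    CharP (ResidueField W) p := (CharP.charP_iff_prime_eq_zero hp).mpr (by
  have h0 : ((p : ℕ) : W) = 0 := by
    apply Subtype.ext
    push_cast
    exact CharP.cast_eq_zero M p
  rw [← map_natCast (residue W), h0, map_zero])

/-- If `(φ z)^p` is close to `ψ z`, the ring `W` behaves like its pull-back by the ring map `ψ`. -/
theorem transfer_solution (hp : p.Prime) [CharP M₃ p] (ψ : M₂ →+* M₃) (φ : M₂ →+ M₃) (hφ : Function.Surjective φ)
    (W : ValuationSubring M₃) (hclose : ∀ z, z ≠ 0 → W.valuation (φ z ^ p - ψ z) < W.valuation (ψ z))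
    {K₂ K₃ : Type u} [Field K₂] [Field K₃] (i₂ : K₂ →+* M₂) (i₃ : K₃ →+* M₃)
    (hφK : ∀ x, ∃ y, φ (i₂ x) = i₃ y) (hφK' : ∀ y, ∃ x, φ (i₂ x) = i₃ y)
    (hwu : letI : Algebra ((W.comap ψ).comap i₂) (W.comap ψ) := (EtRam.inclOfComap (W.comap ψ) i₂).toAlgebra
           EtRam.IsWeaklyUnramified ((W.comap ψ).comap i₂) (W.comap ψ))
    (hgr : @Algebra.IsGeometricallyReduced (ResidueField ((W.comap ψ).comap i₂)) (ResidueField (W.comap ψ)) _ _
      (ResidueField.map (EtRam.inclOfComap (W.comap ψ) i₂)).toAlgebra) :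
    (letI : Algebra (W.comap i₃) W := (EtRam.inclOfComap W i₃).toAlgebra
     EtRam.IsWeaklyUnramified (W.comap i₃) W) ∧
      @Algebra.IsGeometricallyReduced (ResidueField (W.comap i₃)) (ResidueField W) _ _
        (ResidueField.map (EtRam.inclOfComap W i₃)).toAlgebra := by
  classical
  haveI := Fact.mk hp
  set V := W.comap ψ with hV
  have hval : ∀ z, W.valuation (φ z) ^ p = W.valuation (ψ z) := by
    intro z
    rcases eq_or_ne z 0 with rfl | hz
    · simp [zero_pow hp.ne_zero]
    rw [← map_pow, show φ z ^ p = (φ z ^ p - ψ z) + ψ z by ring]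
    exact W.valuation.map_add_eq_of_lt_right (hclose z hz)
  have hV1 : ∀ z, z ∈ V ↔ W.valuation (φ z) ≤ 1 := fun z => by
    show ψ z ∈ W ↔ _
    rw [← W.valuation_le_one_iff, ← hval, pow_le_one_iff hp.ne_zero]
  -- maximal ideals
  have hVlt : ∀ z : V, (z ∈ maximalIdeal V ↔ W.valuation (φ (z : M₂)) < 1) := by
    intro z
    rw [← pow_lt_one_iff hp.ne_zero, hval]
    constructor
    · intro hz
      refine lt_of_le_of_ne ((W.valuation_le_one_iff _).mpr z.2) fun h1 => hz ?_
      exact IsUnit.of_map (EtRam.inclOfComap W ψ) z ((W.valuation_eq_one_iff _).mpr h1)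
    · intro hz hu
      exact hz.ne ((W.valuation_eq_one_iff _).mp (hu.map (EtRam.inclOfComap W ψ)))
  constructor
  · letI : Algebra (W.comap i₃) W := (EtRam.inclOfComap W i₃).toAlgebra
    show (maximalIdeal (W.comap i₃)).map (EtRam.inclOfComap W i₃) = maximalIdeal W
    refine le_antisymm (Ideal.map_le_iff_le_comap.mpr fun a ha hu => ha (IsUnit.of_map (EtRam.inclOfComap W i₃) a hu))
      fun z hz => ?_
    obtain ⟨z₂, hz₂⟩ := hφ (z : M₃)
    have hzv := (W.valuation_lt_one_iff z).mp hz
    have hz₂V : z₂ ∈ V := (hV1 z₂).mpr (hz₂ ▸ hzv.le)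
    have hz₂m : (⟨z₂, hz₂V⟩ : V) ∈ maximalIdeal V := (hVlt _).mpr (hz₂ ▸ hzv)
    have hwu' : (maximalIdeal (V.comap i₂)).map (EtRam.inclOfComap V i₂) = maximalIdeal V := hwu
    rw [← hwu'] at hz₂m
    -- a dominating generator
    have key : ∀ t ∈ Ideal.span (EtRam.inclOfComap V i₂ '' maximalIdeal (V.comap i₂)),
        ∃ θ : V.comap i₂, θ ∈ maximalIdeal (V.comap i₂) ∧ W.valuation (ψ (t : V)) ≤ W.valuation (ψ (i₂ θ)) := by
      intro t ht
      induction ht using Submodule.span_induction with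
      | mem t ht => obtain ⟨θ, hθ, rfl⟩ := ht; exact ⟨θ, hθ, le_rfl⟩
      | zero => exact ⟨0, Ideal.zero_mem _, by simp⟩
      | add x y _ _ hx hy =>
        obtain ⟨θ, hθ, hθx⟩ := hx
        obtain ⟨θ', hθ', hθy⟩ := hy
        have hadd : W.valuation (ψ ((x + y : V) : M₂)) ≤ max (W.valuation (ψ (x : M₂))) (W.valuation (ψ (y : M₂))) := by
          push_cast
          rw [map_add]
          exact W.valuation.map_add _ _
        rcases le_total (W.valuation (ψ (i₂ θ))) (W.valuation (ψ (i₂ θ'))) with h | h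
        · exact ⟨θ', hθ', hadd.trans (max_le (hθx.trans h) hθy)⟩
        · exact ⟨θ, hθ, hadd.trans (max_le hθx (hθy.trans h))⟩
      | smul c x _ hx =>
        obtain ⟨θ, hθ, hθx⟩ := hx
        refine ⟨θ, hθ, ?_⟩
        rw [smul_eq_mul]
        push_cast
        rw [map_mul, map_mul]
        exact (mul_le_of_le_one_left' ((W.valuation_le_one_iff _).mpr c.2)).trans hθx
    obtain ⟨θ, hθ, hle⟩ := key _ hz₂m
    obtain ⟨θ₃, hθ₃⟩ := hφK θ
    have hθv : W.valuation (i₃ θ₃) < 1 := by
      rw [← hθ₃]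
      exact (hVlt (EtRam.inclOfComap V i₂ θ)).mp fun hu => hθ (IsUnit.of_map (EtRam.inclOfComap V i₂) θ hu)
    have hθmem : θ₃ ∈ W.comap i₃ := (W.valuation_le_one_iff _).mp hθv.le
    have hle' : W.valuation (z : M₃) ≤ W.valuation (i₃ θ₃) := by
      rw [← hθ₃, ← hz₂, ← pow_le_pow_iff_left₀ zero_le' zero_le' hp.ne_zero, hval, hval]
      exact hle
    have hθm : (⟨θ₃, hθmem⟩ : W.comap i₃) ∈ maximalIdeal (W.comap i₃) :=
      fun hu => ((W.valuation_eq_one_iff _).mp (hu.map (EtRam.inclOfComap W i₃))).not_lt hθv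
    rcases eq_or_ne (i₃ θ₃) 0 with h0 | h0
    · rw [h0, map_zero, le_zero_iff, Valuation.zero_iff] at hle'
      rw [show z = 0 from Subtype.ext hle']
      exact Ideal.zero_mem _
    have hq : (z : M₃) / i₃ θ₃ ∈ W := by
      rw [← W.valuation_le_one_iff, map_div₀, div_le_one₀ (zero_lt_iff.mpr ((Valuation.ne_zero_iff _).mpr h0))]
      exact hle'
    rw [show z = EtRam.inclOfComap W i₃ ⟨θ₃, hθmem⟩ * ⟨_, hq⟩ from Subtype.ext (mul_div_cancel₀ (z : M₃) h0).symm]
    exact Ideal.mul_mem_right _ _ (Ideal.mem_map_of_mem _ hθm)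
  · haveI := charP_residueField_valuationSubring hp W
    have hfrob : Function.Injective fun x : ResidueField W => x ^ p := frobenius_inj (ResidueField W) p
    let f₀ : V → ResidueField W := fun z => residue W ⟨φ (z : M₂), (W.valuation_le_one_iff _).mp ((hV1 _).mp z.2)⟩
    have hf₀ : ∀ z : V, f₀ z ^ p = residue W (EtRam.inclOfComap W ψ z) := by
      intro z
      rw [← map_pow, ← sub_eq_zero, ← map_sub, residue_eq_zero_iff]
      refine (W.valuation_lt_one_iff _).mpr ?_
      show W.valuation (φ (z : M₂) ^ p - ψ z) < 1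
      rcases eq_or_ne (z : M₂) 0 with h0 | h0
      · simp [h0, zero_pow hp.ne_zero]
      · exact (hclose _ h0).trans_le ((W.valuation_le_one_iff _).mpr z.2)
    let e₀ : V →+* ResidueField W :=
      { toFun := f₀
        map_one' := hfrob (by
          show f₀ 1 ^ p = (1 : ResidueField W) ^ p
          rw [hf₀, map_one, map_one, one_pow])
        map_mul' := fun x y => hfrob (by
          show f₀ (x * y) ^ p = (f₀ x * f₀ y) ^ p
          rw [mul_pow, hf₀, hf₀, hf₀, map_mul, map_mul])
        map_zero' := hfrob (by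
          show f₀ 0 ^ p = (0 : ResidueField W) ^ p
          rw [hf₀, map_zero, map_zero, zero_pow hp.ne_zero])
        map_add' := fun x y => hfrob (by
          show f₀ (x + y) ^ p = (f₀ x + f₀ y) ^ p
          rw [add_pow_char, hf₀, hf₀, hf₀, map_add, map_add]) }
    haveI : IsLocalHom e₀ := ⟨fun z hz => by
      by_contra hu
      have h1 := (hVlt z).mp hu
      refine hz.ne_zero ?_
      exact (residue_eq_zero_iff _).mpr ((W.valuation_lt_one_iff _).mpr h1)⟩
    let e : ResidueField V →+* ResidueField W := ResidueField.lift e₀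
    let k₂ := ResidueField (V.comap i₂)
    let k₃ := ResidueField (W.comap i₃)
    let r₂ : k₂ →+* ResidueField V := ResidueField.map (EtRam.inclOfComap V i₂)
    let r₃ : k₃ →+* ResidueField W := ResidueField.map (EtRam.inclOfComap W i₃)
    have hsub : ∀ x : k₂, e (r₂ x) ∈ r₃.range := by
      intro x
      obtain ⟨x, rfl⟩ := residue_surjective x
      obtain ⟨y, hy⟩ := hφK x
      have hy' : y ∈ W.comap i₃ := by
        show i₃ y ∈ W
        rw [← hy, ← W.valuation_le_one_iff]
        exact (hV1 _).mp x.2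
      refine ⟨residue _ ⟨y, hy'⟩, ?_⟩
      show residue W _ = residue W _
      exact congrArg _ (Subtype.ext hy.symm)
    have hsur : ∀ y : k₃, ∃ x : k₂, e (r₂ x) = r₃ y := by
      intro y
      obtain ⟨y, rfl⟩ := residue_surjective y
      obtain ⟨x, hx⟩ := hφK' y
      have hx' : x ∈ V.comap i₂ := (hV1 (i₂ x)).mpr (by rw [hx]; exact (W.valuation_le_one_iff _).mpr y.2)
      exact ⟨residue _ ⟨x, hx'⟩, congrArg (residue W) (Subtype.ext hx)⟩
    let r₃e : k₃ ≃+* r₃.range := RingEquiv.ofBijective r₃.rangeRestrict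
      ⟨fun a b h => r₃.injective (congrArg Subtype.val h), r₃.rangeRestrict_surjective⟩
    let f : k₂ →+* k₃ := r₃e.symm.toRingHom.comp ((e.comp r₂).codRestrict r₃.range hsub)
    have hf : ∀ x, r₃ (f x) = e (r₂ x) := fun x =>
      congrArg Subtype.val (r₃e.apply_symm_apply ⟨e (r₂ x), hsub x⟩)
    letI : Algebra k₂ k₃ := f.toAlgebra
    letI : Algebra k₂ (ResidueField W) := (e.comp r₂).toAlgebra
    letI : Algebra k₃ (ResidueField W) := r₃.toAlgebra
    letI : Algebra k₂ (ResidueField V) := r₂.toAlgebra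
    haveI : IsScalarTower k₂ k₃ (ResidueField W) := .of_algebraMap_eq fun x => (hf x).symm
    haveI : Algebra.IsGeometricallyReduced k₂ (ResidueField V) := hgr
    let eA : ResidueField V →ₐ[k₂] ResidueField W := { e with commutes' := fun _ => rfl }
    have hesur : Function.Surjective e := by
      intro w
      obtain ⟨w, rfl⟩ := residue_surjective w
      obtain ⟨z, hz⟩ := hφ (w : M₃)
      have hz' : z ∈ V := (hV1 z).mpr (by rw [hz]; exact (W.valuation_le_one_iff _).mpr w.2)
      exact ⟨residue _ ⟨z, hz'⟩, congrArg (residue W) (Subtype.ext hz)⟩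
    let eE : ResidueField V ≃ₐ[k₂] ResidueField W := AlgEquiv.ofBijective eA ⟨e.injective, hesur⟩
    haveI : Algebra.IsGeometricallyReduced k₂ (ResidueField W) :=
      Algebra.IsGeometricallyReduced.of_injective eE.symm.toAlgHom eE.symm.injective
    exact geometricallyReduced_of_bijective (k := k₂) (k' := k₃) (l := ResidueField W) fun y => by
      obtain ⟨x, hx⟩ := hsur y
      exact ⟨x, r₃.injective (by rw [← hx]; exact hf x)⟩

end Transfer


section Setup

variable {p : ℕ}

/-- Elements generated by a root of a monic polynomial of degree `p` are sums `∑ cᵢ yⁱ`. -/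
theorem exists_sum_pow {R S : Type u} [Field R] [CommRing S] [Algebra R S] (f : R[X]) (hf : f.Monic)
    (hdeg : f.natDegree = p) (hp0 : p ≠ 0) (y : S) (hy : aeval y f = 0) {z : S} (hz : z ∈ Algebra.adjoin R ({y} : Set S)) :
    ∃ c : Fin p → R, z = ∑ i, algebraMap R S (c i) * y ^ (i : ℕ) := by
  rw [Algebra.adjoin_singleton_eq_range_aeval] at hz
  obtain ⟨g, hg⟩ := hz
  refine ⟨fun i => (g %ₘ f).coeff i, ?_⟩
  have h1 : aeval y (g %ₘ f) = z := by rw [aeval_modByMonic_eq_self_of_root hy]; exact hg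
  have hlt : (g %ₘ f).natDegree < p := by
    rw [← hdeg]
    exact natDegree_modByMonic_lt _ hf fun h => hp0 (by rw [← hdeg, h, natDegree_one])
  rw [← h1, aeval_eq_sum_range' hlt, ← Fin.sum_univ_eq_sum_range]
  simp [Algebra.smul_def]

/-- Adjoining a `p`-th root of a non-`p`-th power. -/
theorem exists_root_basis (hp : p.Prime) (M₁ : Type u) [Field M₁] (a : M₁) (ha : ∀ x : M₁, x ^ p ≠ a) :
    ∃ (M₂ : Type u) (_ : Field M₂) (_ : Algebra M₁ M₂) (d : M₂) (bas : Module.Basis (Fin p) M₁ M₂),
      d ^ p = algebraMap M₁ M₂ a ∧ ∀ i, bas i = d ^ (i : ℕ) := by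
  haveI : Fact (Irreducible (X ^ p - C a : M₁[X])) := ⟨X_pow_sub_C_irreducible_of_prime hp ha⟩
  have h0 : (X ^ p - C a : M₁[X]) ≠ 0 := (monic_X_pow_sub_C a hp.ne_zero).ne_zero
  refine ⟨AdjoinRoot (X ^ p - C a : M₁[X]), inferInstance, inferInstance, AdjoinRoot.root _,
    (AdjoinRoot.powerBasis h0).basis.reindex (finCongr (natDegree_X_pow_sub_C)), ?_, fun i => ?_⟩
  · have h1 := AdjoinRoot.eval₂_root (X ^ p - C a : M₁[X])
    rwa [eval₂_sub, eval₂_pow, eval₂_X, eval₂_C, sub_eq_zero] at h1
  · rw [Module.Basis.reindex_apply, PowerBasis.basis_eq_pow, AdjoinRoot.powerBasis_gen]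
    rfl

/-- The map `z ↦ z^p` into a subfield containing all `p`-th powers. -/
theorem exists_frobenius_hom (hp : p.Prime) {M₁ M₂ : Type u} [Field M₁] [Field M₂] [Algebra M₁ M₂] [CharP M₂ p]
    (h : ∀ z : M₂, ∃ n : M₁, algebraMap M₁ M₂ n = z ^ p) :
    ∃ N : M₂ →+* M₁, ∀ z, algebraMap M₁ M₂ (N z) = z ^ p := by
  haveI := Fact.mk hp
  let F : M₂ →+* (algebraMap M₁ M₂).range := (frobenius M₂ p).codRestrict _ fun z => h z
  let e : M₁ ≃+* (algebraMap M₁ M₂).range := RingEquiv.ofBijective (algebraMap M₁ M₂).rangeRestrict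
    ⟨fun a b h => (algebraMap M₁ M₂).injective (congrArg Subtype.val h), RingHom.rangeRestrict_surjective _⟩
  exact ⟨e.symm.toRingHom.comp F, fun z => congrArg Subtype.val (e.apply_symm_apply (F z))⟩

open TensorProduct in
/-- If `L ⊗ K₂` is reduced and `K₂ = K₁(a^{1/p})` is nontrivial, then `a` is no `p`-th power in a factor of
the reduced Artinian ring `L ⊗ K₁`. -/
theorem not_pow_mem_of_reduced (hp : p.Prime) (K L K₁ K₂ : Type u) [Field K] [Field L] [Field K₁] [Field K₂]
    [Algebra K L] [Algebra K K₁] [Algebra K K₂] [Algebra K₁ K₂] [IsScalarTower K K₁ K₂] [CharP L p]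
    [IsArtinianRing (L ⊗[K] K₁)] [IsReduced (L ⊗[K] K₁)] [IsReduced (L ⊗[K] K₂)]
    (a : K₁) (d : K₂) (hd : d ^ p = algebraMap K₁ K₂ a) (f : K₂ →ₗ[K₁] K₁) (hf1 : f 1 = 0) (hfd : f d = 1)
    (P : Ideal (L ⊗[K] K₁)) [hP : P.IsMaximal] (x : L ⊗[K] K₁) : x ^ p - 1 ⊗ₜ a ∉ P := by
  classical
  intro hx
  haveI := Fact.mk hp
  let E := IsArtinianRing.equivPi (L ⊗[K] K₁)
  set u : L ⊗[K] K₁ := E.symm (Pi.single (⟨P, hP⟩ : MaximalSpectrum _) 1) with hu
  have hE : ∀ y I, E y I = Ideal.Quotient.mk I.asIdeal y := fun y I => rfl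
  have huP : u ∉ P := fun hm => by
    have h1 : E u ⟨P, hP⟩ = 1 := by rw [hu, AlgEquiv.apply_symm_apply, Pi.single_eq_same]
    rw [hE, Ideal.Quotient.eq_zero_iff_mem.mpr hm] at h1
    exact zero_ne_one h1
  have huy : u * (x ^ p - 1 ⊗ₜ a) = 0 := by
    apply E.injective
    rw [map_mul, map_zero, hu, AlgEquiv.apply_symm_apply]
    funext I
    by_cases hI : I = ⟨P, hP⟩
    · subst hI
      rw [Pi.mul_apply, hE, Ideal.Quotient.eq_zero_iff_mem.mpr hx, mul_zero]
      rfl
    · rw [Pi.mul_apply, Pi.single_eq_of_ne hI, zero_mul]; rfl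
  let ι : L ⊗[K] K₁ →ₐ[K] L ⊗[K] K₂ := Algebra.TensorProduct.map (AlgHom.id K L) (IsScalarTower.toAlgHom K K₁ K₂)
  haveI : CharP (L ⊗[K] K₂) p := charP_of_injective_algebraMap (algebraMap L (L ⊗[K] K₂)).injective p
  have hw : ι u * (ι x - 1 ⊗ₜ d) = 0 := by
    refine IsNilpotent.eq_zero ⟨p, ?_⟩
    rw [mul_pow, sub_pow_char, Algebra.TensorProduct.tmul_pow, one_pow, hd,
      show (1 : L) ⊗ₜ[K] algebraMap K₁ K₂ a = ι (1 ⊗ₜ a) by simp [ι], ← map_pow ι u, ← map_pow ι x, ← map_sub ι, ← map_mul ι,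
      ← Nat.sub_add_cancel hp.one_le, pow_succ u, Nat.sub_add_cancel hp.one_le, mul_assoc, huy, mul_zero, map_zero]
  let G : L ⊗[K] K₂ →ₗ[K] L ⊗[K] K₁ := (f.restrictScalars K).lTensor L
  have hG0 : ∀ t, G (ι t) = 0 := by
    intro t
    induction t using TensorProduct.induction_on with
    | zero => simp
    | tmul l k =>
      simp only [G, ι, Algebra.TensorProduct.map_tmul, AlgHom.coe_id, id_eq, IsScalarTower.coe_toAlgHom',
        LinearMap.lTensor_tmul, LinearMap.restrictScalars_apply]
      rw [Algebra.algebraMap_eq_smul_one, map_smul, hf1, smul_zero, tmul_zero]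
    | add s t hs ht => rw [map_add, map_add, hs, ht, add_zero]
  have hG1 : ∀ t, G (ι t * (1 ⊗ₜ d)) = t := by
    intro t
    induction t using TensorProduct.induction_on with
    | zero => simp
    | tmul l k =>
      simp only [G, ι, Algebra.TensorProduct.map_tmul, AlgHom.coe_id, id_eq, IsScalarTower.coe_toAlgHom',
        Algebra.TensorProduct.tmul_mul_tmul, mul_one, LinearMap.lTensor_tmul, LinearMap.restrictScalars_apply]
      rw [← Algebra.smul_def, map_smul, hfd, smul_eq_mul, mul_one]
    | add s t hs ht => rw [map_add, add_mul, map_add, hs, ht]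
  have h2 := congrArg G hw
  rw [mul_sub, ← map_mul, map_sub, hG0, hG1, map_zero, zero_sub, neg_eq_zero] at h2
  exact huP (h2 ▸ P.zero_mem)

/-- Valuation of the difference of powers. -/
theorem valuation_pow_sub_pow_le {M : Type u} [Field M] (W : ValuationSubring M) {x y : M} (hx : W.valuation x ≤ 1)
    (hy : W.valuation y ≤ 1) (i : ℕ) : W.valuation (x ^ i - y ^ i) ≤ W.valuation (x - y) := by
  induction i with
  | zero => simp
  | succ i ih =>
    rw [show x ^ (i + 1) - y ^ (i + 1) = x * (x ^ i - y ^ i) + (x - y) * y ^ i by ring]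
    refine W.valuation.map_add_le ?_ ?_
    · rw [map_mul]; exact (mul_le_of_le_one_left' hx).trans ih
    · rw [map_mul, map_pow]; exact mul_le_of_le_one_right' (pow_le_one₀ zero_le' hy)

end Setup

end GrothLib.EtRam10
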