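import Groth.Prelude.Def_EtRam
import Mathlib.RingTheory.Valuation.LocalSubring
import Mathlib.RingTheory.Polynomial.Eisenstein.Basic
import Mathlib.RingTheory.Polynomial.GaussLemma
import Mathlib.RingTheory.AdjoinRoot
import Mathlib.FieldTheory.SeparableDegree
import Mathlib.RingTheory.IntegralClosure.Algebra.Basic
import Mathlib.RingTheory.PowerBasis

set_option linter.all false
set_option backward.isDefEq.respectTransparency false
set_option autoImplicit false

/-!
# The extension `X^q - πⁿ c X - π`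
-/

universe u

open Polynomial IsLocalRing

namespace GrothLib.EtRam10

variable {A : Type u} [CommRing A] [IsDomain A] [IsDiscreteValuationRing A]
  {K : Type u} [Field K] [Algebra A K] [IsFractionRing A K]
  {L : Type u} [Field L] [Algebra K L] [Algebra A L] [IsScalarTower A K L]

theorem valuation_algebraMap_eq_one {V : ValuationSubring L}
    (h : EtRam.Dominates A (algebraMap A L) V) {a : A} (ha : a ∉ maximalIdeal A) :
    V.valuation (algebraMap A L a) = 1 := by
  obtain ⟨u, rfl⟩ := IsLocalRing.notMem_maximalIdeal.mp ha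
  refine le_antisymm ((V.valuation_le_one_iff _).mpr (h.1 _)) ?_
  have h1 : V.valuation (algebraMap A L u) * V.valuation (algebraMap A L ↑u⁻¹) = 1 := by
    rw [← map_mul, ← map_mul, Units.mul_inv, map_one, map_one]
  calc (1 : _) = _ := h1.symm
    _ ≤ V.valuation (algebraMap A L u) * 1 :=
      mul_le_mul_right ((V.valuation_le_one_iff _).mpr (h.1 _)) _
    _ = _ := mul_one _

variable {π : A} (hπ : maximalIdeal A = Ideal.span {π})
  {c : A} (hc : c ∈ maximalIdeal A) (x : L) {q : ℕ}
  (hx : x ^ q = algebraMap A L π + algebraMap A L c * x)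
  {c₁ : A} (hc₁ : c₁ ∈ maximalIdeal A) (hcc : c = π * c₁)

section Dominated

variable {V : ValuationSubring L} (h : EtRam.Dominates A (algebraMap A L) V)

include hπ hc hx h in
theorem valuation_x_lt_one (hq : 0 < q) : V.valuation x < 1 := by
  have hpi : V.valuation (algebraMap A L π) < 1 := h.2 _ (hπ ▸ Ideal.mem_span_singleton_self π)
  have hcv : V.valuation (algebraMap A L c) < 1 := h.2 _ hc
  have hq' : V.valuation x ^ q ≤
      max (V.valuation (algebraMap A L π)) (V.valuation (algebraMap A L c) * V.valuation x) := by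
    rw [← map_pow, hx, ← map_mul]
    exact V.valuation.map_add _ _
  have hle : V.valuation x ≤ 1 := by
    by_contra hgt
    push Not at hgt
    have h2 : V.valuation (algebraMap A L c) * V.valuation x < V.valuation x :=
      (mul_lt_mul_iff_left₀ (zero_lt_one.trans hgt)).mpr hcv |>.trans_eq (one_mul _)
    exact absurd (hq'.trans_lt (max_lt (hpi.trans hgt) h2)) (not_lt.mpr (le_self_pow₀ hgt.le hq.ne'))
  have h3 : V.valuation x ^ q < 1 :=
    hq'.trans_lt (max_lt hpi ((mul_le_of_le_one_right' hle).trans_lt hcv))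
  by_contra hge
  push Not at hge
  exact absurd h3 (not_lt.mpr (one_le_pow₀ hge))

include hπ hc hx hc₁ hcc h in
theorem valuation_x_pow (hq : 0 < q) :
    V.valuation x ^ q = V.valuation (algebraMap A L π) := by
  have h1 : x ^ q = algebraMap A L π * (1 + algebraMap A L c₁ * x) := by
    rw [hx, hcc, map_mul]; ring
  rw [← map_pow, h1, map_mul, V.valuation.map_one_add_of_lt, mul_one]
  rw [map_mul]
  exact (mul_le_of_le_one_right' (valuation_x_lt_one hπ hc x hx h hq).le).trans_lt (h.2 _ hc₁)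

include hπ hc hx hc₁ hcc h in
theorem valuation_ne (hπ0 : π ≠ 0) {d : ℕ} (hd : 0 < d) (hdq : d < q) (r : K) :
    V.valuation (algebraMap K L r) ≠ V.valuation x ^ d := by
  have hq : 0 < q := hd.trans hdq
  have hx1 := valuation_x_lt_one hπ hc x hx h hq
  have hinj : Function.Injective (algebraMap A L) := by
    rw [IsScalarTower.algebraMap_eq A K L]
    exact (algebraMap K L).injective.comp (IsFractionRing.injective A K)
  have hxpos : 0 < V.valuation x := by
    refine zero_lt_iff.mpr fun h0 => ?_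
    have := valuation_x_pow hπ hc x hx hc₁ hcc h hq
    rw [h0, zero_pow hq.ne', eq_comm, Valuation.zero_iff, map_eq_zero_iff _ hinj] at this
    exact hπ0 this
  intro he
  rcases ValuationRing.isInteger_or_isInteger A r with ⟨a, ha⟩ | ⟨a, ha⟩
  · rw [← ha, ← IsScalarTower.algebraMap_apply] at he
    by_cases ham : a ∈ maximalIdeal A
    · rw [hπ, Ideal.mem_span_singleton] at ham
      obtain ⟨b, rfl⟩ := ham
      have h1 : V.valuation (algebraMap A L (π * b)) ≤ V.valuation x ^ q := by
        rw [map_mul, map_mul, valuation_x_pow hπ hc x hx hc₁ hcc h hq]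
        exact mul_le_of_le_one_right' ((V.valuation_le_one_iff _).mpr (h.1 _))
      rw [he] at h1
      exact absurd h1 (not_le.mpr (pow_lt_pow_right_of_lt_one₀ hxpos hx1 hdq))
    · rw [valuation_algebraMap_eq_one h ham] at he
      exact absurd he (pow_lt_one₀ zero_le' hx1 hd.ne').ne'
  · have h1 : V.valuation (algebraMap A L a) ≤ 1 := (V.valuation_le_one_iff _).mpr (h.1 _)
    rw [IsScalarTower.algebraMap_apply A K L, ha, map_inv₀, map_inv₀, he] at h1
    exact absurd h1 (not_le.mpr (one_lt_inv₀ (pow_pos hxpos d) |>.mpr (pow_lt_one₀ zero_le' hx1 hd.ne')))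

include hπ hc hx hc₁ hcc h in
theorem coeff_mem (hπ0 : π ≠ 0) (k : Fin q → K)
    (hz : (∑ i, algebraMap K L (k i) * x ^ (i : ℕ)) ∈ V) (i : Fin q) :
    ∃ a, algebraMap A K a = k i := by
  classical
  have hq : 0 < q := i.pos
  have hx1 := valuation_x_lt_one hπ hc x hx h hq
  have hxq := valuation_x_pow hπ hc x hx hc₁ hcc h hq
  have hinj : Function.Injective (algebraMap A L) := by
    rw [IsScalarTower.algebraMap_eq A K L]
    exact (algebraMap K L).injective.comp (IsFractionRing.injective A K)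
  have hxpos : 0 < V.valuation x := by
    refine zero_lt_iff.mpr fun h0 => ?_
    have := hxq
    rw [h0, zero_pow hq.ne', eq_comm, Valuation.zero_iff, map_eq_zero_iff _ hinj] at this
    exact hπ0 this
  set t : Fin q → _ := fun j => V.valuation (algebraMap K L (k j) * x ^ (j : ℕ)) with ht
  by_contra hni
  have hbig : 1 < t i := by
    rcases ValuationRing.isInteger_or_isInteger A (k i) with ⟨a, ha⟩ | ⟨a, ha⟩
    · exact absurd ⟨a, ha⟩ hni
    have hki : k i ≠ 0 := fun h0 => hni ⟨0, by rw [h0, map_zero]⟩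
    have ham : a ∈ maximalIdeal A := by
      by_contra hu
      obtain ⟨u, rfl⟩ := IsLocalRing.notMem_maximalIdeal.mp hu
      exact hni ⟨↑u⁻¹, by rw [map_units_inv, ha, inv_inv]⟩
    rw [hπ, Ideal.mem_span_singleton] at ham
    obtain ⟨b, rfl⟩ := ham
    have h1 : V.valuation (algebraMap A L (π * b)) < V.valuation x ^ (i : ℕ) := by
      rw [map_mul, map_mul]
      refine lt_of_le_of_lt (mul_le_of_le_one_right' ((V.valuation_le_one_iff _).mpr (h.1 _))) ?_
      rw [← hxq]
      exact pow_lt_pow_right_of_lt_one₀ hxpos hx1 i.2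
    have h2 : 0 < V.valuation (algebraMap A L (π * b)) := by
      refine zero_lt_iff.mpr fun h0 => ?_
      rw [Valuation.zero_iff, IsScalarTower.algebraMap_apply A K L, map_eq_zero, ha] at h0
      exact inv_ne_zero hki h0
    have h3 : algebraMap K L (k i) = (algebraMap A L (π * b))⁻¹ := by
      rw [IsScalarTower.algebraMap_apply A K L, ha, map_inv₀, inv_inv]
    show 1 < V.valuation (algebraMap K L (k i) * x ^ (i : ℕ))
    rw [h3, map_mul, map_inv₀, map_pow]
    rw [← div_eq_inv_mul, one_lt_div₀ h2]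
    exact h1
  obtain ⟨j, -, hj⟩ := Finset.exists_max_image Finset.univ t ⟨i, Finset.mem_univ _⟩
  have hjbig : 1 < t j := hbig.trans_le (hj i (Finset.mem_univ _))
  have hlt : ∀ l ∈ Finset.univ \ {j}, t l < t j := by
    intro l hl
    have hlj : l ≠ j := by simpa using hl
    refine lt_of_le_of_ne (hj l (Finset.mem_univ _)) fun he => ?_
    have key : ∀ l₁ l₂ : Fin q, (l₁ : ℕ) < l₂ → 1 < t l₂ → t l₁ = t l₂ → False := by
      intro l₁ l₂ hl' hb he
      have h2 : k l₂ ≠ 0 := fun h0 => by
        simp [ht, h0] at hb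
      refine valuation_ne hπ hc x hx hc₁ hcc h hπ0 (d := (l₂ : ℕ) - l₁) (by omega) (by omega)
        (k l₁ / k l₂) ?_
      simp only [ht, map_mul, map_pow] at he
      rw [map_div₀, map_div₀, div_eq_iff ((Valuation.ne_zero_iff _).mpr (by simpa using h2))]
      apply mul_right_cancel₀ (pow_ne_zero (l₁ : ℕ) hxpos.ne')
      rw [he]
      conv_lhs => rw [← Nat.sub_add_cancel hl'.le, pow_add]
      ac_rfl
    rcases lt_or_gt_of_ne (fun e => hlj (Fin.ext e) : (l : ℕ) ≠ j) with h' | h'
    · exact key l j h' hjbig he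
    · exact key j l h' (he ▸ hjbig) he.symm
  have := V.valuation.map_sum_eq_of_lt (f := fun j : Fin q => algebraMap K L (k j) * x ^ (j : ℕ))
    (Finset.mem_univ j) hlt
  rw [← V.valuation_le_one_iff, this] at hz
  exact absurd hz (not_le.mpr hjbig)

end Dominated

variable (hπ0 : π ≠ 0) (hq : 0 < q)
  (hrep : ∀ z : L, ∃ k : Fin q → K, z = ∑ i, algebraMap K L (k i) * x ^ (i : ℕ))

include hπ hc hx hc₁ hcc hπ0 hrep in
theorem exists_rep {V : ValuationSubring L} (h : EtRam.Dominates A (algebraMap A L) V) {z : L}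
    (hz : z ∈ V) : ∃ a : Fin q → A, z = ∑ i, algebraMap A L (a i) * x ^ (i : ℕ) := by
  obtain ⟨k, rfl⟩ := hrep z
  choose a ha using coeff_mem hπ hc x hx hc₁ hcc h hπ0 k hz
  exact ⟨a, Finset.sum_congr rfl fun i _ => by
    rw [IsScalarTower.algebraMap_apply A K L, ha]⟩

include hπ hc hx hc₁ hcc hπ0 hq hrep in
theorem isTotallyRamified : EtRam.IsTotallyRamified A (algebraMap A L) := by
  refine ⟨?_, ?_, ?_⟩
  · obtain ⟨V, hV, hloc⟩ := IsLocalRing.exists_factor_valuationRing (algebraMap A L)
    refine ⟨V, hV, fun a ha => (V.valuation_lt_one_iff ⟨_, hV a⟩).mp ?_⟩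
    exact (mem_maximalIdeal _).mpr fun hu => (mem_maximalIdeal a).mp ha (hloc.map_nonunit a hu)
  · suffices ∀ V V' : ValuationSubring L, EtRam.Dominates A (algebraMap A L) V →
        EtRam.Dominates A (algebraMap A L) V' → ∀ z ∈ V, z ∈ V' from fun V V' h h' =>
      SetLike.ext fun z => ⟨this V V' h h' z, this V' V h' h z⟩
    intro V V' h h' z hz
    obtain ⟨a, rfl⟩ := exists_rep hπ hc x hx hc₁ hcc hπ0 hrep h hz
    exact sum_mem fun i _ => mul_mem (h'.1 _) (pow_mem
      ((V'.valuation_le_one_iff _).mp (valuation_x_lt_one hπ hc x hx h' hq).le) _)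
  · intro V h r
    obtain ⟨⟨z, hz⟩, rfl⟩ := IsLocalRing.residue_surjective r
    obtain ⟨a, rfl⟩ := exists_rep hπ hc x hx hc₁ hcc hπ0 hrep h hz
    refine ⟨a ⟨0, hq⟩, Eq.symm (Ideal.Quotient.eq.mpr ((V.valuation_lt_one_iff _).mpr ?_))⟩
    show V.valuation ((∑ i, algebraMap A L (a i) * x ^ (i : ℕ)) - algebraMap A L (a ⟨0, hq⟩)) < 1
    have hx1 := valuation_x_lt_one hπ hc x hx h hq
    rw [← Finset.add_sum_erase _ _ (Finset.mem_univ (⟨0, hq⟩ : Fin q)), pow_zero, mul_one, add_sub_cancel_left]
    refine Valuation.map_sum_lt _ one_ne_zero fun i hi => ?_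
    have hi0 : (i : ℕ) ≠ 0 := fun e => (Finset.mem_erase.mp hi).1 (Fin.ext e)
    rw [map_mul, map_pow]
    exact lt_of_le_of_lt (mul_le_of_le_one_left' ((V.valuation_le_one_iff _).mpr (h.1 _)))
      (pow_lt_one₀ zero_le' hx1 hi0)

include hπ hc hx hc₁ hcc hπ0 hq hrep in
theorem isIntegral_inv (hx' : IsIntegral A x) :
    IsIntegral A (1 + algebraMap A L c₁ * x)⁻¹ ∧ 1 + algebraMap A L c₁ * x ≠ 0 := by
  obtain ⟨V, h⟩ := (isTotallyRamified hπ hc x hx hc₁ hcc hπ0 hq hrep).1
  have h1 : V.valuation (1 + algebraMap A L c₁ * x) = 1 := by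
    apply Valuation.map_one_add_of_lt
    rw [map_mul]
    exact (mul_le_of_le_one_right' (valuation_x_lt_one hπ hc x hx h hq).le).trans_lt (h.2 _ hc₁)
  refine ⟨?_, fun h0 => by simp [h0] at h1⟩
  obtain ⟨a, ha⟩ := exists_rep hπ hc x hx hc₁ hcc hπ0 hrep h
    ((V.valuation_le_one_iff (1 + algebraMap A L c₁ * x)⁻¹).mp (by rw [map_inv₀, h1, inv_one]))
  rw [ha]
  exact IsIntegral.sum _ fun i _ => isIntegral_algebraMap.mul (hx'.pow _)

end GrothLib.EtRam10
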