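import Groth.Agent.Lib.EtRam10.Eisenstein
import Mathlib.FieldTheory.PurelyInseparable.Basic
import Mathlib.FieldTheory.KummerPolynomial
import Mathlib.LinearAlgebra.FiniteDimensional.Lemmas
import Mathlib.FieldTheory.SeparableClosure

set_option linter.all false
set_option backward.isDefEq.respectTransparency false
set_option autoImplicit false

/-!
# Valuation subrings of a finite extension described by a generator
-/

universe u

open Polynomial IsLocalRing

namespace GrothLib.EtRam10

variable {A : Type u} [CommRing A] [IsDomain A] [IsDiscreteValuationRing A]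
  {K : Type u} [Field K] [Algebra A K] [IsFractionRing A K]
  {L : Type u} [Field L] [Algebra K L] [Algebra A L] [IsScalarTower A K L]
  {π : A} (hπ : maximalIdeal A = Ideal.span {π})

theorem exists_dominates : ∃ V : ValuationSubring L, EtRam.Dominates A (algebraMap A L) V := by
  obtain ⟨V, hV, hloc⟩ := IsLocalRing.exists_factor_valuationRing (algebraMap A L)
  refine ⟨V, hV, fun a ha => (V.valuation_lt_one_iff ⟨_, hV a⟩).mp ?_⟩
  exact (mem_maximalIdeal _).mpr fun hu => (mem_maximalIdeal a).mp ha (hloc.map_nonunit a hu)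

variable (K) in
include K in
theorem injective_algebraMap : Function.Injective (algebraMap A L) := by
  rw [IsScalarTower.algebraMap_eq A K L]
  exact (algebraMap K L).injective.comp (IsFractionRing.injective A K)

include hπ in
theorem ne_zero_of_maximalIdeal_eq : π ≠ 0 := by
  rintro rfl
  exact IsDiscreteValuationRing.not_a_field A (by simp [hπ])

section Dominated

variable {V : ValuationSubring L} (h : EtRam.Dominates A (algebraMap A L) V)

variable (K) in
include K in
include hπ in
theorem valuation_pi_pos (V : ValuationSubring L) : 0 < V.valuation (algebraMap A L π) :=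
  zero_lt_iff.mpr ((Valuation.ne_zero_iff _).mpr
    ((map_ne_zero_iff _ (injective_algebraMap K)).mpr (ne_zero_of_maximalIdeal_eq hπ)))

include h in
theorem mem_range_of_valuation_le_one {r : K} (hr : V.valuation (algebraMap K L r) ≤ 1) :
    ∃ a : A, algebraMap A K a = r := by
  rcases ValuationRing.isInteger_or_isInteger A r with ⟨a, ha⟩ | ⟨a, ha⟩
  · exact ⟨a, ha⟩
  rcases eq_or_ne r 0 with rfl | hr0
  · exact ⟨0, map_zero _⟩
  by_cases ham : a ∈ maximalIdeal A
  · exfalso
    have h1 := h.2 a ham
    rw [IsScalarTower.algebraMap_apply A K L, ha, map_inv₀, map_inv₀,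
      inv_lt_one₀ (zero_lt_iff.mpr ((Valuation.ne_zero_iff _).mpr ((_root_.map_ne_zero _).mpr hr0)))] at h1
    exact absurd hr (not_le.mpr h1)
  · obtain ⟨u, rfl⟩ := IsLocalRing.notMem_maximalIdeal.mp ham
    exact ⟨↑u⁻¹, by rw [map_units_inv, ha, inv_inv]⟩

include hπ h in
theorem valuation_le_pi {a : A} (ha : a ∈ maximalIdeal A) :
    V.valuation (algebraMap A L a) ≤ V.valuation (algebraMap A L π) := by
  rw [hπ, Ideal.mem_span_singleton] at ha
  obtain ⟨b, rfl⟩ := ha
  rw [map_mul, map_mul]
  exact mul_le_of_le_one_right' ((V.valuation_le_one_iff _).mpr (h.1 _))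

variable (K) in
include K in
include hπ h in
/-- An element of valuation at most that of a uniformizer is a multiple of it. -/
theorem mem_map_maximalIdeal {z : V} (hz : V.valuation (z : L) ≤ V.valuation (algebraMap A L π)) :
    letI : Algebra A V := (RingHom.codRestrict (algebraMap A L) V h.1).toAlgebra
    z ∈ (maximalIdeal A).map (algebraMap A V) := by
  letI : Algebra A V := (RingHom.codRestrict (algebraMap A L) V h.1).toAlgebra
  have hpos := valuation_pi_pos K hπ V
  have hmem : (z : L) / algebraMap A L π ∈ V := by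
    rw [← V.valuation_le_one_iff, map_div₀, div_le_one₀ hpos]
    exact hz
  have hne : algebraMap A L π ≠ 0 := fun h0 => hpos.ne' (by rw [h0, map_zero])
  have he : z = algebraMap A V π * ⟨_, hmem⟩ :=
    Subtype.ext (mul_div_cancel₀ (z : L) hne).symm
  rw [he]
  exact Ideal.mul_mem_right _ _ (Ideal.mem_map_of_mem _ (hπ ▸ Ideal.mem_span_singleton_self π))

end Dominated

variable (K) in
include K in
include hπ in
/-- A criterion for `IsWeaklyUnramified`. -/
theorem isWeaklyUnramified_of_forall (V : ValuationSubring L)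
    (h : EtRam.Dominates A (algebraMap A L) V)
    (hle : ∀ z : L, V.valuation z < 1 → V.valuation z ≤ V.valuation (algebraMap A L π)) :
    letI : Algebra A V := (RingHom.codRestrict (algebraMap A L) V h.1).toAlgebra
    EtRam.IsWeaklyUnramified A V := by
  letI : Algebra A V := (RingHom.codRestrict (algebraMap A L) V h.1).toAlgebra
  refine le_antisymm (Ideal.map_le_iff_le_comap.mpr fun a ha =>
    (V.valuation_lt_one_iff _).mpr (h.2 a ha)) fun z hz => ?_
  exact mem_map_maximalIdeal K hπ h (hle _ ((V.valuation_lt_one_iff z).mp hz))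

/-! ### Totally ramified -/

section Ramified

variable (x : L) {q : ℕ}
  (hxq : ∀ V : ValuationSubring L, EtRam.Dominates A (algebraMap A L) V →
    V.valuation x ^ q = V.valuation (algebraMap A L π))

variable {V : ValuationSubring L} (h : EtRam.Dominates A (algebraMap A L) V)

include hπ hxq h in
theorem valuation_gen_lt_one : V.valuation x < 1 := by
  by_contra hge
  push Not at hge
  have h1 := one_le_pow₀ hge (n := q)
  rw [hxq V h] at h1
  exact absurd (h.2 π (hπ ▸ Ideal.mem_span_singleton_self π)) (not_lt.mpr h1)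

variable (K) in
include K in
include hπ hxq h in
theorem valuation_gen_pos (hq : 0 < q) : 0 < V.valuation x := by
  refine zero_lt_iff.mpr fun h0 => ?_
  have := hxq V h
  rw [h0, zero_pow hq.ne'] at this
  exact (valuation_pi_pos K hπ V).ne this

include hπ hxq h in
theorem valuation_ne' {d : ℕ} (hd : 0 < d) (hdq : d < q) (r : K) :
    V.valuation (algebraMap K L r) ≠ V.valuation x ^ d := by
  have hx1 := valuation_gen_lt_one hπ x hxq h
  have hxpos := valuation_gen_pos K hπ x hxq h (hd.trans hdq)
  intro he
  obtain ⟨a, rfl⟩ := mem_range_of_valuation_le_one h (r := r) (he ▸ pow_le_one₀ zero_le' hx1.le)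
  rw [← IsScalarTower.algebraMap_apply] at he
  by_cases ham : a ∈ maximalIdeal A
  · have h1 := valuation_le_pi hπ h ham
    rw [he, ← hxq V h] at h1
    exact absurd h1 (not_le.mpr (pow_lt_pow_right_of_lt_one₀ hxpos hx1 hdq))
  · rw [valuation_algebraMap_eq_one h ham] at he
    exact absurd he (pow_lt_one₀ zero_le' hx1 hd.ne').ne'

include hπ hxq h in
theorem coeff_mem' (k : Fin q → K)
    (hz : (∑ i, algebraMap K L (k i) * x ^ (i : ℕ)) ∈ V) (i : Fin q) :
    ∃ a, algebraMap A K a = k i := by
  classical
  have hx1 := valuation_gen_lt_one hπ x hxq h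
  have hxpos := valuation_gen_pos K hπ x hxq h i.pos
  set t : Fin q → _ := fun j => V.valuation (algebraMap K L (k j) * x ^ (j : ℕ)) with ht
  by_contra hni
  have hbig : 1 < t i := by
    have hki : k i ≠ 0 := fun h0 => hni ⟨0, by rw [h0, map_zero]⟩
    rcases ValuationRing.isInteger_or_isInteger A (k i) with ⟨a, ha⟩ | ⟨a, ha⟩
    · exact absurd ⟨a, ha⟩ hni
    have ham : a ∈ maximalIdeal A := by
      by_contra hu
      obtain ⟨u, rfl⟩ := IsLocalRing.notMem_maximalIdeal.mp hu
      exact hni ⟨↑u⁻¹, by rw [map_units_inv, ha, inv_inv]⟩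
    have h1 : V.valuation (algebraMap A L a) < V.valuation x ^ (i : ℕ) := by
      refine (valuation_le_pi hπ h ham).trans_lt ?_
      rw [← hxq V h]
      exact pow_lt_pow_right_of_lt_one₀ hxpos hx1 i.2
    have h2 : 0 < V.valuation (algebraMap A L a) := by
      refine zero_lt_iff.mpr fun h0 => ?_
      rw [Valuation.zero_iff, IsScalarTower.algebraMap_apply A K L, map_eq_zero, ha] at h0
      exact inv_ne_zero hki h0
    show 1 < V.valuation (algebraMap K L (k i) * x ^ (i : ℕ))
    rw [show algebraMap K L (k i) = (algebraMap A L a)⁻¹ by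
      rw [IsScalarTower.algebraMap_apply A K L, ha, map_inv₀, inv_inv]]
    rw [map_mul, map_inv₀, map_pow, ← div_eq_inv_mul, one_lt_div₀ h2]
    exact h1
  obtain ⟨j, -, hj⟩ := Finset.exists_max_image Finset.univ t ⟨i, Finset.mem_univ _⟩
  have hjbig : 1 < t j := hbig.trans_le (hj i (Finset.mem_univ _))
  have hlt : ∀ l ∈ Finset.univ \ {j}, t l < t j := by
    intro l hl
    have hlj : l ≠ j := by simpa using hl
    refine lt_of_le_of_ne (hj l (Finset.mem_univ _)) fun he => ?_
    have key : ∀ l₁ l₂ : Fin q, (l₁ : ℕ) < l₂ → 1 < t l₂ → t l₁ = t l₂ → False := by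
      intro l₁ l₂ hl' hb he
      have h2 : k l₂ ≠ 0 := fun h0 => by
        simp [ht, h0] at hb
      refine valuation_ne' hπ x hxq h (d := (l₂ : ℕ) - l₁) (by omega) (by omega)
        (k l₁ / k l₂) ?_
      simp only [ht, map_mul, map_pow] at he
      rw [map_div₀, map_div₀, div_eq_iff ((Valuation.ne_zero_iff _).mpr (by simpa using h2))]
      apply mul_right_cancel₀ (pow_ne_zero (l₁ : ℕ) hxpos.ne')
      rw [he]
      conv_lhs => rw [← Nat.sub_add_cancel hl'.le, pow_add]
      ac_rfl
    rcases lt_or_gt_of_ne (fun e => hlj (Fin.ext e) : (l : ℕ) ≠ j) with h' | h'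
    · exact key l j h' hjbig he
    · exact key j l h' (he ▸ hjbig) he.symm
  have := V.valuation.map_sum_eq_of_lt (f := fun j : Fin q => algebraMap K L (k j) * x ^ (j : ℕ))
    (Finset.mem_univ j) hlt
  rw [← V.valuation_le_one_iff, this] at hz
  exact absurd hz (not_le.mpr hjbig)

include hπ hxq in
theorem finrank_eq_and_isTotallyRamified [FiniteDimensional K L] (hq : 0 < q)
    (hdim : Module.finrank K L ≤ q) :
    Module.finrank K L = q ∧ EtRam.IsTotallyRamified A (algebraMap A L) := by
  obtain ⟨V₀, h₀⟩ := exists_dominates (A := A) (L := L)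
  have hπ0 : algebraMap A K π ≠ 0 :=
    (map_ne_zero_iff _ (IsFractionRing.injective A K)).mpr (ne_zero_of_maximalIdeal_eq hπ)
  have hli : LinearIndependent K (fun i : Fin q => x ^ (i : ℕ)) := by
    rw [Fintype.linearIndependent_iff]
    intro k hk i
    by_contra hki
    obtain ⟨a, ha⟩ := coeff_mem' hπ x hxq h₀
      (fun j => (algebraMap A K π * k i)⁻¹ * k j) (by
        simp only [Algebra.smul_def] at hk
        simp only [map_mul, mul_assoc, ← Finset.mul_sum, hk, mul_zero]
        exact V₀.zero_mem) i
    have h1 : algebraMap A K (π * a) = algebraMap A K 1 := by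
      rw [map_mul, ha, map_one]; field_simp
    have hu : IsUnit π := IsUnit.of_mul_eq_one _ (IsFractionRing.injective A K h1)
    exact (mem_maximalIdeal π).mp (hπ ▸ Ideal.mem_span_singleton_self π) hu
  have hfin : Module.finrank K L = q :=
    le_antisymm hdim (by simpa using hli.fintype_card_le_finrank)
  refine ⟨hfin, ?_⟩
  haveI : Nonempty (Fin q) := ⟨⟨0, hq⟩⟩
  let b := basisOfLinearIndependentOfCardEqFinrank hli (by simp [hfin])
  have hrep : ∀ z : L, z = ∑ i, algebraMap K L (b.repr z i) * x ^ (i : ℕ) := fun z => by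
    conv_lhs => rw [← b.sum_repr z]
    simp [b, Algebra.smul_def]
  have hA : ∀ {V : ValuationSubring L}, EtRam.Dominates A (algebraMap A L) V → ∀ z ∈ V,
      ∃ a : Fin q → A, z = ∑ i, algebraMap A L (a i) * x ^ (i : ℕ) := by
    intro V h z hz
    rw [hrep z] at hz
    choose a ha using coeff_mem' hπ x hxq h _ hz
    exact ⟨a, (hrep z).trans (Finset.sum_congr rfl fun i _ => by
      rw [IsScalarTower.algebraMap_apply A K L, ha])⟩
  refine ⟨⟨V₀, h₀⟩, ?_, ?_⟩
  · suffices ∀ V V' : ValuationSubring L, EtRam.Dominates A (algebraMap A L) V →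
        EtRam.Dominates A (algebraMap A L) V' → ∀ z ∈ V, z ∈ V' from fun V V' h h' =>
      SetLike.ext fun z => ⟨this V V' h h' z, this V' V h' h z⟩
    intro V V' h h' z hz
    obtain ⟨a, rfl⟩ := hA h z hz
    exact sum_mem fun i _ => mul_mem (h'.1 _) (pow_mem
      ((V'.valuation_le_one_iff _).mp (valuation_gen_lt_one hπ x hxq h').le) _)
  · intro V h r
    obtain ⟨⟨z, hz⟩, rfl⟩ := IsLocalRing.residue_surjective r
    obtain ⟨a, rfl⟩ := hA h z hz
    refine ⟨a ⟨0, hq⟩, Eq.symm (Ideal.Quotient.eq.mpr ((V.valuation_lt_one_iff _).mpr ?_))⟩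
    show V.valuation ((∑ i, algebraMap A L (a i) * x ^ (i : ℕ)) - algebraMap A L (a ⟨0, hq⟩)) < 1
    have hx1 := valuation_gen_lt_one hπ x hxq h
    rw [← Finset.add_sum_erase _ _ (Finset.mem_univ (⟨0, hq⟩ : Fin q)), pow_zero, mul_one,
      add_sub_cancel_left]
    refine Valuation.map_sum_lt _ one_ne_zero fun i hi => ?_
    have hi0 : (i : ℕ) ≠ 0 := fun e => (Finset.mem_erase.mp hi).1 (Fin.ext e)
    rw [map_mul, map_pow]
    exact lt_of_le_of_lt (mul_le_of_le_one_left' ((V.valuation_le_one_iff _).mpr (h.1 _)))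
      (pow_lt_one₀ zero_le' hx1 hi0)

end Ramified

/-! ### Residually inseparable -/

/-- Every nonzero vector of `K^n` is a multiple of a vector in `A^n` with an entry `1`. -/
theorem exists_normalised {n : ℕ} (k : Fin n → K) (hk : k ≠ 0) :
    ∃ (c : K) (a : Fin n → A) (j : Fin n), c ≠ 0 ∧ a j = 1 ∧ ∀ i, k i = c * algebraMap A K (a i) := by
  classical
  obtain ⟨i₀, hi₀⟩ := Function.ne_iff.mp hk
  let w := ValuationRing.valuation A K
  obtain ⟨j, -, hj⟩ := Finset.exists_max_image Finset.univ (fun i => w (k i)) ⟨i₀, Finset.mem_univ _⟩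
  have hj0 : k j ≠ 0 := by
    intro h0
    have := hj i₀ (Finset.mem_univ _)
    rw [h0, map_zero] at this
    exact hi₀ ((Valuation.zero_iff _).mp (le_antisymm this zero_le'))
  have hmem : ∀ i, ∃ a : A, algebraMap A K a = (k j)⁻¹ * k i := by
    intro i
    have h1 : w ((k j)⁻¹ * k i) ≤ 1 := by
      rw [map_mul, map_inv₀, ← div_eq_inv_mul, div_le_one₀ (zero_lt_iff.mpr ((Valuation.ne_zero_iff _).mpr hj0))]
      exact hj i (Finset.mem_univ _)
    exact (ValuationRing.mem_integer_iff A K _).mp h1
  choose a ha using hmem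
  refine ⟨k j, a, j, hj0, IsFractionRing.injective A K ?_, fun i => by rw [ha, mul_inv_cancel_left₀ hj0]⟩
  rw [ha, map_one, inv_mul_cancel₀ hj0]

section Inseparable

variable {p : ℕ} (hp : p.Prime) (u : L) (a : A) (hna : ∀ r : A, residue A a ≠ residue A r ^ p)
  (hu : ∀ V : ValuationSubring L, EtRam.Dominates A (algebraMap A L) V →
    V.valuation u ≤ 1 ∧ V.valuation (u ^ p - algebraMap A L a) < 1)

include hp hna in
theorem valuation_eq_one_of_coeff (V : ValuationSubring L)
    (h : EtRam.Dominates A (algebraMap A L) V)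
    (h1 : V.valuation u ≤ 1 ∧ V.valuation (u ^ p - algebraMap A L a) < 1)
    (c : Fin p → A) (j : Fin p) (hj : c j = 1) :
    V.valuation (∑ i, algebraMap A L (c i) * u ^ (i : ℕ)) = 1 := by
  letI : Algebra A V := (RingHom.codRestrict (algebraMap A L) V h.1).toAlgebra
  haveI : IsLocalHom (algebraMap A V) := ⟨fun b hb => by
    by_contra hbu
    exact (mem_maximalIdeal _).mp ((V.valuation_lt_one_iff _).mpr (h.2 b hbu)) hb⟩
  let uV : V := ⟨u, (V.valuation_le_one_iff _).mp h1.1⟩
  let yV : V := ∑ i, algebraMap A V (c i) * uV ^ (i : ℕ)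
  have hy : (yV : L) = ∑ i, algebraMap A L (c i) * u ^ (i : ℕ) := by
    simp only [yV, uV]
    push_cast
    rfl
  refine le_antisymm (hy ▸ V.valuation_le_one yV) (not_lt.mp fun hlt => ?_)
  have hy0 : residue V yV = 0 := Ideal.Quotient.eq_zero_iff_mem.mpr
    ((V.valuation_lt_one_iff _).mpr (by rwa [hy]))
  set h' : (ResidueField A)[X] := X ^ p - C (residue A a) with hh'
  have hirr : Irreducible h' := X_pow_sub_C_irreducible_of_prime hp fun b hb => by
    obtain ⟨r, rfl⟩ := IsLocalRing.residue_surjective b
    exact hna r hb.symm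
  have hroot : aeval (residue V uV) h' = 0 := by
    rw [hh', map_sub, map_pow, aeval_X, aeval_C, IsLocalRing.ResidueField.algebraMap_residue,
      ← map_pow, ← map_sub]
    exact Ideal.Quotient.eq_zero_iff_mem.mpr ((V.valuation_lt_one_iff _).mpr h1.2)
  have hmin : h' = minpoly (ResidueField A) (residue V uV) :=
    minpoly.eq_of_irreducible_of_monic hirr hroot (monic_X_pow_sub_C _ hp.ne_zero)
  set g : (ResidueField A)[X] := ∑ i : Fin p, C (residue A (c i)) * X ^ (i : ℕ) with hg
  have hgz : aeval (residue V uV) g = 0 := by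
    rw [← hy0]
    simp [hg, yV, map_sum, aeval_C]
  have hgj : g.coeff j = 1 := by
    simp [hg, finsetSum_coeff, coeff_C_mul, coeff_X_pow, Fin.val_inj, hj]
  have hg0 : g ≠ 0 := fun h0 => by simp [h0] at hgj
  have h2 := minpoly.degree_le_of_ne_zero (ResidueField A) _ hg0 hgz
  rw [← hmin, hh', degree_X_pow_sub_C hp.pos] at h2
  exact absurd (h2.trans_lt (degree_sum_fin_lt _)) (lt_irrefl _)

include hπ hp hna hu in
theorem residually_inseparable [FiniteDimensional K L] (hdim : Module.finrank K L ≤ p)
    [CharP (ResidueField A) p] :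
    Module.finrank K L = p ∧
    (∀ V V' : ValuationSubring L, EtRam.Dominates A (algebraMap A L) V →
      EtRam.Dominates A (algebraMap A L) V' → V = V') ∧
    ∀ (V : ValuationSubring L) (h : EtRam.Dominates A (algebraMap A L) V),
      letI : Algebra A V := (RingHom.codRestrict (algebraMap A L) V h.1).toAlgebra
      ∀ [IsLocalHom (algebraMap A V)],
        EtRam.IsWeaklyUnramified A V ∧
          IsPurelyInseparable (ResidueField A) (ResidueField V) ∧
          Module.finrank (ResidueField A) (ResidueField V) = p := by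
  obtain ⟨V₀, h₀⟩ := exists_dominates (A := A) (L := L)
  have hsum : ∀ (k : Fin p → K) (c : K) (b : Fin p → A), (∀ i, k i = c * algebraMap A K (b i)) →
      ∑ i, algebraMap K L (k i) * u ^ (i : ℕ) =
        algebraMap K L c * ∑ i, algebraMap A L (b i) * u ^ (i : ℕ) := by
    intro k c b hb
    rw [Finset.mul_sum]
    exact Finset.sum_congr rfl fun i _ => by
      rw [hb, map_mul, ← IsScalarTower.algebraMap_apply, mul_assoc]
  have hli : LinearIndependent K (fun i : Fin p => u ^ (i : ℕ)) := by
    rw [Fintype.linearIndependent_iff]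
    intro k hk i
    by_contra hki
    obtain ⟨c, b, j, hc, hbj, hb⟩ :=
      exists_normalised (A := A) k (Function.ne_iff.mpr ⟨i, hki⟩)
    have h1 := valuation_eq_one_of_coeff hp u a hna V₀ h₀ (hu V₀ h₀) b j hbj
    simp only [Algebra.smul_def] at hk
    rw [hsum k c b hb, mul_eq_zero] at hk
    rcases hk with hk | hk
    · exact hc ((map_eq_zero _).mp hk)
    · rw [hk, map_zero] at h1; exact zero_ne_one h1
  have hfin : Module.finrank K L = p :=
    le_antisymm hdim (by simpa using hli.fintype_card_le_finrank)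
  haveI : Nonempty (Fin p) := ⟨⟨0, hp.pos⟩⟩
  let bas := basisOfLinearIndependentOfCardEqFinrank hli (by simp [hfin])
  have hrep : ∀ z : L, z = ∑ i, algebraMap K L (bas.repr z i) * u ^ (i : ℕ) := fun z => by
    conv_lhs => rw [← bas.sum_repr z]
    simp [bas, Algebra.smul_def]
  -- each element is `c · y` with `v(y) = 1`
  have hA : ∀ {V : ValuationSubring L}, EtRam.Dominates A (algebraMap A L) V → ∀ z ∈ V,
      ∃ b : Fin p → A, z = ∑ i, algebraMap A L (b i) * u ^ (i : ℕ) ∧
        (V.valuation z < 1 → V.valuation z ≤ V.valuation (algebraMap A L π)) := by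
    intro V h z hz
    rcases eq_or_ne z 0 with rfl | hz0
    · exact ⟨0, by simp, fun _ => by simp⟩
    have hk : (fun i => bas.repr z i) ≠ 0 := by
      intro h0
      refine hz0 ((hrep z).trans (Finset.sum_eq_zero fun i _ => ?_))
      rw [show bas.repr z i = 0 from congrFun h0 i, map_zero, zero_mul]
    obtain ⟨c, b, j, hc, hbj, hb⟩ := exists_normalised (A := A) _ hk
    have he := (hrep z).trans (hsum _ c b hb)
    have hv : V.valuation z = V.valuation (algebraMap K L c) := by
      rw [he, map_mul, valuation_eq_one_of_coeff hp u a hna V h (hu V h) b j hbj, mul_one]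
    obtain ⟨c', rfl⟩ := mem_range_of_valuation_le_one h (r := c)
      (hv ▸ (V.valuation_le_one_iff z).mpr hz)
    refine ⟨fun i => c' * b i, ?_, fun hlt => ?_⟩
    · rw [he, Finset.mul_sum]
      exact Finset.sum_congr rfl fun i _ => by
        rw [← IsScalarTower.algebraMap_apply, map_mul, mul_assoc]
    · rw [hv, ← IsScalarTower.algebraMap_apply] at hlt ⊢
      refine valuation_le_pi hπ h ?_
      by_contra hcu
      rw [valuation_algebraMap_eq_one h hcu] at hlt
      exact lt_irrefl _ hlt
  refine ⟨hfin, ?_, ?_⟩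
  · suffices ∀ V V' : ValuationSubring L, EtRam.Dominates A (algebraMap A L) V →
        EtRam.Dominates A (algebraMap A L) V' → ∀ z ∈ V, z ∈ V' from fun V V' h h' =>
      SetLike.ext fun z => ⟨this V V' h h' z, this V' V h' h z⟩
    intro V V' h h' z hz
    obtain ⟨b, rfl, -⟩ := hA h z hz
    exact sum_mem fun i _ => mul_mem (h'.1 _) (pow_mem ((V'.valuation_le_one_iff _).mp (hu V' h').1) _)
  · intro V h
    letI : Algebra A V := (RingHom.codRestrict (algebraMap A L) V h.1).toAlgebra
    intro hloc
    have hwu : EtRam.IsWeaklyUnramified A V := isWeaklyUnramified_of_forall K hπ V h fun z hlt => by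
      obtain ⟨b, -, hle⟩ := hA h z ((V.valuation_le_one_iff _).mp hlt.le)
      exact hle hlt
    let uV : V := ⟨u, (V.valuation_le_one_iff _).mp (hu V h).1⟩
    set ū := residue V uV with hū
    have hup : ū ^ p = algebraMap (ResidueField A) (ResidueField V) (residue A a) := by
      rw [IsLocalRing.ResidueField.algebraMap_residue, hū, ← map_pow]
      exact Ideal.Quotient.eq.mpr ((V.valuation_lt_one_iff _).mpr (hu V h).2)
    let l : (Fin p → ResidueField A) →ₗ[ResidueField A] ResidueField V :=
      Fintype.linearCombination (ResidueField A) (fun i : Fin p => ū ^ (i : ℕ))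
    have hl : ∀ b : Fin p → A, l (fun i => residue A (b i)) =
        residue V (∑ i, algebraMap A V (b i) * uV ^ (i : ℕ)) := by
      intro b
      simp [l, Fintype.linearCombination_apply, Algebra.smul_def, hū, map_sum]
    have hcoe : ∀ b : Fin p → A, ((∑ i, algebraMap A V (b i) * uV ^ (i : ℕ) : V) : L) =
        ∑ i, algebraMap A L (b i) * u ^ (i : ℕ) := by
      intro b; push_cast; rfl
    have hsurj : Function.Surjective l := by
      intro r
      obtain ⟨z, rfl⟩ := IsLocalRing.residue_surjective r
      obtain ⟨b, hb, -⟩ := hA h (z : L) z.2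
      exact ⟨fun i => residue A (b i), (hl b).trans (congrArg _ (Subtype.ext ((hcoe b).trans hb.symm)))⟩
    have hinj : Function.Injective l := by
      rw [injective_iff_map_eq_zero]
      intro r hr
      choose b hb using fun i => IsLocalRing.residue_surjective (r i)
      by_contra hr0
      obtain ⟨j, hj⟩ := Function.ne_iff.mp hr0
      have hbj : IsUnit (b j) := IsLocalRing.residue_ne_zero_iff_isUnit _ |>.mp (by rw [hb]; exact hj)
      obtain ⟨w, hw⟩ := hbj
      have h1 := valuation_eq_one_of_coeff hp u a hna V h (hu V h) (fun i => ↑w⁻¹ * b i) j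
        (by rw [← hw, Units.inv_mul])
      have h2 : l (fun i => residue A (↑w⁻¹ * b i)) = residue A ↑w⁻¹ • l r := by
        rw [← map_smul]; congr 1; funext i; simp [hb]
      rw [hr, smul_zero, hl, IsLocalRing.residue_eq_zero_iff, V.valuation_lt_one_iff, hcoe, h1] at h2
      exact lt_irrefl _ h2
    refine ⟨hwu, ?_, ?_⟩
    · haveI : ExpChar (ResidueField A) p := .prime hp
      rw [isPurelyInseparable_iff_pow_mem (ResidueField A) p]
      intro r
      obtain ⟨c, rfl⟩ := hsurj r
      haveI : ExpChar (ResidueField V) p :=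
        expChar_of_injective_ringHom (algebraMap (ResidueField A) (ResidueField V)).injective p
      refine ⟨1, ?_⟩
      rw [pow_one, Fintype.linearCombination_apply, sum_pow_char p]
      refine sum_mem fun i _ => ?_
      rw [Algebra.smul_def, mul_pow, ← pow_mul, mul_comm (i : ℕ) p, pow_mul, hup, ← map_pow,
        ← map_pow, ← map_mul]
      exact ⟨_, rfl⟩
    · rw [← (LinearEquiv.ofBijective l ⟨hinj, hsurj⟩).finrank_eq]
      simp

end Inseparable

/-! ### Unramified -/

/-- Lift a polynomial over the residue field. -/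
theorem exists_lift (g : (ResidueField A)[X]) : ∃ G : A[X], G.map (residue A) = g :=
  map_surjective _ IsLocalRing.residue_surjective g

include hπ in
theorem isUnramifiedExt_of_separable_reduction (z : L) (f : A[X]) (hf : f.Monic)
    (hz : aeval z f = 0) (hsep : (f.map (residue A)).Separable)
    (hrep : ∀ x : L, ∃ g : K[X], x = aeval z g) :
    EtRam.IsUnramifiedExt A (algebraMap A L) := by
  intro V h
  letI : Algebra A V := (RingHom.codRestrict (algebraMap A L) V h.1).toAlgebra
  intro hloc
  have hpos := valuation_pi_pos K hπ V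
  have hπ1 : V.valuation (algebraMap A L π) < 1 := h.2 π (hπ ▸ Ideal.mem_span_singleton_self π)
  have hzV : z ∈ V := by
    by_contra hni
    rw [← V.valuation_le_one_iff, not_le] at hni
    have hlt : ∀ i ∈ Finset.range f.natDegree,
        V.valuation (algebraMap A L (f.coeff i) * z ^ i) < V.valuation (z ^ f.natDegree) := by
      intro i hi
      rw [map_mul, map_pow, map_pow]
      exact (mul_le_of_le_one_left' ((V.valuation_le_one_iff _).mpr (h.1 _))).trans_lt
        (pow_lt_pow_right₀ hni (Finset.mem_range.mp hi))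
    have h1 := V.valuation.map_sum_lt (pow_ne_zero f.natDegree (zero_lt_one.trans hni).ne')
      (s := Finset.range f.natDegree) (f := fun i => algebraMap A L (f.coeff i) * z ^ i)
      (by simpa using hlt)
    rw [hf.as_sum, map_add, map_pow, aeval_X, map_sum, add_eq_zero_iff_eq_neg] at hz
    simp only [map_mul, map_pow, aeval_C, aeval_X] at hz
    have h2 := congrArg V.valuation hz
    rw [Valuation.map_neg, map_pow] at h2
    rw [← h2] at h1
    exact lt_irrefl _ h1
  let zV : V := ⟨z, hzV⟩
  have hev : ∀ g : A[X], ((aeval zV g : V) : L) = aeval z g := by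
    intro g
    induction g using Polynomial.induction_on' with
    | add g₁ g₂ h₁ h₂ => simp [h₁, h₂]
    | monomial n c => rw [aeval_monomial, aeval_monomial]; rfl
  have hle : ∀ g : A[X], V.valuation (aeval z g) ≤ 1 := fun g => hev g ▸ V.valuation_le_one _
  set zb := residue V zV with hzb
  have hred : ∀ g : A[X], residue V (aeval zV g) = aeval zb (g.map (residue A)) := by
    intro g
    induction g using Polynomial.induction_on' with
    | add g₁ g₂ h₁ h₂ => simp [h₁, h₂]
    | monomial n c => simp [aeval_monomial, hzb]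
  have hunit : ∀ g : A[X], aeval zb (g.map (residue A)) ≠ 0 → V.valuation (aeval z g) = 1 := by
    intro g hg
    refine le_antisymm (hle g) (not_lt.mp fun hlt => hg ?_)
    rw [← hred, IsLocalRing.residue_eq_zero_iff, V.valuation_lt_one_iff, hev]
    exact hlt
  have hfb : aeval zb (f.map (residue A)) = 0 := by
    rw [← hred, show aeval zV f = 0 from Subtype.ext ((hev f).trans hz), map_zero]
  have hint : IsIntegral (ResidueField A) zb := ⟨f.map (residue A), hf.map _, hfb⟩
  set hb := minpoly (ResidueField A) zb with hhb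
  obtain ⟨gb, hgb⟩ := minpoly.dvd (ResidueField A) zb hfb
  have hcop : IsCoprime hb gb := (hgb ▸ hsep).isCoprime
  have hgz : aeval zb gb ≠ 0 := by
    intro h0
    obtain ⟨s, t, hst⟩ := hcop
    have := congrArg (aeval zb) hst
    rw [map_add, map_mul, map_mul, h0, hhb, minpoly.aeval, map_one, mul_zero, mul_zero, add_zero] at this
    exact zero_ne_one this
  obtain ⟨H, hH⟩ := exists_lift (A := A) hb
  obtain ⟨G, hG⟩ := exists_lift (A := A) gb
  have hdiv : ∀ g : A[X], g.map (residue A) = 0 → ∃ S : A[X], g = C π * S := by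
    intro g hg
    refine (C_dvd_iff_dvd_coeff _ _).mpr fun i => ?_
    rw [← Ideal.mem_span_singleton, ← hπ, ← IsLocalRing.residue_eq_zero_iff, ← coeff_map, hg, coeff_zero]
  obtain ⟨S, hS⟩ := hdiv (H * G - f) (by rw [Polynomial.map_sub, Polynomial.map_mul, hH, hG, ← hgb, sub_self])
  have hvG : V.valuation (aeval z G) = 1 := hunit G (hG ▸ hgz)
  have step : ∀ y : A[X], V.valuation (aeval z y) < 1 →
      ∃ y' : A[X], aeval z G * aeval z y = algebraMap A L π * aeval z y' := by
    intro y hy
    have h0 : aeval zb (y.map (residue A)) = 0 := by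
      by_contra hne
      exact hy.ne (hunit y hne)
    obtain ⟨Qb, hQb⟩ := minpoly.dvd (ResidueField A) zb h0
    obtain ⟨Q, hQ⟩ := exists_lift (A := A) Qb
    obtain ⟨R, hR⟩ := hdiv (y - H * Q) (by rw [Polynomial.map_sub, Polynomial.map_mul, hH, hQ, ← hQb, sub_self])
    refine ⟨S * Q + G * R, ?_⟩
    have e1 : G * y = f * Q + C π * (S * Q + G * R) := by
      linear_combination G * hR + Q * hS
    have e2 := congrArg (aeval z) e1
    simpa [hz] using e2
  -- valuations of `A[z]`
  have hpow : ∀ (N : ℕ) (y : A[X]), V.valuation (algebraMap A L π) ^ N ≤ V.valuation (aeval z y) →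
      ∃ (n : ℕ) (y' : A[X]), V.valuation (aeval z y') = 1 ∧
        aeval z G ^ n * aeval z y = algebraMap A L π ^ n * aeval z y' := by
    intro N
    induction N with
    | zero =>
      intro y hy
      rw [pow_zero] at hy
      exact ⟨0, y, le_antisymm (hle y) hy, by simp⟩
    | succ N ih =>
      intro y hy
      rcases (hle y).eq_or_lt with h1 | h1
      · exact ⟨0, y, h1, by simp⟩
      obtain ⟨y', hy'⟩ := step y h1
      have h2 := congrArg V.valuation hy'
      rw [map_mul, map_mul, hvG, one_mul] at h2
      rw [h2, pow_succ', mul_le_mul_iff_right₀ hpos] at hy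
      obtain ⟨n, y'', h3, h4⟩ := ih y' hy
      exact ⟨n + 1, y'', h3, by
        linear_combination (aeval z G ^ n) * hy' + algebraMap A L π * h4⟩
  have hclear : ∀ x : L, ∃ (m : ℕ) (y : A[X]), algebraMap A L π ^ m * x = aeval z y := by
    intro x
    obtain ⟨g, rfl⟩ := hrep x
    obtain ⟨⟨b, hb0⟩, hb⟩ := IsLocalization.integerNormalization_map_to_map (nonZeroDivisors A) g
    obtain ⟨m, hm⟩ := IsDiscreteValuationRing.associated_pow_irreducible
      (nonZeroDivisors.ne_zero hb0) ((IsDiscreteValuationRing.irreducible_iff_uniformizer π).mpr hπ)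
    obtain ⟨w, hw⟩ := hm
    refine ⟨m, C (w : A) * IsLocalization.integerNormalization (nonZeroDivisors A) g, ?_⟩
    have := congrArg (aeval z) hb
    rw [aeval_map_algebraMap] at this
    simp only [map_mul, aeval_C, this, Submonoid.smul_def, map_smul, Algebra.smul_def]
    rw [IsScalarTower.algebraMap_apply A K K[X], Polynomial.algebraMap_eq, aeval_C,
      ← IsScalarTower.algebraMap_apply A K L, ← map_pow, ← hw, map_mul]
    ring
  have hval : ∀ x : L, x ≠ 0 → ∃ (m n : ℕ) (y' : A[X]), V.valuation (aeval z y') = 1 ∧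
      aeval z G ^ n * (algebraMap A L π ^ m * x) = algebraMap A L π ^ n * aeval z y' := by
    intro x hx
    obtain ⟨m, y, hy⟩ := hclear x
    have hy0 : aeval z y ≠ 0 := by
      rw [← hy]; refine mul_ne_zero (pow_ne_zero _ ?_) hx
      intro h0; rw [h0, map_zero] at hpos; exact lt_irrefl _ hpos
    obtain ⟨N, w, hw⟩ := hclear (aeval z y)⁻¹
    have hN : V.valuation (algebraMap A L π) ^ N ≤ V.valuation (aeval z y) := by
      have h1 : algebraMap A L π ^ N = aeval z w * aeval z y := by
        rw [← hw, inv_mul_cancel_right₀ hy0]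
      rw [← map_pow, h1, map_mul]
      exact mul_le_of_le_one_left' (hle w)
    obtain ⟨n, y', h1, h2⟩ := hpow N y hN
    exact ⟨m, n, y', h1, hy ▸ h2⟩
  have hvx : ∀ x : L, ∀ (m n : ℕ) (y' : A[X]), V.valuation (aeval z y') = 1 →
      aeval z G ^ n * (algebraMap A L π ^ m * x) = algebraMap A L π ^ n * aeval z y' →
      V.valuation (algebraMap A L π) ^ m * V.valuation x = V.valuation (algebraMap A L π) ^ n := by
    intro x m n y' h1 h2
    have h3 := congrArg V.valuation h2
    simpa [h1, hvG] using h3
  refine ⟨isWeaklyUnramified_of_forall K hπ V h fun x hlt => ?_, ?_⟩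
  · rcases eq_or_ne x 0 with rfl | hx
    · simp
    obtain ⟨m, n, y', h1, h2⟩ := hval x hx
    have h3 := hvx x m n y' h1 h2
    have hmn : m < n := by
      by_contra hnm
      push Not at hnm
      obtain ⟨d, rfl⟩ := Nat.exists_eq_add_of_le hnm
      rw [pow_add, mul_assoc, mul_eq_left₀ (pow_ne_zero _ hpos.ne')] at h3
      exact absurd h3 (((mul_le_of_le_one_left' (pow_le_one₀ zero_le' hπ1.le)).trans_lt hlt).ne)
    obtain ⟨d, rfl⟩ := Nat.exists_eq_add_of_lt hmn
    rw [show m + d + 1 = m + (d + 1) from add_assoc _ _ _, pow_add] at h3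
    rw [mul_left_cancel₀ (pow_ne_zero _ hpos.ne') h3, pow_succ]
    exact mul_le_of_le_one_left' (pow_le_one₀ zero_le' hπ1.le)
  · refine ⟨fun r => ?_⟩
    have hsz : IsSeparable (ResidueField A) zb := (hgb ▸ hsep).of_mul_left
    have hle' : IntermediateField.adjoin (ResidueField A) {zb} ≤
        separableClosure (ResidueField A) (ResidueField V) :=
      IntermediateField.adjoin_simple_le_iff.mpr (mem_separableClosure_iff.mpr hsz)
    obtain ⟨xV, rfl⟩ := IsLocalRing.residue_surjective r
    rcases eq_or_ne (residue V xV) 0 with h0 | h0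
    · rw [h0, ← map_zero (algebraMap (ResidueField A) (ResidueField V))]
      exact isSeparable_algebraMap _
    have hx1 : V.valuation (xV : L) = 1 :=
      le_antisymm (V.valuation_le_one _) (not_lt.mp fun hlt => h0
        ((IsLocalRing.residue_eq_zero_iff _).mpr ((V.valuation_lt_one_iff _).mpr hlt)))
    obtain ⟨m, n, y', h1, h2⟩ := hval (xV : L) (fun e => by rw [e, map_zero] at hx1; exact zero_ne_one hx1)
    have h3 := hvx _ m n y' h1 h2
    rw [hx1, mul_one] at h3
    have hmn : m = n := (pow_right_strictAnti₀ hpos hπ1).injective h3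
    subst hmn
    have hV : aeval zV G ^ m * xV = aeval zV y' := by
      apply Subtype.ext
      push_cast
      rw [hev, hev]
      apply mul_left_cancel₀ (pow_ne_zero m (fun e => hpos.ne' (by rw [e, map_zero]) :
        algebraMap A L π ≠ 0))
      rw [← h2]; ring
    have h4 := congrArg (residue V) hV
    rw [map_mul, map_pow, hred, hred, hG] at h4
    have hr : residue V xV = aeval zb (y'.map (residue A)) / aeval zb gb ^ m := by
      rw [← h4, mul_div_cancel_left₀ _ (pow_ne_zero m hgz)]
    have hmem : residue V xV ∈ IntermediateField.adjoin (ResidueField A) {zb} := by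
      rw [hr]
      have hall : ∀ g : (ResidueField A)[X], aeval zb g ∈ IntermediateField.adjoin (ResidueField A) {zb} :=
        fun g => IntermediateField.algebra_adjoin_le_adjoin _ _ (aeval_mem_adjoin_singleton _ _)
      exact div_mem (hall _) (pow_mem (hall _) _)
    exact mem_separableClosure_iff.mp (hle' hmem)

end GrothLib.EtRam10
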