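import Groth.Agent.Lib.EtRam10.ArtinSchreier
import Groth.Agent.Lib.DVRExt.Compositum
import Groth.Agent.Lib.DVRExt.FiniteExt
import Groth.Agent.Lib.N2.Tate
import Groth.Prelude.Def_Found

set_option linter.all false
set_option backward.isDefEq.respectTransparency false
set_option autoImplicit false

/-!
# Purely inseparable extensions of degree `p` of a DVR with ramification index `p`
-/

universe u

open IsLocalRing Polynomial

namespace GrothLib.EtRam10

/-- The integral closure of a Nagata domain in a finite extension of its fraction field is finite. -/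
theorem finite_integralClosure_of_nagata {B : Type u} [CommRing B] [IsDomain B] (hB : CAlg.IsNagata B)
    (L : Type u) [Field L] [Algebra B L] [IsFractionRing B L] (M : Type u) [Field M] [Algebra L M]
    [Algebra B M] [IsScalarTower B L M] [FiniteDimensional L M] : Module.Finite B (integralClosure B M) := by
  have h2 : CAlg.IsN2 B := GrothLib.N2.isN2_of_ringEquiv (RingEquiv.quotientBot B) (hB.2 ⊥)
  let e : FractionRing B ≃ₐ[B] L := FractionRing.algEquiv B L
  letI : Algebra (FractionRing B) M := ((algebraMap L M).comp e.toRingEquiv.toRingHom).toAlgebra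
  haveI : IsScalarTower B (FractionRing B) M := .of_algebraMap_eq fun b => by
    show algebraMap B M b = algebraMap L M (e (algebraMap B (FractionRing B) b))
    rw [e.commutes, ← IsScalarTower.algebraMap_apply]
  letI : Algebra (FractionRing B) L := e.toRingEquiv.toRingHom.toAlgebra
  haveI : IsScalarTower (FractionRing B) L M := .of_algebraMap_eq fun _ => rfl
  haveI : Module.Finite (FractionRing B) L :=
    Module.Finite.of_surjective (Algebra.linearMap (FractionRing B) L) e.surjective
  exact h2 M (Module.Finite.trans L M)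

variable {B : Type u} [CommRing B] [IsDomain B] [IsDiscreteValuationRing B]
  {L : Type u} [Field L] [Algebra B L] [IsFractionRing B L]
  {π : B} (hπ : maximalIdeal B = Ideal.span {π}) {p : ℕ} (hp : p.Prime)

section Stop

variable {M : Type u} [Field M] [Algebra L M] [Algebra B M] [IsScalarTower B L M] [FiniteDimensional L M]
  [CharP M p]

include hπ hp in
/-- A `p`-th root of `u` outside `L(π^{1/p})` bounds the approximation of `u` by `∑ r_i^p π^i`. -/
theorem exists_bound (hB : CAlg.IsNagata B) (u : B) (θ d : M) (hθ : θ ^ p = algebraMap B M π)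
    (hd : d ^ p = algebraMap B M u) (hnd : d ∉ Submodule.span L (Set.range fun i : ℕ => θ ^ i)) :
    ∃ n : ℕ, ∀ r : Fin n → B, ¬ π ^ n ∣ u - ∑ i, r i ^ p * π ^ (i : ℕ) := by
  classical
  haveI := Fact.mk hp
  have hirr : Irreducible π := (IsDiscreteValuationRing.irreducible_iff_uniformizer π).mpr hπ
  obtain ⟨φ, hφd, hφ⟩ := Submodule.exists_dual_map_eq_bot_of_notMem hnd inferInstance
  haveI := finite_integralClosure_of_nagata hB L M
  obtain ⟨s, hs⟩ := Module.finite_def.mp (inferInstance : Module.Finite B (integralClosure B M))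
  have hden : ∀ l : L, ∃ D : ℕ, ∀ D' ≥ D, ∃ b, algebraMap B L π ^ D' * l = algebraMap B L b := by
    intro l
    obtain ⟨a, b, hb, rfl⟩ := IsFractionRing.div_surjective (A := B) l
    obtain ⟨D, w, rfl⟩ := IsDiscreteValuationRing.eq_unit_mul_pow_irreducible (nonZeroDivisors.ne_zero hb) hirr
    refine ⟨D, fun D' hD' => ⟨π ^ (D' - D) * a * ↑w⁻¹, ?_⟩⟩
    have hπ0 : algebraMap B L π ≠ 0 := (_root_.map_ne_zero_iff _ (IsFractionRing.injective B L)).mpr hirr.ne_zero
    simp only [map_mul, map_units_inv, map_pow]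
    conv_lhs => rw [← Nat.sub_add_cancel hD', pow_add]
    field_simp
  choose D hD using hden
  let D₀ := s.sup fun z => D (φ (z : M) / φ d)
  have hbdd : ∀ z : M, IsIntegral B z → ∃ b, algebraMap B L π ^ D₀ * (φ z / φ d) = algebraMap B L b := by
    intro z hz
    have hmem : (⟨z, hz⟩ : integralClosure B M) ∈ Submodule.span B (s : Set (integralClosure B M)) := hs ▸ trivial
    suffices ∀ y ∈ Submodule.span B (s : Set (integralClosure B M)),
        ∃ b, algebraMap B L π ^ D₀ * (φ (y : M) / φ d) = algebraMap B L b from this _ hmem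
    intro y hy
    induction hy using Submodule.span_induction with
    | mem y hy => exact hD _ D₀ (Finset.le_sup (f := fun z : integralClosure B M => D (φ (z : M) / φ d)) hy)
    | zero => exact ⟨0, by simp⟩
    | add x y _ _ hx hy =>
      obtain ⟨b, hb⟩ := hx
      obtain ⟨b', hb'⟩ := hy
      exact ⟨b + b', by rw [map_add, ← hb, ← hb']; simp [add_div, mul_add]⟩
    | smul r x _ hx =>
      obtain ⟨b, hb⟩ := hx
      refine ⟨r * b, ?_⟩
      rw [map_mul, ← hb, Subalgebra.coe_smul, ← algebraMap_smul L r (x : M), map_smul, smul_eq_mul]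
      ring
  refine ⟨p * (D₀ + 1), fun r => ?_⟩
  rintro ⟨w, hw⟩
  have hπM : algebraMap B M π ≠ 0 := by
    rw [IsScalarTower.algebraMap_apply B L M, _root_.map_ne_zero, _root_.map_ne_zero_iff _ (IsFractionRing.injective B L)]
    exact hirr.ne_zero
  set z : M := (d - ∑ i, algebraMap B M (r i) * θ ^ (i : ℕ)) / algebraMap B M π ^ (D₀ + 1) with hz
  have hzp : z ^ p = algebraMap B M w := by
    rw [hz, div_pow, sub_pow_char, sum_pow_char p, hd, div_eq_iff (pow_ne_zero _ (pow_ne_zero _ hπM)), ← pow_mul,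
      mul_comm (D₀ + 1) p, ← map_pow, ← map_mul, mul_comm w, ← hw, map_sub, map_sum]
    refine congrArg₂ _ rfl (Finset.sum_congr rfl fun i _ => ?_)
    rw [mul_pow, ← pow_mul, mul_comm (i : ℕ) p, pow_mul, hθ, map_mul, map_pow, map_pow]
  have hzint : IsIntegral B z := IsIntegral.of_pow hp.pos (hzp ▸ isIntegral_algebraMap)
  obtain ⟨b, hb⟩ := hbdd z hzint
  have hφz : φ z = φ d / algebraMap B L π ^ (D₀ + 1) := by
    have h1 : z = (algebraMap B L π ^ (D₀ + 1))⁻¹ • (d - ∑ i, algebraMap B M (r i) * θ ^ (i : ℕ)) := by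
      rw [hz, Algebra.smul_def, map_inv₀, map_pow, ← IsScalarTower.algebraMap_apply, div_eq_inv_mul]
    have h2 : φ (∑ i, algebraMap B M (r i) * θ ^ (i : ℕ)) = 0 := by
      have hmem : (∑ i, algebraMap B M (r i) * θ ^ (i : ℕ)) ∈ Submodule.span L (Set.range fun i : ℕ => θ ^ i) := by
        refine sum_mem fun i _ => ?_
        rw [IsScalarTower.algebraMap_apply B L M, ← Algebra.smul_def]
        exact Submodule.smul_mem _ _ (Submodule.subset_span ⟨_, rfl⟩)
      have := Submodule.mem_map_of_mem (f := φ) hmem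
      rwa [hφ, Submodule.mem_bot] at this
    rw [h1, map_smul, map_sub, h2, sub_zero, smul_eq_mul, div_eq_inv_mul]
  have hπ0 : algebraMap B L π ≠ 0 := (_root_.map_ne_zero_iff _ (IsFractionRing.injective B L)).mpr hirr.ne_zero
  have h3 : algebraMap B L (π * b) = algebraMap B L 1 := by
    rw [map_mul, ← hb, hφz, map_one]
    field_simp
    ring
  exact hirr.not_isUnit (IsUnit.of_mul_eq_one _ (IsFractionRing.injective B L h3))

include hπ in
/-- The expansion of an element not close to `∑ r_i^p π^i` stops at a non-`p`-th power residue. -/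
theorem exists_stop (u : B) {n : ℕ} (hn : ∀ r : Fin n → B, ¬ π ^ n ∣ u - ∑ i, r i ^ p * π ^ (i : ℕ)) :
    ∃ (k : ℕ) (r : Fin k → B) (w : B), u = (∑ i, r i ^ p * π ^ (i : ℕ)) + π ^ k * w ∧
      ∀ s : B, residue B w ≠ residue B s ^ p := by
  by_contra hcon
  push Not at hcon
  suffices ∀ k, ∃ r : Fin k → B, π ^ k ∣ u - ∑ i, r i ^ p * π ^ (i : ℕ) by
    obtain ⟨r, hr⟩ := this n
    exact hn r hr
  intro k
  induction k with
  | zero => exact ⟨Fin.elim0, by simp⟩
  | succ k ih =>
    obtain ⟨r, w, hw⟩ := ih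
    obtain ⟨s, hs⟩ := hcon k r w (by rw [← hw]; ring)
    rw [← map_pow, ← sub_eq_zero, ← map_sub, IsLocalRing.residue_eq_zero_iff, hπ, Ideal.mem_span_singleton] at hs
    obtain ⟨w', hw'⟩ := hs
    refine ⟨Fin.snoc r s, w', ?_⟩
    rw [Fin.sum_univ_castSucc]
    simp only [Fin.snoc_castSucc, Fin.snoc_last, Fin.val_castSucc, Fin.val_last]
    linear_combination hw + π ^ k * hw'

end Stop

section Core

variable {M : Type u} [Field M] [Algebra L M] [Algebra B M] [IsScalarTower B L M] [CharP M p]

include hπ hp in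
theorem maximal_eq_gen (u w : B) {k : ℕ} (r : Fin k → B) (huw : u = (∑ i, r i ^ p * π ^ (i : ℕ)) + π ^ k * w)
    (hnw : ∀ s : B, residue B w ≠ residue B s ^ p) (x c : M)
    (hx : x ^ p = algebraMap B M π + algebraMap B M (π ^ (k + 2)) * x)
    (hc : c ^ p = algebraMap B M (u * π)) (hgen : Algebra.adjoin L ({x, c} : Set M) = ⊤)
    (W : ValuationSubring M) (hW : EtRam.Dominates B (algebraMap B M) W) :
    ∀ z : M, W.valuation z < 1 → W.valuation z ≤ W.valuation x := by
  classical
  haveI := Fact.mk hp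
  have hπm : π ∈ maximalIdeal B := hπ ▸ Ideal.mem_span_singleton_self π
  have hc₁ : π ^ (k + 1) ∈ maximalIdeal B := Ideal.pow_mem_of_mem _ hπm _ (Nat.succ_pos k)
  have hc' : π ^ (k + 2) ∈ maximalIdeal B := Ideal.pow_mem_of_mem _ hπm _ (Nat.succ_pos _)
  have hcc : π ^ (k + 2) = π * π ^ (k + 1) := by rw [← pow_succ']
  have hxv : ∀ V : ValuationSubring M, EtRam.Dominates B (algebraMap B M) V →
      V.valuation x ^ p = V.valuation (algebraMap B M π) := fun V h =>
    valuation_x_pow hπ hc' x hx hc₁ hcc h hp.pos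
  -- the intermediate field `L(x)`
  set L₁ := IntermediateField.adjoin L {x} with hL₁
  let x' : L₁ := ⟨x, IntermediateField.mem_adjoin_simple_self L x⟩
  let f : L[X] := X ^ p - (C (algebraMap B L (π ^ (k + 2))) * X + C (algebraMap B L π))
  have hfd : (C (algebraMap B L (π ^ (k + 2))) * X + C (algebraMap B L π)).degree < (p : WithBot ℕ) :=
    lt_of_le_of_lt degree_linear_le (by exact_mod_cast hp.one_lt)
  have hfm : f.Monic := monic_X_pow_sub hfd
  have hfn : f.natDegree = p := by
    apply natDegree_eq_of_degree_eq_some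
    rw [degree_sub_eq_left_of_degree_lt (by rwa [degree_X_pow]), degree_X_pow]
  have hxroot : aeval x f = 0 := by
    simp only [f, map_sub, map_add, map_mul, map_pow, aeval_X, aeval_C, ← IsScalarTower.algebraMap_apply]
    rw [hx, map_pow]; ring
  haveI : FiniteDimensional L L₁ := IntermediateField.adjoin.finiteDimensional ⟨f, hfm, hxroot⟩
  set B₁ := W.comap (algebraMap L₁ M) with hB₁
  letI : Algebra B L₁ := ((algebraMap L L₁).comp (algebraMap B L)).toAlgebra
  haveI : IsScalarTower B L L₁ := .of_algebraMap_eq' rfl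
  haveI : IsScalarTower B L₁ M := .of_algebraMap_eq fun b => IsScalarTower.algebraMap_apply B L M b
  have hd₁ : EtRam.Dominates B (algebraMap B L₁) B₁ := by
    refine ⟨fun b => ?_, fun b hb => ?_⟩
    · show algebraMap L₁ M _ ∈ W
      rw [← IsScalarTower.algebraMap_apply]; exact hW.1 b
    · refine (B₁.valuation_lt_one_iff ⟨_, by
        show algebraMap L₁ M _ ∈ W
        rw [← IsScalarTower.algebraMap_apply]; exact hW.1 b⟩).mp fun hu => ?_
      have h1 := (W.valuation_eq_one_iff _).mp (hu.map (EtRam.inclOfComap W (algebraMap L₁ M)))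
      rw [EtRam.inclOfComap_apply_coe, ← IsScalarTower.algebraMap_apply] at h1
      exact h1.not_lt (hW.2 b hb)
  haveI := GrothLib.DVRExt.isDiscreteValuationRing_of_dominates B L L₁ B₁ hd₁
  have hx' : x' ^ p = algebraMap B L₁ π + algebraMap B L₁ (π ^ (k + 2)) * x' := Subtype.ext (by
    show x ^ p = _
    rw [hx]; simp [x', IsScalarTower.algebraMap_apply B L M]; rfl)
  have hx'q : ∀ V : ValuationSubring L₁, EtRam.Dominates B (algebraMap B L₁) V →
      V.valuation x' ^ p = V.valuation (algebraMap B L₁ π) := fun V h =>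
    valuation_x_pow hπ hc' x' hx' hc₁ hcc h hp.pos
  have hxW1 : W.valuation x < 1 := valuation_x_lt_one hπ hc' x hx hW hp.pos
  have hxmem : (x' : L₁) ∈ B₁ := (W.valuation_le_one_iff _).mp hxW1.le
  have hrep : ∀ z : L₁, ∃ a : Fin p → L, z = ∑ i, algebraMap L L₁ (a i) * x' ^ (i : ℕ) := by
    intro z
    have hint : IsIntegral L x := ⟨f, hfm, hxroot⟩
    have hz : (z : M) ∈ Algebra.adjoin L {x} :=
      IntermediateField.adjoin_simple_toSubalgebra_of_isAlgebraic hint.isAlgebraic ▸ z.2
    rw [Algebra.adjoin_singleton_eq_range_aeval] at hz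
    obtain ⟨g, hg⟩ := hz
    refine ⟨fun i => (g %ₘ f).coeff i, Subtype.ext ?_⟩
    have h1 : aeval x (g %ₘ f) = (z : M) := by
      rw [← hg, aeval_modByMonic_eq_self_of_root hxroot]; rfl
    have hlt : (g %ₘ f).natDegree < p := by
      rw [← hfn]; exact natDegree_modByMonic_lt _ hfm (fun h => by rw [h, natDegree_one] at hfn; exact hp.ne_zero hfn.symm)
    rw [← h1, aeval_eq_sum_range' hlt, ← Fin.sum_univ_eq_sum_range]
    simp [x', Algebra.smul_def]
  let xB : B₁ := ⟨x', hxmem⟩
  have hmax : maximalIdeal B₁ = Ideal.span {xB} := by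
    refine le_antisymm (fun z hz => ?_) ((Ideal.span_singleton_le_iff_mem _).mpr
      ((B₁.valuation_lt_one_iff xB).mpr (valuation_gen_lt_one hπ x' hx'q hd₁)))
    have hzv := (B₁.valuation_lt_one_iff z).mp hz
    obtain ⟨a, ha⟩ := hrep (z : L₁)
    have hm := z.2
    rw [ha] at hm
    choose b hb using coeff_mem' hπ x' hx'q hd₁ a hm
    have hx1 := valuation_gen_lt_one hπ x' hx'q hd₁
    have h2 : B₁.valuation (z : L₁) ≤ B₁.valuation x' := by
      rw [ha]
      refine B₁.valuation.map_sum_le fun i _ => ?_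
      rcases Nat.eq_zero_or_pos (i : ℕ) with h0 | h0
      · rw [h0, pow_zero, mul_one, ← hb i, ← IsScalarTower.algebraMap_apply]
        by_cases hbm : b i ∈ maximalIdeal B
        · refine (valuation_le_pi hπ hd₁ hbm).trans ?_
          rw [← hx'q B₁ hd₁]
          exact pow_le_of_le_one zero_le' hx1.le hp.ne_zero
        · exfalso
          refine hzv.ne ?_
          rw [ha, ← Finset.add_sum_erase _ _ (Finset.mem_univ i), h0, pow_zero, mul_one, ← hb i,
            ← IsScalarTower.algebraMap_apply]
          have h3 : B₁.valuation (∑ j ∈ Finset.univ.erase i, algebraMap L L₁ (a j) * x' ^ (j : ℕ)) <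
              B₁.valuation (algebraMap B L₁ (b i)) := by
            rw [valuation_algebraMap_eq_one hd₁ hbm]
            refine Valuation.map_sum_lt _ one_ne_zero fun j hj => ?_
            have hj0 : (j : ℕ) ≠ 0 := fun e => (Finset.mem_erase.mp hj).1 (Fin.ext (e.trans h0.symm))
            rw [map_mul, map_pow, ← hb j, ← IsScalarTower.algebraMap_apply]
            exact lt_of_le_of_lt (mul_le_of_le_one_left' ((B₁.valuation_le_one_iff _).mpr (hd₁.1 _)))
              (pow_lt_one₀ zero_le' hx1 hj0)
          rw [B₁.valuation.map_add_eq_of_lt_left h3, valuation_algebraMap_eq_one hd₁ hbm]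
      · rw [map_mul, map_pow, ← hb i, ← IsScalarTower.algebraMap_apply]
        exact (mul_le_of_le_one_left' ((B₁.valuation_le_one_iff _).mpr (hd₁.1 _))).trans
          (pow_le_of_le_one zero_le' hx1.le h0.ne')
    have hx0 : x' ≠ 0 := fun h0 => by
      have h4 := valuation_gen_pos L hπ x' hx'q hd₁ hp.pos
      rw [h0, map_zero] at h4
      exact lt_irrefl _ h4
    have hq : (z : L₁) / x' ∈ B₁ := by
      rw [← B₁.valuation_le_one_iff, map_div₀, div_le_one₀ (valuation_gen_pos L hπ x' hx'q hd₁ hp.pos)]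
      exact h2
    exact Ideal.mem_span_singleton.mpr ⟨⟨_, hq⟩, Subtype.ext (mul_div_cancel₀ (z : L₁) hx0).symm⟩
  -- residue field of `B₁`
  letI : Algebra B B₁ := (RingHom.codRestrict (algebraMap B L₁) B₁ hd₁.1).toAlgebra
  have hfin1 : Module.finrank L L₁ ≤ p := by
    rw [hL₁, IntermediateField.adjoin.finrank ⟨f, hfm, hxroot⟩, ← hfn]
    exact natDegree_le_of_dvd (minpoly.dvd L x hxroot) hfm.ne_zero
  obtain ⟨-, htr⟩ := finrank_eq_and_isTotallyRamified hπ x' hx'q hp.pos hfin1
  have hres := htr.2.2 B₁ hd₁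
  haveI : IsLocalHom (algebraMap B B₁) := ⟨fun b hb => by
    by_contra hn
    exact ((B₁.valuation_eq_one_iff _).mp hb).not_lt (hd₁.2 b hn)⟩
  haveI : CharP (ResidueField B₁) p := (CharP.charP_iff_prime_eq_zero hp).mpr (by
    have h0 : ((p : ℕ) : B₁) = 0 := by
      apply Subtype.ext
      apply Subtype.ext
      push_cast
      exact CharP.cast_eq_zero M p
    rw [← map_natCast (residue B₁), h0, map_zero])
  let wB : B₁ := algebraMap B B₁ w
  have hna : ∀ s : B₁, residue B₁ wB ≠ residue B₁ s ^ p := by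
    intro s hs
    obtain ⟨t, ht⟩ := hres (residue B₁ s)
    refine hnw t ((algebraMap (ResidueField B) (ResidueField B₁)).injective ?_)
    rw [map_pow]
    show residue B₁ wB = residue B₁ (algebraMap B B₁ t) ^ p
    rw [hs]; exact congrArg (· ^ p) ht.symm
  -- the element `t`
  letI : Algebra B₁ M := ((algebraMap L₁ M).comp B₁.subtype).toAlgebra
  haveI : IsScalarTower B₁ L₁ M := .of_algebraMap_eq' rfl
  set t : M := (c / x - ∑ i, algebraMap B M (r i) * x ^ (i : ℕ)) / x ^ k with ht
  have ht1 : ∀ V : ValuationSubring M, EtRam.Dominates B (algebraMap B M) V →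
      V.valuation t ≤ 1 ∧ V.valuation (t ^ p - algebraMap B M w) < 1 := by
    intro V h
    have hvx := valuation_x_lt_one hπ hc' x hx h hp.pos
    have hvπ : V.valuation (algebraMap B M π) < 1 := h.2 π hπm
    have hpos : 0 < V.valuation (algebraMap B M π) := valuation_pi_pos L hπ V
    set δ : M := 1 + algebraMap B M π ^ (k + 1) * x with hδ
    set β := V.valuation (algebraMap B M π) ^ (k + 1) with hβ
    have hδ1 : V.valuation (δ - 1) ≤ β := by
      rw [hδ, add_sub_cancel_left, map_mul, map_pow]
      exact mul_le_of_le_one_right' hvx.le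
    have hβ1 : β < 1 := pow_lt_one₀ zero_le' hvπ (Nat.succ_ne_zero k)
    have hδv : V.valuation δ = 1 := by
      rw [← sub_add_cancel δ 1, add_comm]
      exact V.valuation.map_one_add_of_lt (hδ1.trans_lt hβ1)
    have hδ0 : δ ≠ 0 := fun h0 => by rw [h0, map_zero] at hδv; exact zero_ne_one hδv
    have hδpow : ∀ i : ℕ, V.valuation (δ ^ i - 1) ≤ β := by
      intro i
      induction i with
      | zero => simp
      | succ i ih =>
        rw [show δ ^ (i + 1) - 1 = (δ ^ i - 1) * δ + (δ - 1) by ring]
        exact V.valuation.map_add_le (by rw [map_mul, hδv, mul_one]; exact ih) hδ1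
    have hε : ∀ i : ℕ, V.valuation (δ⁻¹ - δ ^ i) ≤ β := by
      intro i
      rw [show δ⁻¹ - δ ^ i = -((δ ^ (i + 1) - 1) * δ⁻¹) by field_simp; ring, Valuation.map_neg, map_mul,
        map_inv₀, hδv, inv_one, mul_one]
      exact hδpow _
    have hxp : x ^ p = algebraMap B M π * δ := by
      rw [hx, hδ, map_pow]; ring
    have hπ0 : algebraMap B M π ≠ 0 := fun h0 => hpos.ne' (by rw [h0, map_zero])
    set S : M := algebraMap B M w * (δ⁻¹ - δ ^ k) +
      ∑ i, algebraMap B M (r i) ^ p * algebraMap B M π ^ (i : ℕ) * (δ⁻¹ - δ ^ (i : ℕ)) / algebraMap B M π ^ k with hS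
    have hkey : t ^ p - algebraMap B M w = S / δ ^ k := by
      have h1 : (∑ i, algebraMap B M (r i) * x ^ (i : ℕ)) ^ p =
          ∑ i, algebraMap B M (r i) ^ p * algebraMap B M π ^ (i : ℕ) * δ ^ (i : ℕ) := by
        rw [sum_pow_char p]
        refine Finset.sum_congr rfl fun i _ => ?_
        rw [mul_pow, ← pow_mul, mul_comm (i : ℕ) p, pow_mul, hxp, mul_pow]; ring
      have h2 : algebraMap B M u = (∑ i, algebraMap B M (r i) ^ p * algebraMap B M π ^ (i : ℕ)) +
          algebraMap B M π ^ k * algebraMap B M w := by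
        rw [huw]; simp [map_sum]
      have h3 : (c / x) ^ p = algebraMap B M u * δ⁻¹ := by
        rw [div_pow, hc, hxp, map_mul]; field_simp
      have h5 : ∑ i, algebraMap B M (r i) ^ p * algebraMap B M π ^ (i : ℕ) * (δ⁻¹ - δ ^ (i : ℕ)) / algebraMap B M π ^ k =
          ((∑ i, algebraMap B M (r i) ^ p * algebraMap B M π ^ (i : ℕ)) * δ⁻¹ -
            ∑ i, algebraMap B M (r i) ^ p * algebraMap B M π ^ (i : ℕ) * δ ^ (i : ℕ)) * (algebraMap B M π ^ k)⁻¹ := by
        rw [Finset.sum_mul, ← Finset.sum_sub_distrib, Finset.sum_mul]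
        exact Finset.sum_congr rfl fun i _ => by rw [div_eq_mul_inv, mul_sub]
      rw [ht, div_pow, sub_pow_char, h1, h3, h2, ← pow_mul, mul_comm k p, pow_mul, hxp, hS, h5]
      generalize (∑ i, algebraMap B M (r i) ^ p * algebraMap B M π ^ (i : ℕ) * δ ^ (i : ℕ)) = Q
      generalize (∑ i, algebraMap B M (r i) ^ p * algebraMap B M π ^ (i : ℕ)) = R
      rw [mul_pow]
      field_simp
      ring
    have hSv : V.valuation S < 1 := by
      have hlast : V.valuation (algebraMap B M π) ^ (k + 1) / V.valuation (algebraMap B M π) ^ k < 1 := by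
        rw [pow_succ, mul_div_cancel_left₀ _ (pow_ne_zero _ hpos.ne')]; exact hvπ
      refine V.valuation.map_add_lt ?_ (Valuation.map_sum_lt _ one_ne_zero fun i _ => ?_)
      · rw [map_mul]
        exact ((mul_le_of_le_one_left' ((V.valuation_le_one_iff _).mpr (h.1 _))).trans (hε k)).trans_lt hβ1
      · rw [map_div₀, map_mul, map_pow _ _ k]
        refine lt_of_le_of_lt (div_le_div_of_nonneg_right ?_ zero_le') hlast
        refine (mul_le_of_le_one_left' ?_).trans (hε i)
        rw [← map_pow (algebraMap B M), ← map_pow (algebraMap B M), ← map_mul]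
        exact (V.valuation_le_one_iff _).mpr (h.1 _)
    have h4 : V.valuation (t ^ p - algebraMap B M w) < 1 := by
      rw [hkey, map_div₀, map_pow, hδv, one_pow, div_one]; exact hSv
    refine ⟨?_, h4⟩
    by_contra hgt
    push Not at hgt
    have h5 : V.valuation (t ^ p) ≤ 1 := by
      rw [← sub_add_cancel (t ^ p) (algebraMap B M w)]
      exact V.valuation.map_add_le h4.le ((V.valuation_le_one_iff _).mpr (h.1 _))
    rw [map_pow] at h5
    exact absurd h5 (not_le.mpr (one_lt_pow₀ hgt hp.ne_zero))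
  -- `M = L₁(c)`
  have hcint : IsIntegral L₁ c := ⟨X ^ p - C (algebraMap B L₁ (u * π)), monic_X_pow_sub_C _ hp.ne_zero, by
    rw [eval₂_sub, eval₂_pow, eval₂_X, eval₂_C, ← IsScalarTower.algebraMap_apply, hc, sub_self]⟩
  have hgen1 : IntermediateField.adjoin L₁ {c} = ⊤ := by
    rw [eq_top_iff]
    intro z hz0
    clear hz0
    have hz : z ∈ Algebra.adjoin L ({x, c} : Set M) := hgen ▸ Algebra.mem_top
    induction hz using Algebra.adjoin_induction with
    | mem y hy =>
      rcases hy with rfl | rfl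
      · exact IntermediateField.algebraMap_mem _ x'
      · exact IntermediateField.mem_adjoin_simple_self L₁ _
    | algebraMap l => exact IntermediateField.algebraMap_mem _ (algebraMap L L₁ l)
    | add y z _ _ hy hz => exact add_mem hy hz
    | mul y z _ _ hy hz => exact mul_mem hy hz
  obtain ⟨hfd2, hdim⟩ := finite_of_adjoin_eq_top c (X ^ p - C (algebraMap B L₁ (u * π)))
    (monic_X_pow_sub_C _ hp.ne_zero) (by
      rw [map_sub, map_pow, aeval_X, aeval_C, ← IsScalarTower.algebraMap_apply, hc, sub_self]) hgen1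
  rw [natDegree_X_pow_sub_C] at hdim
  haveI := hfd2
  have hdom : ∀ V : ValuationSubring M, EtRam.Dominates B₁ (algebraMap B₁ M) V → EtRam.Dominates B (algebraMap B M) V := by
    intro V h
    have e : ∀ b, algebraMap B₁ M (algebraMap B B₁ b) = algebraMap B M b := fun b =>
      (IsScalarTower.algebraMap_apply B L₁ M b).symm
    refine ⟨fun b => e b ▸ h.1 _, fun b hb => e b ▸ h.2 _ fun hu => hb (IsUnit.of_map (algebraMap B B₁) b hu)⟩
  obtain ⟨-, -, hun⟩ := residually_inseparable (K := L₁) hmax hp t wB hna (fun V h => by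
    obtain ⟨h1, h2⟩ := ht1 V (hdom V h)
    refine ⟨h1, ?_⟩
    have e : algebraMap B₁ M wB = algebraMap B M w := (IsScalarTower.algebraMap_apply B L₁ M w).symm
    rwa [e]) hdim
  have hWd : EtRam.Dominates B₁ (algebraMap B₁ M) W :=
    ⟨fun b => b.2, fun b hb => lt_of_le_of_ne ((W.valuation_le_one_iff _).mpr b.2) fun h1 =>
      hb (IsUnit.of_map (EtRam.inclOfComap W (algebraMap L₁ M)) b ((W.valuation_eq_one_iff _).mpr h1))⟩
  letI : Algebra B₁ W := (RingHom.codRestrict (algebraMap B₁ M) W hWd.1).toAlgebra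
  haveI : IsLocalHom (algebraMap B₁ W) := ⟨fun b hb => by
    by_contra hn
    exact ((W.valuation_eq_one_iff _).mp hb).not_lt (hWd.2 b hn)⟩
  obtain ⟨hwu, -⟩ := hun W hWd
  intro z hz
  have hzW : z ∈ W := (W.valuation_le_one_iff _).mp hz.le
  have hzm : (⟨z, hzW⟩ : W) ∈ (maximalIdeal B₁).map (algebraMap B₁ W) := by
    rw [show (maximalIdeal B₁).map (algebraMap B₁ W) = maximalIdeal W from hwu]
    exact (W.valuation_lt_one_iff _).mpr hz
  rw [hmax, Ideal.map_span, Set.image_singleton, Ideal.mem_span_singleton] at hzm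
  obtain ⟨y, hy⟩ := hzm
  have hz' : z = x * (y : M) := congrArg Subtype.val hy
  rw [hz', map_mul]
  exact mul_le_of_le_one_right' (W.valuation_le_one y)

end Core

end GrothLib.EtRam10

namespace GrothLib.EtRam10

open Polynomial IsLocalRing TensorProduct

/-- `X^p - π^m X - π` is irreducible and separable over the fraction field. -/
theorem irreducible_separable {R F : Type u} [CommRing R] [IsDomain R] [IsDiscreteValuationRing R] [Field F]
    [Algebra R F] [IsFractionRing R F] {π : R} (hπ : maximalIdeal R = Ideal.span {π}) {p : ℕ} (hp : 1 < p)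
    {m : ℕ} (hm : 0 < m) :
    Irreducible (X ^ p - (C (algebraMap R F (π ^ m)) * X + C (algebraMap R F π)) : F[X]) ∧
      (X ^ p - (C (algebraMap R F (π ^ m)) * X + C (algebraMap R F π)) : F[X]).Separable := by
  have hirrπ : Irreducible π := (IsDiscreteValuationRing.irreducible_iff_uniformizer π).mpr hπ
  have hπm : π ∈ maximalIdeal R := hπ ▸ Ideal.mem_span_singleton_self π
  have hdeg : (C (π ^ m) * X + C π : R[X]).degree < (p : WithBot ℕ) :=
    lt_of_le_of_lt degree_linear_le (by exact_mod_cast hp)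
  set f : R[X] := X ^ p - (C (π ^ m) * X + C π) with hf
  have hmon : f.Monic := monic_X_pow_sub hdeg
  have hnd : f.natDegree = p := by
    apply natDegree_eq_of_degree_eq_some
    rw [hf, degree_sub_eq_left_of_degree_lt (by rwa [degree_X_pow]), degree_X_pow]
  have hsq : π ∉ maximalIdeal R ^ 2 := by
    rw [hπ, Ideal.span_singleton_pow, Ideal.mem_span_singleton]
    rintro ⟨d, hd⟩
    refine hirrπ.not_isUnit (IsUnit.of_mul_eq_one d ?_)
    apply mul_left_cancel₀ hirrπ.ne_zero
    rw [mul_one, ← mul_assoc, ← pow_two, ← hd]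
  have heis : f.IsEisensteinAt (maximalIdeal R) := by
    refine ⟨?_, ?_, ?_⟩
    · rw [hmon.leadingCoeff]; exact (maximalIdeal.isMaximal R).isPrime.one_notMem
    · intro i hi
      rw [hnd] at hi
      rw [hf, coeff_sub, coeff_X_pow, if_neg hi.ne, zero_sub, neg_mem_iff, coeff_add]
      refine add_mem ?_ ?_
      · rw [coeff_C_mul]; exact Ideal.mul_mem_right _ _ (Ideal.pow_mem_of_mem _ hπm _ hm)
      · rw [coeff_C]; split
        · exact hπm
        · exact zero_mem _
    · rw [hf, coeff_sub, coeff_X_pow, if_neg (by omega : (0 : ℕ) ≠ p), zero_sub, neg_mem_iff, coeff_add]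
      simpa using hsq
  have hirrR : Irreducible f :=
    heis.irreducible (maximalIdeal.isMaximal R).isPrime hmon.isPrimitive (by omega)
  have hmap : f.map (algebraMap R F) = X ^ p - (C (algebraMap R F (π ^ m)) * X + C (algebraMap R F π)) := by
    simp [hf]
  have hirrF := (Monic.irreducible_iff_irreducible_map_fraction_map (K := F) hmon).mp hirrR
  rw [hmap] at hirrF
  refine ⟨hirrF, ?_⟩
  rw [separable_iff_derivative_ne_zero hirrF]
  intro h0
  have h0' := congrArg (fun q : F[X] => q.coeff 0) h0
  simp [coeff_derivative, coeff_X_pow, (by omega : 1 ≠ p), hirrπ.ne_zero,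
    map_eq_zero_iff _ (IsFractionRing.injective R F)] at h0'
  rw [if_neg (by omega), zero_sub, neg_eq_zero, ← map_pow, coeff_C, if_pos rfl] at h0'
  exact pow_ne_zero m ((_root_.map_ne_zero_iff _ (IsFractionRing.injective R F)).mpr hirrπ.ne_zero) h0'

/-- The extension `K(x)`, `x^p = π + π^m x`. -/
theorem exists_ext {A K : Type u} [CommRing A] [IsDomain A] [IsDiscreteValuationRing A] [Field K] [Algebra A K]
    [IsFractionRing A K] {π : A} (hπ : maximalIdeal A = Ideal.span {π}) {p : ℕ} (hp : 1 < p) {m : ℕ} (hm : 1 < m) :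
    ∃ (K₁ : Type u) (_ : Field K₁) (_ : Algebra K K₁) (_ : FiniteDimensional K K₁) (x : K₁),
      x ^ p = algebraMap K K₁ (algebraMap A K π) + algebraMap K K₁ (algebraMap A K (π ^ m)) * x ∧
      Algebra.adjoin K {x} = ⊤ ∧ Module.finrank K K₁ = p ∧ Algebra.IsSeparable K K₁ ∧
      EtRam.IsTotallyRamified A ((algebraMap K K₁).comp (algebraMap A K)) := by
  obtain ⟨hirr, hsep⟩ := irreducible_separable (F := K) hπ hp (Nat.zero_lt_of_lt hm)
  set g : K[X] := X ^ p - (C (algebraMap A K (π ^ m)) * X + C (algebraMap A K π)) with hg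
  haveI : Fact (Irreducible g) := ⟨hirr⟩
  have hg0 : g ≠ 0 := hirr.ne_zero
  have hgm : g.Monic := monic_X_pow_sub (lt_of_le_of_lt degree_linear_le (by exact_mod_cast hp))
  have hgd : g.natDegree = p := by
    apply natDegree_eq_of_degree_eq_some
    rw [hg, degree_sub_eq_left_of_degree_lt, degree_X_pow]
    rw [degree_X_pow]
    exact lt_of_le_of_lt degree_linear_le (by exact_mod_cast hp)
  let pb := AdjoinRoot.powerBasis hg0
  haveI : FiniteDimensional K (AdjoinRoot g) := pb.finite
  set x := AdjoinRoot.root g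
  have hx0 : aeval x g = 0 := AdjoinRoot.eval₂_root g
  have hx : x ^ p = algebraMap K (AdjoinRoot g) (algebraMap A K π) +
      algebraMap K (AdjoinRoot g) (algebraMap A K (π ^ m)) * x := by
    simp only [hg, map_sub, map_add, map_mul, map_pow, aeval_X, aeval_C] at hx0
    simp only [map_pow]
    linear_combination hx0
  have hfin : Module.finrank K (AdjoinRoot g) = p := by rw [pb.finrank, ← hgd]; simp [pb]
  have hπm : π ∈ maximalIdeal A := hπ ▸ Ideal.mem_span_singleton_self π
  have hsepx : IsSeparable K x := by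
    rw [IsSeparable, AdjoinRoot.minpoly_root hg0, hgm.leadingCoeff, inv_one, map_one, mul_one]
    exact hsep
  have htop : IntermediateField.adjoin K {x} = ⊤ := by
    apply IntermediateField.toSubalgebra_injective
    rw [IntermediateField.top_toSubalgebra, eq_top_iff, ← AdjoinRoot.adjoinRoot_eq_top (f := g)]
    exact IntermediateField.algebra_adjoin_le_adjoin K _
  have hsepE : Algebra.IsSeparable K (AdjoinRoot g) := by
    haveI := (IntermediateField.isSeparable_adjoin_simple_iff_isSeparable K (AdjoinRoot g)).mpr hsepx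
    exact AlgEquiv.Algebra.isSeparable ((IntermediateField.equivOfEq htop).trans IntermediateField.topEquiv)
  refine ⟨AdjoinRoot g, inferInstance, inferInstance, inferInstance, x, hx, AdjoinRoot.adjoinRoot_eq_top, hfin,
    hsepE, ?_⟩
  rw [← IsScalarTower.algebraMap_eq A K (AdjoinRoot g)]
  exact (finrank_eq_and_isTotallyRamified (K := K) hπ x (fun V h => valuation_x_pow hπ
    (Ideal.pow_mem_of_mem _ hπm m (Nat.zero_lt_of_lt hm)) x hx
    (Ideal.pow_mem_of_mem _ hπm (m - 1) (by omega))
    (by rw [← pow_succ', Nat.sub_add_cancel (by omega)]) h (by omega)) (by omega) hfin.le).2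

/-- `M ⊗ K(x)` is a field when the minimal polynomial stays irreducible over `M`. -/
theorem isField_tensor {K K₁ M : Type u} [Field K] [Field K₁] [Algebra K K₁] [Field M] [Algebra K M]
    (x : K₁) (hgen : Algebra.adjoin K {x} = ⊤) (g : K[X]) (hx : aeval x g = 0)
    (hirr : Irreducible (g.map (algebraMap K M))) : IsField (M ⊗[K] K₁) := by
  haveI : Fact (Irreducible (g.map (algebraMap K M))) := ⟨hirr⟩
  let φ : AdjoinRoot (g.map (algebraMap K M)) →ₐ[M] M ⊗[K] K₁ :=
    AdjoinRoot.liftAlgHom _ (Algebra.ofId M (M ⊗[K] K₁)) (1 ⊗ₜ[K] x) (by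
      show eval₂ (algebraMap M (M ⊗[K] K₁)) (1 ⊗ₜ[K] x) (g.map (algebraMap K M)) = 0
      rw [eval₂_map, ← IsScalarTower.algebraMap_eq, ← aeval_def]
      have := aeval_algHom_apply (Algebra.TensorProduct.includeRight : K₁ →ₐ[K] M ⊗[K] K₁) x g
      rw [hx, map_zero] at this
      exact this)
  have hsurj : Function.Surjective φ := by
    intro z
    induction z with
    | zero => exact ⟨0, map_zero φ⟩
    | add a b ha hb =>
      obtain ⟨a, rfl⟩ := ha
      obtain ⟨b, rfl⟩ := hb
      exact ⟨a + b, map_add φ a b⟩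
    | tmul a y =>
      have hy : y ∈ Algebra.adjoin K {x} := hgen ▸ Algebra.mem_top
      suffices ∃ q, φ q = 1 ⊗ₜ[K] y by
        obtain ⟨q, hq⟩ := this
        refine ⟨algebraMap M _ a * q, ?_⟩
        rw [map_mul, hq, AlgHom.commutes, Algebra.TensorProduct.algebraMap_apply, Algebra.algebraMap_self,
          RingHom.id_apply, Algebra.TensorProduct.tmul_mul_tmul, mul_one, one_mul]
      induction hy using Algebra.adjoin_induction with
      | mem w hw =>
        rw [Set.mem_singleton_iff] at hw
        subst hw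
        exact ⟨AdjoinRoot.root _, AdjoinRoot.liftAlgHom_root ..⟩
      | algebraMap r =>
        refine ⟨algebraMap M _ (algebraMap K M r), ?_⟩
        rw [AlgHom.commutes, Algebra.TensorProduct.algebraMap_apply, Algebra.algebraMap_self, RingHom.id_apply,
          Algebra.TensorProduct.tmul_one_eq_one_tmul]
      | add a b _ _ ha hb =>
        obtain ⟨a', ha⟩ := ha
        obtain ⟨b', hb⟩ := hb
        exact ⟨a' + b', by rw [map_add, ha, hb, TensorProduct.tmul_add]⟩
      | mul a b _ _ ha hb =>
        obtain ⟨a', ha⟩ := ha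
        obtain ⟨b', hb⟩ := hb
        exact ⟨a' * b', by rw [map_mul, ha, hb, Algebra.TensorProduct.tmul_mul_tmul, one_mul]⟩
  exact MulEquiv.isField (Field.toIsField (AdjoinRoot (g.map (algebraMap K M))))
    (RingEquiv.ofBijective φ.toRingHom ⟨φ.toRingHom.injective, hsurj⟩).symm.toMulEquiv

end GrothLib.EtRam10
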