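import Groth.Agent.Lib.EtRam10.ArtinSchreier
import Mathlib.FieldTheory.KummerExtension
import Mathlib.FieldTheory.Perfect
import Mathlib.RingTheory.Polynomial.Cyclotomic.Roots

set_option linter.all false
set_option backward.isDefEq.respectTransparency false
set_option autoImplicit false

/-!
# Ramification in Kummer type extensions `((1+wt)^p - 1)/w^p = ξ`
-/

universe u

open Polynomial IsLocalRing

namespace GrothLib.EtRam10

variable {A : Type u} [CommRing A] [IsDomain A] [IsDiscreteValuationRing A]
  {K : Type u} [Field K] [Algebra A K] [IsFractionRing A K]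
  {L : Type u} [Field L] [Algebra K L] [Algebra A L] [IsScalarTower A K L]

section Monic

variable {p : ℕ} (hp : p.Prime) (P : A[X]) (hP : P.Monic) (hPd : P.natDegree = p)
  (ξ : K) (z : L) (hz : aeval z P = algebraMap K L ξ)
  (hgen : IntermediateField.adjoin K {z} = ⊤) {π : A} (hπ : maximalIdeal A = Ideal.span {π})

include hp hP hPd hz in
theorem monic_sub_const :
    (P.map (algebraMap A K) - C ξ).Monic ∧ (P.map (algebraMap A K) - C ξ).natDegree = p ∧
      aeval z (P.map (algebraMap A K) - C ξ) = 0 := by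
  refine ⟨(hP.map _).sub_of_left ?_, ?_, by simp [hz]⟩
  · refine degree_C_le.trans_lt ?_
    rw [degree_eq_natDegree (hP.map _).ne_zero, hP.natDegree_map, hPd]
    exact_mod_cast hp.pos
  · rw [natDegree_sub_C, hP.natDegree_map, hPd]

include hp hP hPd hz hgen in
theorem monic_finite : FiniteDimensional K L ∧ Module.finrank K L ≤ p := by
  obtain ⟨h1, h2, h3⟩ := monic_sub_const hp P hP hPd ξ z hz
  have := finite_of_adjoin_eq_top z _ h1 h3 hgen
  rwa [h2] at this

variable {V : ValuationSubring L} (h : EtRam.Dominates A (algebraMap A L) V)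

include hp hP hPd hz hπ h in
theorem monic_valuation {n : ℕ} (hn : 0 < n) {a : A} (ha : a ∉ maximalIdeal A)
    (he : ξ * algebraMap A K π ^ n = algebraMap A K a) :
    V.valuation z ^ p * V.valuation (algebraMap A L π) ^ n = 1 ∧
      V.valuation (z ^ p - algebraMap K L ξ) ≤ V.valuation z ^ (p - 1) := by
  have hv : V.valuation (algebraMap K L ξ) * V.valuation (algebraMap A L π) ^ n = 1 := by
    rw [← map_pow, ← map_mul, IsScalarTower.algebraMap_apply A K L π, ← map_pow, ← map_mul, he,
      ← IsScalarTower.algebraMap_apply, valuation_algebraMap_eq_one h ha]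
  have hb : 1 < V.valuation (algebraMap K L ξ) := by
    rw [eq_inv_of_mul_eq_one_left hv]
    exact valuation_zpow_one_lt h hπ K hn
  have hexp : algebraMap K L ξ =
      z ^ p + ∑ i ∈ Finset.range p, algebraMap A L (P.coeff i) * z ^ i := by
    rw [← hz, aeval_eq_sum_range, hPd, Finset.sum_range_succ, ← hPd, coeff_natDegree,
      hP.leadingCoeff, one_smul, add_comm]
    simp only [Algebra.smul_def]
  have hterm : ∀ i, V.valuation (algebraMap A L (P.coeff i) * z ^ i) ≤ V.valuation z ^ i := fun i => by
    rw [map_mul, map_pow]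
    exact mul_le_of_le_one_left' ((V.valuation_le_one_iff _).mpr (h.1 _))
  have h1 : 1 < V.valuation z := by
    by_contra hle
    push Not at hle
    refine absurd hb (not_lt.mpr ?_)
    rw [hexp]
    refine V.valuation.map_add_le (by rw [map_pow]; exact pow_le_one₀ zero_le' hle)
      (V.valuation.map_sum_le fun i _ => (hterm i).trans (pow_le_one₀ zero_le' hle))
  have hsum : V.valuation (∑ i ∈ Finset.range p, algebraMap A L (P.coeff i) * z ^ i) ≤
      V.valuation z ^ (p - 1) :=
    V.valuation.map_sum_le fun i hi => (hterm i).trans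
      (pow_le_pow_right₀ h1.le (Nat.le_sub_one_of_lt (Finset.mem_range.mp hi)))
  have hlt : V.valuation z ^ (p - 1) < V.valuation z ^ p :=
    pow_lt_pow_right₀ h1 (Nat.sub_lt hp.pos zero_lt_one)
  refine ⟨?_, ?_⟩
  · rwa [hexp, V.valuation.map_add_eq_of_lt_left (by rw [map_pow]; exact hsum.trans_lt hlt),
      map_pow] at hv
  · rw [hexp, sub_add_cancel_left, Valuation.map_neg]
    exact hsum

omit h in
include hπ in
/-- An element `y` with `v(y)^p = v(π)^j`, `p ∤ j`, forces total ramification. -/
theorem totallyRamified_of_power [FiniteDimensional K L] (hdim : Module.finrank K L ≤ p) (y : L) (j : ℤ)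
    (hpj : IsCoprime j (p : ℤ)) (hp' : 0 < p)
    (hy : ∀ V : ValuationSubring L, EtRam.Dominates A (algebraMap A L) V →
      V.valuation y ^ p = V.valuation (algebraMap A L π) ^ j) :
    EtRam.IsTotallyRamified A (algebraMap A L) ∧ Module.finrank K L = p := by
  obtain ⟨α, β, hab⟩ := hpj
  refine (finrank_eq_and_isTotallyRamified hπ (y ^ α * algebraMap A L π ^ β) ?_ hp' hdim).symm
  intro V h
  have hpne := (valuation_pi_pos K hπ V).ne'
  rw [map_mul, map_zpow₀, map_zpow₀, mul_pow, ← zpow_natCast, ← zpow_natCast, ← zpow_mul, ← zpow_mul,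
    mul_comm α, zpow_mul, zpow_natCast, hy V h, ← zpow_mul, ← zpow_add₀ hpne,
    show j * α + β * p = 1 by linarith, zpow_one]

omit h in
include hp hP hPd hz hgen hπ in
theorem monic_totallyRamified {n : ℕ} {a : A} (hn : 0 < n) (hpn : ¬ p ∣ n) (ha : a ∉ maximalIdeal A)
    (he : ξ * algebraMap A K π ^ n = algebraMap A K a) :
    EtRam.IsTotallyRamified A (algebraMap A L) ∧ Module.finrank K L = p := by
  obtain ⟨hfd, hdim⟩ := monic_finite hp P hP hPd ξ z hz hgen
  refine totallyRamified_of_power hπ hdim z (-(n : ℤ)) ?_ hp.pos fun V h => ?_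
  · rw [IsCoprime.neg_left_iff, Int.isCoprime_iff_gcd_eq_one]
    exact Nat.coprime_comm.mp ((Nat.Prime.coprime_iff_not_dvd hp).mpr hpn)
  · rw [zpow_neg, zpow_natCast]
    exact eq_inv_of_mul_eq_one_left (monic_valuation hp P hP hPd ξ z hz hπ h hn ha he).1

omit h in
include hp hP hPd hz hgen hπ in
theorem monic_inseparable [CharP (ResidueField A) p] {n : ℕ} {a : A} (hn : 0 < n) (hpn : p ∣ n)
    (hna : ∀ r : A, residue A a ≠ residue A r ^ p)
    (he : ξ * algebraMap A K π ^ n = algebraMap A K a) :
    Inseparable4 p A (algebraMap A L) := by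
  obtain ⟨hfd, hdim⟩ := monic_finite hp P hP hPd ξ z hz hgen
  obtain ⟨m, rfl⟩ := hpn
  have hm : 0 < m := Nat.pos_of_mul_pos_left hn
  have ha : a ∉ maximalIdeal A := fun h => hna 0 (by
    rw [map_zero, zero_pow hp.ne_zero, IsLocalRing.residue_eq_zero_iff]; exact h)
  refine ⟨exists_dominates, (residually_inseparable (K := K) hπ hp (z * algebraMap A L π ^ m) a hna ?_ hdim).2⟩
  intro V h
  obtain ⟨h1, h1'⟩ := monic_valuation hp P hP hPd ξ z hz hπ h hn ha he
  rw [mul_comm p m, pow_mul, ← mul_pow, pow_eq_one_iff_of_nonneg zero_le' hp.ne_zero] at h1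
  refine ⟨(by rw [map_mul, map_pow, h1]), ?_⟩
  have he' : algebraMap A L a = algebraMap K L ξ * algebraMap A L π ^ (p * m) := by
    rw [IsScalarTower.algebraMap_apply A K L a, ← he, map_mul, map_pow, ← IsScalarTower.algebraMap_apply]
  rw [he', show (z * algebraMap A L π ^ m) ^ p - algebraMap K L ξ * algebraMap A L π ^ (p * m) =
      (z ^ p - algebraMap K L ξ) * algebraMap A L π ^ (p * m) by rw [mul_pow, ← pow_mul, mul_comm m p]; ring,
    map_mul, map_pow]
  refine (mul_le_mul_left h1' _).trans_lt ?_
  have : p * m = m * (p - 1) + m := by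
    rw [Nat.mul_sub_one, Nat.sub_add_cancel (Nat.le_mul_of_pos_right _ hp.pos), mul_comm]
  rw [this, pow_add, pow_mul, ← mul_assoc, ← mul_pow, h1, one_pow, one_mul]
  exact pow_lt_one₀ zero_le' (h.2 π (hπ ▸ Ideal.mem_span_singleton_self π)) hm.ne'

omit h in
include hp hP hPd hz hgen hπ in
theorem monic_unramified (hPres : P.map (residue A) = X ^ p - X) [CharP (ResidueField A) p]
    (a : A) (ha : algebraMap A K a = ξ) : EtRam.IsUnramifiedExt A (algebraMap A L) := by
  obtain ⟨h1, h2, h3⟩ := monic_sub_const hp P hP hPd ξ z hz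
  refine isUnramifiedExt_of_separable_reduction (K := K) hπ z (P - C a) (hP.sub_of_left ?_) ?_ ?_
    (exists_aeval_of_adjoin_eq_top z ⟨_, h1, h3⟩ hgen)
  · refine degree_C_le.trans_lt ?_
    rw [degree_eq_natDegree hP.ne_zero, hPd]
    exact_mod_cast hp.pos
  · rw [map_sub, aeval_C, hz, ← ha, ← IsScalarTower.algebraMap_apply, sub_self]
  · rw [Polynomial.map_sub, hPres, map_C, separable_def, derivative_sub, derivative_sub,
      derivative_X_pow, derivative_C, derivative_X, CharP.cast_eq_zero, map_zero,
      zero_mul, sub_zero, zero_sub]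
    exact isCoprime_one_right.neg_right

end Monic

section Kummer

variable {p : ℕ} (hp : p.Prime) [CharP (ResidueField A) p] [CharZero K] (ζ : A)
  (hζ : IsPrimitiveRoot ζ p) (P : A[X])
  (hP : C ((1 - ζ) ^ p) * P = (1 + C (1 - ζ) * X) ^ p - 1)

include hp hζ in
theorem one_sub_ne_zero : (1 - ζ : A) ≠ 0 :=
  sub_ne_zero.mpr (hζ.ne_one hp.one_lt).symm

include hp hζ in
theorem one_sub_mem : (1 - ζ : A) ∈ maximalIdeal A := by
  haveI := Fact.mk hp
  rw [← IsLocalRing.residue_eq_zero_iff, map_sub, map_one]
  apply eq_zero_of_pow_eq_zero (n := p)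
  rw [sub_pow_char, one_pow, ← map_pow, hζ.pow_eq_one, map_one, sub_self]

include hP in
/-- The defining property, evaluated. -/
theorem aeval_kummer {S : Type u} [CommRing S] [Algebra A S] (t : S) :
    algebraMap A S (1 - ζ) ^ p * aeval t P = (1 + algebraMap A S (1 - ζ) * t) ^ p - 1 := by
  generalize (1 - ζ : A) = w at hP ⊢
  have := congrArg (aeval t) hP
  simp only [map_mul, map_sub, map_pow, map_add, map_one, aeval_C, aeval_X] at this
  exact this

include hp hζ hP in
theorem kummer_poly : P.Monic ∧ P.natDegree = p ∧ P.map (residue A) = X ^ p - X := by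
  classical
  haveI := Fact.mk hp
  have hw := one_sub_ne_zero hp ζ hζ
  have hwp : ((1 - ζ) ^ p : A) ≠ 0 := pow_ne_zero _ hw
  have hd1 : ((1 + C (1 - ζ) * X : A[X]) ^ p - 1).natDegree = p := by
    rw [← map_one C, natDegree_sub_C, natDegree_pow, add_comm, natDegree_add_C,
      natDegree_C_mul_X _ hw, mul_one]
  have hd : P.natDegree = p := by rw [← hd1, ← hP, natDegree_C_mul hwp]
  have hmon : P.Monic := by
    have h1 := congrArg leadingCoeff hP
    rw [leadingCoeff_mul, leadingCoeff_C] at h1
    have h2 : ((1 + C (1 - ζ) * X : A[X]) ^ p - 1).leadingCoeff = (1 - ζ) ^ p := by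
      have hlt : degree (1 : A[X]) < degree ((1 + C (1 - ζ) * X : A[X]) ^ p) := by
        refine degree_one_le.trans_lt ?_
        rw [degree_pow, add_comm, ← C_1, degree_add_C (by rw [degree_C_mul_X hw]; exact zero_lt_one),
          degree_C_mul_X hw, nsmul_one]
        exact_mod_cast hp.pos
      rw [sub_eq_add_neg, leadingCoeff_add_of_degree_lt' (by rwa [degree_neg]), leadingCoeff_pow,
        leadingCoeff_add_of_degree_lt (degree_one_le.trans_lt (by rw [degree_C_mul_X hw]; exact zero_lt_one)),
        leadingCoeff_mul_X, leadingCoeff_C]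
    rw [h2] at h1
    exact mul_left_cancel₀ hwp (by rw [h1, mul_one])
  refine ⟨hmon, hd, ?_⟩
  -- the `p` roots of `P` reduce to the elements of the prime field
  have hroot : ∀ i : ℕ, P.eval (-∑ l ∈ Finset.range i, ζ ^ l) = 0 := by
    intro i
    have h1 := aeval_kummer ζ P hP (-∑ l ∈ Finset.range i, ζ ^ l)
    rw [Algebra.algebraMap_self, RingHom.id_apply, coe_aeval_eq_eval, mul_neg, mul_neg_geom_sum,
      neg_sub, add_sub_cancel, ← pow_mul, mul_comm i, pow_mul, hζ.pow_eq_one, one_pow, sub_self] at h1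
    exact (mul_eq_zero.mp h1).resolve_left hwp
  have hres : ∀ i : ℕ, residue A (-∑ l ∈ Finset.range i, ζ ^ l) = -(i : ResidueField A) := by
    intro i
    have h1 : residue A ζ = 1 := by
      have := (IsLocalRing.residue_eq_zero_iff _).mpr (one_sub_mem hp ζ hζ)
      rwa [map_sub, map_one, sub_eq_zero, eq_comm] at this
    simp [h1]
  rw [← sub_eq_zero]
  refine eq_zero_of_natDegree_lt_card_of_eval_eq_zero' _
    ((Finset.range p).image fun i : ℕ => -(i : ResidueField A)) (fun y hy => ?_) ?_
  · obtain ⟨i, -, rfl⟩ := Finset.mem_image.mp hy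
    rw [eval_sub, ← hres, eval_map, eval₂_at_apply, hroot, map_zero, hres, eval_sub, eval_pow, eval_X,
      ← frobenius_def, map_neg, map_natCast, sub_self, sub_self]
  · rw [Finset.card_image_of_injOn, Finset.card_range]
    · rcases eq_or_ne (P.map (residue A) - (X ^ p - X)) 0 with h0 | h0
      · rw [h0, natDegree_zero]; exact hp.pos
      refine (natDegree_lt_iff_degree_lt h0).mpr ?_
      have hXp : (X ^ p - X : (ResidueField A)[X]).degree = p := by
        rw [degree_sub_eq_left_of_degree_lt] <;> rw [degree_X_pow]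
        rw [degree_X]; exact_mod_cast hp.one_lt
      have hmX : (X ^ p - X : (ResidueField A)[X]).Monic :=
        monic_X_pow_sub (degree_X_le.trans_lt (by exact_mod_cast hp.one_lt))
      have hdm : (P.map (residue A)).degree = p := by
        rw [hmon.degree_map, degree_eq_natDegree hmon.ne_zero, hd]
      calc _ < (P.map (residue A)).degree :=
            degree_sub_lt (by rw [hdm, hXp]) (hmon.map _).ne_zero
              (by rw [(hmon.map _).leadingCoeff, hmX.leadingCoeff])
        _ = _ := hdm
    · intro i hi j hj hij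
      exact CharP.natCast_injOn_Iio (ResidueField A) p (Finset.mem_range.mp hi) (Finset.mem_range.mp hj)
        (neg_injective hij)

variable (ξ : K) (z : L) (hz : aeval z P = algebraMap K L ξ)
  (hgen : IntermediateField.adjoin K {z} = ⊤)

include hP hz in
theorem kummer_relation : (1 + algebraMap A L (1 - ζ) * z) ^ p =
    algebraMap K L (1 + algebraMap A K (1 - ζ) ^ p * ξ) := by
  rw [map_add, map_mul, map_pow, map_one, ← IsScalarTower.algebraMap_apply, ← hz, aeval_kummer ζ P hP]
  ring

include hp hζ hgen in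
theorem kummer_generator :
    IntermediateField.adjoin K {1 + algebraMap A L (1 - ζ) * z} = ⊤ := by
  have hwL : algebraMap A L (1 - ζ) ≠ 0 :=
    (_root_.map_ne_zero_iff _ (injective_algebraMap K)).mpr (one_sub_ne_zero hp ζ hζ)
  rw [eq_top_iff, ← hgen, IntermediateField.adjoin_simple_le_iff]
  set U := IntermediateField.adjoin K {1 + algebraMap A L (1 - ζ) * z}
  have h1 : algebraMap A L (1 - ζ) * z ∈ U := by
    have := sub_mem (IntermediateField.mem_adjoin_simple_self K (1 + algebraMap A L (1 - ζ) * z)) U.one_mem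
    rwa [add_sub_cancel_left] at this
  have h2 : algebraMap A L (1 - ζ) ∈ U := by
    rw [IsScalarTower.algebraMap_apply A K L]; exact U.algebraMap_mem _
  have := div_mem h1 h2
  rwa [mul_div_cancel_left₀ _ hwL] at this

include hp hζ hP hz hgen in
theorem kummer_galois : IsGalois K L ∧ (Module.finrank K L = 1 ∨ Module.finrank K L = p) := by
  obtain ⟨hmon, hd, -⟩ := kummer_poly hp ζ hζ P hP
  obtain ⟨hfd, hdim⟩ := monic_finite hp P hmon hd ξ z hz hgen
  haveI := hfd
  haveI := Fact.mk hp
  set u := 1 + algebraMap A L (1 - ζ) * z with hu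
  set c := 1 + algebraMap A K (1 - ζ) ^ p * ξ with hc
  have huc : u ^ p = algebraMap K L c := kummer_relation ζ P hP ξ z hz
  have hζK : IsPrimitiveRoot (algebraMap A K ζ) p := hζ.map_of_injective (IsFractionRing.injective A K)
  have hζL : IsPrimitiveRoot (algebraMap A L ζ) p := hζ.map_of_injective (injective_algebraMap K)
  have hintu : IsIntegral K u := .of_finite K u
  have htop := kummer_generator hp ζ hζ z hgen
  haveI : (X ^ p - C c : K[X]).IsSplittingField K L := by
    refine ⟨?_, ?_⟩
    · rw [Polynomial.map_sub, Polynomial.map_pow, map_X, map_C]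
      exact X_pow_sub_C_splits_of_isPrimitiveRoot hζL huc
    · rw [eq_top_iff]
      intro x _
      obtain ⟨g, rfl⟩ := exists_aeval_of_adjoin_eq_top u hintu htop x
      refine Algebra.adjoin_mono ?_ (aeval_mem_adjoin_singleton K u)
      rw [Set.singleton_subset_iff, mem_rootSet_of_ne (monic_X_pow_sub_C c hp.ne_zero).ne_zero]
      simp [huc]
  haveI : Normal K L := Normal.of_isSplittingField (X ^ p - C c)
  haveI : IsGalois K L := {}
  refine ⟨inferInstance, ?_⟩
  have hpg : IsPGroup p Gal(L/K) := by
    intro σ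
    refine ⟨1, ?_⟩
    obtain ⟨e, he⟩ : ∃ e : K, σ u = algebraMap K L e * u ∧ e ^ p = 1 := by
      rcases eq_or_ne u 0 with h0 | h0
      · exact ⟨1, by simp [h0], one_pow _⟩
      have h1 : (σ u / u) ^ p = 1 := by
        rw [div_pow, ← map_pow, huc, AlgEquiv.commutes, div_self (huc ▸ pow_ne_zero p h0)]
      obtain ⟨i, -, hi⟩ := hζL.eq_pow_of_pow_eq_one h1
      refine ⟨algebraMap A K ζ ^ i, ?_, ?_⟩
      · rw [map_pow, ← IsScalarTower.algebraMap_apply, hi, div_mul_cancel₀ _ h0]
      · rw [← pow_mul, mul_comm, pow_mul, hζK.pow_eq_one, one_pow]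
    rw [pow_one]
    have hk : ∀ k : ℕ, (σ ^ k) u = algebraMap K L (e ^ k) * u := by
      intro k
      induction k with
      | zero => simp
      | succ k ih =>
        rw [pow_succ', AlgEquiv.mul_apply, ih, map_mul, AlgEquiv.commutes, he.1, ← mul_assoc, ← map_mul,
          ← pow_succ]
    apply AlgEquiv.ext
    intro x
    obtain ⟨g, rfl⟩ := exists_aeval_of_adjoin_eq_top u hintu htop x
    rw [AlgEquiv.one_apply, ← aeval_algHom_apply, hk, he.2, map_one, one_mul]
  obtain ⟨e, he⟩ := IsPGroup.iff_card.mp hpg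
  rw [IsGalois.card_aut_eq_finrank] at he
  rw [he] at hdim ⊢
  rcases e with _ | _ | e
  · left; simp
  · right; simp
  · exfalso
    have := Nat.pow_lt_pow_right hp.one_lt (show 1 < e + 1 + 1 by omega)
    rw [pow_one] at this
    omega

variable {π : A} (hπ : maximalIdeal A = Ideal.span {π})

/-- The classification of the ramification of `L/K`. -/
def Cases (p : ℕ) (A K L : Type u) [CommRing A] [IsLocalRing A] [Field K] [Field L] [Algebra K L]
    [Algebra A L] : Prop :=
  Module.finrank K L = 1 ∨ EtRam.IsUnramifiedExt A (algebraMap A L) ∨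
    (EtRam.IsTotallyRamified A (algebraMap A L) ∧ Module.finrank K L = p) ∨
    Inseparable4 p A (algebraMap A L)

omit hz hgen in
include hp hζ hP hπ in
theorem kummer_cases_unit : ∀ (n : ℕ) (ξ : K) (z : L), aeval z P = algebraMap K L ξ →
    IntermediateField.adjoin K {z} = ⊤ →
    ∀ c : Aˣ, algebraMap A K c = 1 + algebraMap A K (1 - ζ) ^ p * ξ →
    ∀ a : A, ξ * algebraMap A K π ^ n = algebraMap A K a → Cases p A K L := by
  obtain ⟨hmon, hd, hres⟩ := kummer_poly hp ζ hζ P hP
  haveI := Fact.mk hp
  intro n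
  induction n with
  | zero =>
    intro ξ z hz hgen c hc a he
    rw [pow_zero, mul_one] at he
    exact .inr (.inl (monic_unramified hp P hmon hd ξ z hz hgen hπ hres a he.symm))
  | succ n ih =>
    intro ξ z hz hgen c hc a he
    have hπ0 := ne_zero_of_maximalIdeal_eq hπ
    have hinjK := IsFractionRing.injective A K
    have hπK : algebraMap A K π ≠ 0 := (_root_.map_ne_zero_iff _ hinjK).mpr hπ0
    by_cases ha : a ∈ maximalIdeal A
    · rw [hπ, Ideal.mem_span_singleton] at ha
      obtain ⟨b, rfl⟩ := ha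
      refine ih ξ z hz hgen c hc b (mul_left_cancel₀ hπK ?_)
      rw [← map_mul, ← he]; ring
    by_cases hpn : p ∣ n + 1
    swap
    · exact .inr (.inr (.inl (monic_totallyRamified hp P hmon hd ξ z hz hgen hπ n.succ_pos hpn ha he)))
    by_cases hna : ∀ r : A, residue A a ≠ residue A r ^ p
    · exact .inr (.inr (.inr (monic_inseparable hp P hmon hd ξ z hz hgen hπ n.succ_pos hpn hna he)))
    push Not at hna
    obtain ⟨r, hr⟩ := hna
    obtain ⟨m, hm⟩ := hpn
    have hm0 : 0 < m := Nat.pos_of_ne_zero fun h0 => by simp [h0] at hm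
    -- `π ^ m ∣ w`
    set w : A := 1 - ζ with hw
    have hd' : a * w ^ p = π ^ (p * m) * ((c : A) - 1) := by
      apply hinjK
      rw [← hm]
      simp only [map_mul, map_pow, map_sub, map_one, hc]
      linear_combination (-(algebraMap A K w ^ p)) * he
    have hau : IsUnit a := IsLocalRing.notMem_maximalIdeal.mp ha
    obtain ⟨w', hw'⟩ : π ^ m ∣ w := by
      rw [← IsIntegrallyClosed.pow_dvd_pow_iff hp.ne_zero, ← pow_mul, mul_comm m p]
      exact hau.dvd_mul_left.mp ⟨_, hd'⟩
    have hcd : (c : A) = 1 + a * w' ^ p := by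
      have h1 : π ^ (p * m) * ((c : A) - 1) = π ^ (p * m) * (a * w' ^ p) := by
        rw [← hd', hw', mul_pow, ← pow_mul, mul_comm m p]; ring
      linear_combination mul_left_cancel₀ (pow_ne_zero _ hπ0) h1
    obtain ⟨ε, hε⟩ : IsUnit (1 + r * w') := by
      rw [← IsLocalRing.residue_ne_zero_iff_isUnit]
      intro h0
      apply (IsLocalRing.residue_ne_zero_iff_isUnit _).mpr c.isUnit
      rw [hcd, map_add, map_one, map_mul, map_pow, hr, ← mul_pow, ← map_mul]
      rw [map_add, map_one] at h0
      rw [← one_pow p, ← add_pow_char, h0, zero_pow hp.ne_zero]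
    set s : K := algebraMap A K r / algebraMap A K π ^ m with hs
    have hwK : algebraMap A K w ≠ 0 :=
      (_root_.map_ne_zero_iff _ hinjK).mpr (one_sub_ne_zero hp ζ hζ)
    have hεs : algebraMap A K (ε : A) = 1 + algebraMap A K w * s := by
      rw [hε, hs, hw', map_add, map_one, map_mul, map_mul, map_pow]
      field_simp
    have hεne : algebraMap A K (ε : A) ≠ 0 := (_root_.map_ne_zero_iff _ hinjK).mpr ε.ne_zero
    obtain ⟨b, hb⟩ : π ∣ a - r ^ p := by
      rw [← Ideal.mem_span_singleton, ← hπ, ← IsLocalRing.residue_eq_zero_iff, map_sub, map_pow, hr, sub_self]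
    have hPs : ∃ q : A, (aeval s P - s ^ p) * algebraMap A K π ^ n = algebraMap A K q := by
      have h1 : aeval s P - s ^ p = ∑ i ∈ Finset.range p, algebraMap A K (P.coeff i) * s ^ i := by
        rw [aeval_eq_sum_range, hd, Finset.sum_range_succ, ← hd, coeff_natDegree, hmon.leadingCoeff,
          one_smul, add_sub_cancel_right]
        simp only [Algebra.smul_def]
      refine ⟨∑ i ∈ Finset.range p, P.coeff i * r ^ i * π ^ (n - m * i), ?_⟩
      rw [h1, Finset.sum_mul, map_sum]
      refine Finset.sum_congr rfl fun i hi => ?_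
      have hin : m * i ≤ n := by
        have : m * (i + 1) ≤ m * p := Nat.mul_le_mul_left m (Finset.mem_range.mp hi)
        rw [Nat.mul_succ, mul_comm m p, ← hm] at this
        omega
      conv_lhs => rw [← Nat.sub_add_cancel hin, pow_add, pow_mul]
      rw [hs, map_mul, map_mul, map_pow, map_pow, div_pow]
      field_simp
    obtain ⟨q, hq⟩ := hPs
    refine ih ((ξ - aeval s P) / algebraMap A K (ε : A) ^ p)
      ((z - algebraMap K L s) / algebraMap A L (ε : A)) ?_ ?_ (c / ε ^ p) ?_ ((b - q) * ↑(ε ^ p)⁻¹) ?_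
    · have hwL : algebraMap A L w ^ p ≠ 0 := pow_ne_zero _
        ((_root_.map_ne_zero_iff _ (injective_algebraMap K)).mpr (one_sub_ne_zero hp ζ hζ))
      apply mul_left_cancel₀ hwL
      rw [hw, aeval_kummer ζ P hP, ← hw]
      have h1 : 1 + algebraMap A L w * ((z - algebraMap K L s) / algebraMap A L (ε : A)) =
          (1 + algebraMap A L w * z) / algebraMap A L (ε : A) := by
        rw [IsScalarTower.algebraMap_apply A K L (ε : A), hεs, map_add, map_one, map_mul,
          ← IsScalarTower.algebraMap_apply]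
        have hne : (1 : L) + algebraMap A L w * algebraMap K L s ≠ 0 := by
          have := (_root_.map_ne_zero (algebraMap K L)).mpr (hεs ▸ hεne)
          rwa [map_add, map_one, map_mul, ← IsScalarTower.algebraMap_apply] at this
        field_simp
        ring
      rw [h1, div_pow, kummer_relation ζ P hP ξ z hz, IsScalarTower.algebraMap_apply A K L (ε : A),
        IsScalarTower.algebraMap_apply A K L w, ← map_pow (algebraMap K L), ← map_pow (algebraMap K L), ← map_div₀, ← map_mul, ← map_one (algebraMap K L),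
        ← map_sub]
      congr 1
      rw [← hw, mul_div_assoc', mul_sub, aeval_kummer ζ P hP, ← hw, ← hεs]
      field_simp
      ring
    · rw [eq_top_iff, ← hgen, IntermediateField.adjoin_simple_le_iff]
      set U := IntermediateField.adjoin K {(z - algebraMap K L s) / algebraMap A L (ε : A)}
      have hεU : algebraMap A L (ε : A) ∈ U := by
        rw [IsScalarTower.algebraMap_apply A K L]; exact U.algebraMap_mem _
      have h2 := add_mem (mul_mem (IntermediateField.mem_adjoin_simple_self K
        ((z - algebraMap K L s) / algebraMap A L (ε : A))) hεU) (U.algebraMap_mem s)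
      rwa [div_mul_cancel₀ _ ((_root_.map_ne_zero_iff _ (injective_algebraMap K)).mpr ε.ne_zero),
        sub_add_cancel] at h2
    · rw [div_eq_mul_inv, Units.val_mul, map_mul, map_units_inv, hc, Units.val_pow_eq_pow_val, map_pow,
        mul_div_assoc', mul_sub, aeval_kummer ζ P hP, ← hw, ← hεs]
      field_simp
      ring
    · have h3 : algebraMap A K a - algebraMap A K r ^ p = algebraMap A K π * algebraMap A K b := by
        rw [← map_pow, ← map_sub, ← map_mul, hb]
      have hsp : s ^ p * algebraMap A K π ^ (n + 1) = algebraMap A K r ^ p := by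
        rw [hs, hm, div_pow, ← pow_mul, mul_comm m p, div_mul_cancel₀ _ (pow_ne_zero _ hπK)]
      have h4 : (ξ - aeval s P) * algebraMap A K π ^ n = algebraMap A K b - algebraMap A K q := by
        apply mul_right_cancel₀ hπK
        linear_combination he - hsp + h3 - algebraMap A K π * hq
      rw [map_mul, map_units_inv, map_sub, ← h4, Units.val_pow_eq_pow_val, map_pow]
      field_simp

include hp hζ hP hz hgen hπ in
theorem kummer_cases : Cases p A K L := by
  obtain ⟨hmon, hd, hres⟩ := kummer_poly hp ζ hζ P hP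
  obtain ⟨hfd, hdim⟩ := monic_finite hp P hmon hd ξ z hz hgen
  haveI := hfd
  set w : A := 1 - ζ with hw
  set c := 1 + algebraMap A K w ^ p * ξ with hcdef
  set u := 1 + algebraMap A L w * z with hudef
  have huc : u ^ p = algebraMap K L c := kummer_relation ζ P hP ξ z hz
  have hinjK := IsFractionRing.injective A K
  have hπK : algebraMap A K π ≠ 0 := (_root_.map_ne_zero_iff _ hinjK).mpr (ne_zero_of_maximalIdeal_eq hπ)
  have hwK : algebraMap A K w ≠ 0 := (_root_.map_ne_zero_iff _ hinjK).mpr (one_sub_ne_zero hp ζ hζ)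
  have hwL : algebraMap A L w ≠ 0 :=
    (_root_.map_ne_zero_iff _ (injective_algebraMap K)).mpr (one_sub_ne_zero hp ζ hζ)
  have htop := kummer_generator hp ζ hζ z hgen
  rcases eq_or_ne c 0 with hc0 | hc0
  · left
    have hu0 : u = 0 := eq_zero_of_pow_eq_zero (n := p) (by rw [huc, hc0, map_zero])
    rw [← hw, ← hudef, hu0, IntermediateField.adjoin_zero] at htop
    rw [← IntermediateField.finrank_top', ← htop, IntermediateField.finrank_bot]
  -- `c = π ^ j * c'`
  have hirr : Irreducible π := (IsDiscreteValuationRing.irreducible_iff_uniformizer π).mpr hπ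
  obtain ⟨j, c', hc'⟩ : ∃ (j : ℤ) (c' : Aˣ), c = algebraMap A K c' * algebraMap A K π ^ j := by
    obtain ⟨x, y, hy, hxy⟩ := IsFractionRing.div_surjective (A := A) c
    have hx0 : x ≠ 0 := fun h => hc0 (by rw [← hxy, h, map_zero, zero_div])
    obtain ⟨i, u₁, rfl⟩ := IsDiscreteValuationRing.eq_unit_mul_pow_irreducible hx0 hirr
    obtain ⟨l, u₂, rfl⟩ := IsDiscreteValuationRing.eq_unit_mul_pow_irreducible (nonZeroDivisors.ne_zero hy) hirr
    refine ⟨(i : ℤ) - l, u₁ * u₂⁻¹, ?_⟩
    rw [← hxy, map_mul, map_mul, Units.val_mul, map_mul, map_units_inv, map_pow, map_pow, zpow_sub₀ hπK,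
      zpow_natCast, zpow_natCast]
    field_simp
  by_cases hpj : (p : ℤ) ∣ j
  swap
  · refine .inr (.inr (.inl (totallyRamified_of_power (K := K) hπ hdim u j ?_ hp.pos fun V h => ?_)))
    · exact ((Int.prime_iff_natAbs_prime.mpr (by simpa using hp)).coprime_iff_not_dvd.mpr hpj).symm
    · rw [← map_pow, huc, hc', map_mul, map_zpow₀, ← IsScalarTower.algebraMap_apply,
        ← IsScalarTower.algebraMap_apply, map_mul, map_zpow₀,
        valuation_algebraMap_eq_one h (fun hm => (IsLocalRing.mem_maximalIdeal _).mp hm c'.isUnit), one_mul]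
  obtain ⟨t, rfl⟩ := hpj
  set z' : L := (u / algebraMap K L (algebraMap A K π ^ t) - 1) / algebraMap A L w with hz'
  set ξ' : K := (algebraMap A K c' - 1) / algebraMap A K w ^ p with hξ'
  obtain ⟨e, ε, hε⟩ := IsDiscreteValuationRing.eq_unit_mul_pow_irreducible (one_sub_ne_zero hp ζ hζ) hirr
  refine kummer_cases_unit hp ζ hζ P hP hπ (e * p) ξ' z' ?_ ?_ c' ?_ (((c' : A) - 1) * ↑(ε ^ p)⁻¹) ?_
  · apply mul_left_cancel₀ (pow_ne_zero p hwL)
    rw [hw, aeval_kummer ζ P hP, ← hw]
    have h1 : 1 + algebraMap A L w * z' = u / algebraMap K L (algebraMap A K π ^ t) := by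
      rw [hz', mul_div_cancel₀ _ hwL]; ring
    rw [h1, div_pow, huc, hc', ← map_pow, ← map_div₀, IsScalarTower.algebraMap_apply A K L w, ← map_pow,
      ← map_mul, ← map_one (algebraMap K L), ← map_sub]
    congr 1
    rw [hξ', mul_div_cancel₀ _ (pow_ne_zero p hwK), ← zpow_natCast (algebraMap A K π ^ t), ← zpow_mul,
      mul_comm t, mul_div_cancel_right₀ _ (zpow_ne_zero _ hπK)]
  · rw [eq_top_iff, ← htop, IntermediateField.adjoin_simple_le_iff]
    set U := IntermediateField.adjoin K {z'}
    have hwU : algebraMap A L w ∈ U := by rw [IsScalarTower.algebraMap_apply A K L]; exact U.algebraMap_mem _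
    have h2 := mul_mem (add_mem (mul_mem (IntermediateField.mem_adjoin_simple_self K z') hwU) U.one_mem)
      (U.algebraMap_mem (algebraMap A K π ^ t))
    rwa [hz', div_mul_cancel₀ _ hwL, sub_add_cancel,
      div_mul_cancel₀ _ ((_root_.map_ne_zero _).mpr (zpow_ne_zero _ hπK))] at h2
  · rw [← hw, hξ', mul_div_cancel₀ _ (pow_ne_zero p hwK)]; ring
  · have hwe : w = (ε : A) * π ^ e := hε
    rw [hξ', hwe, map_mul, map_mul, map_units_inv, map_sub, map_one, Units.val_pow_eq_pow_val, map_pow,
      map_pow, mul_pow, ← pow_mul]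
    field_simp

end Kummer

end GrothLib.EtRam10
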