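import Groth.Agent.Lib.EtRam10.Generators
import Groth.Agent.Lib.EtRam10.Eisenstein
import Groth.Agent.Lib.EtRam10.Deform
import Groth.Agent.Lib.SepField.Smooth
import Mathlib.Data.Nat.Factorization.Basic

set_option linter.all false
set_option backward.isDefEq.respectTransparency false
set_option autoImplicit false

/-!
# Polar parts modulo Artin–Schreier in an equal characteristic DVR
-/

universe u

open IsLocalRing Polynomial

namespace GrothLib.EtRam10

section Section

variable (B : Type u) [CommRing B] [IsDomain B] [IsDiscreteValuationRing B]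

/-- A multiplicative and additive section of the residue map modulo a power of the maximal ideal. -/
theorem exists_section_mod (p : ℕ) [hp : Fact p.Prime] [CharP B p] {π : B} (hπ : maximalIdeal B = Ideal.span {π}) {P : ℕ} (hP : 0 < P) :
    ∃ (s : ResidueField B →+* B ⧸ Ideal.span {π ^ P}) (σ : ResidueField B → B),
      ∀ x, Ideal.Quotient.mk (Ideal.span {π ^ P}) (σ x) = s x ∧ residue B (σ x) = x := by
  haveI : CharP (GrothLib.SepField.PrimeFld.{u} p) p := charP_of_injective_ringHom
    (f := (ULift.ringEquiv.symm : ZMod p ≃+* GrothLib.SepField.PrimeFld.{u} p).toRingHom)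
    ULift.ringEquiv.symm.injective p
  haveI : PerfectRing (GrothLib.SepField.PrimeFld.{u} p) p := PerfectRing.ofFiniteOfIsReduced p _
  letI iB : Algebra (GrothLib.SepField.PrimeFld.{u} p) B :=
    ((ZMod.castHom (dvd_refl p) B).comp ULift.ringEquiv.toRingHom).toAlgebra
  have hle : Ideal.span {π ^ P} ≤ maximalIdeal B := by
    rw [hπ, Ideal.span_singleton_le_span_singleton]
    exact dvd_pow_self π hP.ne'
  let g : (B ⧸ Ideal.span {π ^ P}) →ₐ[GrothLib.SepField.PrimeFld.{u} p] ResidueField B :=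
    Ideal.Quotient.factorₐ _ hle
  have hg : Function.Surjective g := Ideal.Quotient.factor_surjective hle
  have hnil : IsNilpotent (RingHom.ker (g : (B ⧸ Ideal.span {π ^ P}) →+* ResidueField B)) := by
    refine ⟨P, le_bot_iff.1 ?_⟩
    have hk : RingHom.ker (g : (B ⧸ Ideal.span {π ^ P}) →+* ResidueField B) ≤
        (maximalIdeal B).map (Ideal.Quotient.mk (Ideal.span {π ^ P})) := by
      intro x hx
      obtain ⟨y, rfl⟩ := Ideal.Quotient.mk_surjective x
      refine Ideal.mem_map_of_mem _ ?_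
      rw [RingHom.mem_ker] at hx
      exact Ideal.Quotient.eq_zero_iff_mem.1 hx
    refine (Ideal.pow_right_mono hk P).trans ?_
    rw [← Ideal.map_pow, hπ, Ideal.span_singleton_pow, Ideal.map_quotient_self]
  haveI : CharP (ResidueField B) p := charP_of_injective_algebraMap
    (algebraMap (GrothLib.SepField.PrimeFld.{u} p) (ResidueField B)).injective p
  haveI : Algebra.FormallySmooth (GrothLib.SepField.PrimeFld.{u} p) (ResidueField B) :=
    GrothLib.SepField.formallySmooth_perfect p
  let s := Algebra.FormallySmooth.liftOfSurjective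
    (AlgHom.id (GrothLib.SepField.PrimeFld.{u} p) (ResidueField B)) g hg hnil
  have hs : ∀ x, g (s x) = x := fun x => Algebra.FormallySmooth.liftOfSurjective_apply _ _ _ _ x
  choose σ hσ using fun x => Ideal.Quotient.mk_surjective (s x)
  refine ⟨s.toRingHom, σ, fun x => ⟨hσ x, ?_⟩⟩
  have h1 := hs x
  rw [← hσ x] at h1
  exact h1

/-- The `π`-adic expansion modulo `π^n` with respect to any section of the residue map. -/
theorem exists_expansion {π : B} (hπ : maximalIdeal B = Ideal.span {π}) (σ : ResidueField B → B)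
    (hσ : ∀ x, residue B (σ x) = x) (b : B) (n : ℕ) :
    ∃ d : ℕ → ResidueField B, π ^ n ∣ b - ∑ i ∈ Finset.range n, σ (d i) * π ^ i := by
  induction n with
  | zero => exact ⟨fun _ => 0, by simp⟩
  | succ n ih =>
    obtain ⟨d, w, hw⟩ := ih
    have h1 : w - σ (residue B w) ∈ maximalIdeal B := by
      rw [← IsLocalRing.residue_eq_zero_iff, map_sub, hσ, sub_self]
    rw [hπ, Ideal.mem_span_singleton] at h1
    obtain ⟨w', hw'⟩ := h1
    refine ⟨Function.update d n (residue B w), w', ?_⟩
    have e : ∑ i ∈ Finset.range n, σ (Function.update d n (residue B w) i) * π ^ i =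
        ∑ i ∈ Finset.range n, σ (d i) * π ^ i :=
      Finset.sum_congr rfl fun i hi => by rw [Function.update_of_ne (Finset.mem_range.mp hi).ne]
    rw [Finset.sum_range_succ, Function.update_self, e]
    linear_combination hw + π ^ n * hw'

end Section

/-- The prime to `p` parts of `1, …, n`. -/
def primeParts (p n : ℕ) : Finset ℕ := (Finset.Icc 1 n).image fun i => ordCompl[p] i

theorem of_mem_primeParts {p n j : ℕ} (hp : p.Prime) (hj : j ∈ primeParts p n) : ¬ p ∣ j ∧ 0 < j ∧ j ≤ n := by
  obtain ⟨i, hi, rfl⟩ := Finset.mem_image.mp hj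
  rw [Finset.mem_Icc] at hi
  exact ⟨Nat.not_dvd_ordCompl hp (by omega), Nat.ordCompl_pos p (by omega), (Nat.div_le_self _ _).trans hi.2⟩

theorem eq_of_mul_pow_eq {p j j' a b : ℕ} (hp : p.Prime) (hj : ¬ p ∣ j) (hj' : ¬ p ∣ j')
    (h : j * p ^ a = j' * p ^ b) : j = j' ∧ a = b := by
  wlog hab : a ≤ b generalizing j j' a b with H
  · exact (H hj' hj h.symm (le_of_not_ge hab)).imp Eq.symm Eq.symm
  obtain ⟨c, rfl⟩ := Nat.exists_eq_add_of_le hab
  rw [pow_add, mul_comm (p ^ a), ← mul_assoc] at h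
  have h1 : j = j' * p ^ c := Nat.eq_of_mul_eq_mul_right (pow_pos hp.pos a) h
  rcases Nat.eq_zero_or_pos c with rfl | hc
  · exact ⟨by simpa using h1, rfl⟩
  · exact absurd (h1 ▸ (dvd_pow_self p hc.ne').mul_left j') hj

/-- The combined coefficient attached to the prime to `p` part `j`. -/
noncomputable def combined {k : Type u} [CommRing k] (p n : ℕ) (d : ℕ → k) (j : ℕ) : k :=
  ∑ i ∈ (Finset.Icc 1 n).filter (fun i => ordCompl[p] i = j), d i ^ p ^ (n - i.factorization p)

section Reduce

variable {p : ℕ} [hp : Fact p.Prime] {B : Type u} [CommRing B] [IsDomain B] [IsDiscreteValuationRing B]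
  {π : B} {P : ℕ} (s : ResidueField B →+* B ⧸ Ideal.span {π ^ P}) (σ : ResidueField B → B)
  (hσ : ∀ x, Ideal.Quotient.mk (Ideal.span {π ^ P}) (σ x) = s x)

include hσ in
theorem dvd_sigma_add (x y : ResidueField B) : π ^ P ∣ σ (x + y) - (σ x + σ y) := by
  rw [← Ideal.mem_span_singleton, ← Ideal.Quotient.eq, map_add, hσ, hσ, hσ, map_add]

include hσ in
theorem dvd_sigma_pow (x : ResidueField B) (k : ℕ) : π ^ P ∣ σ (x ^ k) - σ x ^ k := by
  rw [← Ideal.mem_span_singleton, ← Ideal.Quotient.eq, map_pow, hσ, hσ, map_pow]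

include hσ in
theorem dvd_sigma_zero : π ^ P ∣ σ 0 := by
  rw [← Ideal.mem_span_singleton, ← Ideal.Quotient.eq_zero_iff_mem, hσ, map_zero]

variable {F : Type u} [Field F] [CharP F p] (W : ValuationSubring F)

/-- Elements congruent to some `u^p - u` modulo the valuation ring. -/
def asGroup : AddSubgroup F where
  carrier := {x | ∃ u : F, W.valuation (x - (u ^ p - u)) ≤ 1}
  zero_mem' := ⟨0, by simp [zero_pow hp.out.ne_zero]⟩
  add_mem' := by
    rintro x y ⟨u, hu⟩ ⟨v, hv⟩
    refine ⟨u + v, ?_⟩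
    rw [show x + y - ((u + v) ^ p - (u + v)) = (x - (u ^ p - u)) + (y - (v ^ p - v)) by rw [add_pow_char]; ring]
    exact W.valuation.map_add_le hu hv
  neg_mem' := by
    rintro x ⟨u, hu⟩
    refine ⟨0 - u, ?_⟩
    rw [show -x - ((0 - u) ^ p - (0 - u)) = -(x - (u ^ p - u)) by rw [sub_pow_char, zero_pow hp.out.ne_zero]; ring,
      Valuation.map_neg]
    exact hu

omit [CharP F p] in
theorem mem_asGroup_of_le [CharP F p] {x : F} (h : W.valuation x ≤ 1) : x ∈ asGroup (p := p) W :=
  ⟨0, by simpa [zero_pow hp.out.ne_zero] using h⟩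

variable {W} (g : B →+* F) (hW : EtRam.Dominates B g W) {X : F} {q : ℕ}
  (hX1 : W.valuation X < 1) (hX0 : X ≠ 0) (hXq : W.valuation X ^ q = W.valuation (g π))

include hW hX1 hX0 hXq in
theorem valuation_small {b : B} (hb : π ^ P ∣ b) {E : ℕ} (hE : E ≤ q * P) :
    W.valuation (g b * X⁻¹ ^ E) ≤ 1 := by
  obtain ⟨c, rfl⟩ := hb
  rw [map_mul, map_mul, map_mul, map_pow g, map_pow W.valuation, map_pow W.valuation, ← hXq, map_inv₀, inv_pow,
    ← pow_mul, mul_right_comm]
  refine mul_le_one' ?_ ((W.valuation_le_one_iff _).mpr (hW.1 c))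
  have hpos : 0 < W.valuation X := zero_lt_iff.mpr ((Valuation.ne_zero_iff _).mpr hX0)
  rw [← div_eq_mul_inv, div_le_one₀ (pow_pos hpos E)]
  exact pow_le_pow_right_of_le_one' hX1.le hE

/-- The term `σ(c) X^{-E}`. -/
def polarTerm (X : F) (c : ResidueField B) (E : ℕ) : F := g (σ c) * X⁻¹ ^ E

include hσ hW hX1 hX0 hXq in
theorem polarTerm_climb (c : ResidueField B) {E : ℕ} (hE : p * E ≤ q * P) :
    polarTerm σ g X (c ^ p) (p * E) - polarTerm σ g X c E ∈ asGroup (p := p) W := by
  refine ⟨g (σ c) * X⁻¹ ^ E, ?_⟩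
  have e : polarTerm σ g X (c ^ p) (p * E) - polarTerm σ g X c E -
      ((g (σ c) * X⁻¹ ^ E) ^ p - g (σ c) * X⁻¹ ^ E) = g (σ (c ^ p) - σ c ^ p) * X⁻¹ ^ (p * E) := by
    rw [polarTerm, polarTerm, map_sub, map_pow, mul_pow, ← pow_mul, mul_comm E p]
    ring
  rw [e]
  exact valuation_small g hW hX1 hX0 hXq (dvd_sigma_pow s σ hσ c p) hE

include hσ hW hX1 hX0 hXq in
theorem polarTerm_climb_iter (c : ResidueField B) (r : ℕ) {E : ℕ} (hE : p ^ r * E ≤ q * P) :
    polarTerm σ g X (c ^ p ^ r) (p ^ r * E) - polarTerm σ g X c E ∈ asGroup (p := p) W := by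
  induction r with
  | zero => simp [zero_mem]
  | succ r ih =>
    have hE' : p ^ r * E ≤ q * P := le_trans (Nat.mul_le_mul_right E (Nat.pow_le_pow_right hp.out.pos r.le_succ)) hE
    have h1 := polarTerm_climb (p := p) s σ hσ g hW hX1 hX0 hXq (c ^ p ^ r) (E := p ^ r * E)
      (by rwa [← mul_assoc, mul_comm p, ← pow_succ])
    rw [← pow_mul, ← pow_succ, ← mul_assoc, mul_comm p, ← pow_succ] at h1
    have h2 := add_mem h1 (ih hE')
    rwa [sub_add_sub_cancel] at h2

include hσ hW hX1 hX0 hXq in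
theorem polarTerm_sum {ι : Type*} (t : Finset ι) (c : ι → ResidueField B) {E : ℕ} (hE : E ≤ q * P) :
    polarTerm σ g X (∑ i ∈ t, c i) E - ∑ i ∈ t, polarTerm σ g X (c i) E ∈ asGroup (p := p) W := by
  classical
  induction t using Finset.induction_on with
  | empty =>
    simp only [Finset.sum_empty, sub_zero]
    exact mem_asGroup_of_le W (valuation_small g hW hX1 hX0 hXq (dvd_sigma_zero s σ hσ) hE)
  | insert a t ha ih =>
    rw [Finset.sum_insert ha, Finset.sum_insert ha]
    have h1 : W.valuation (g (σ (c a + ∑ i ∈ t, c i) - (σ (c a) + σ (∑ i ∈ t, c i))) * X⁻¹ ^ E) ≤ 1 :=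
      valuation_small g hW hX1 hX0 hXq (dvd_sigma_add s σ hσ _ _) hE
    have h2 := add_mem (mem_asGroup_of_le (p := p) W h1) ih
    convert h2 using 1
    simp only [polarTerm, map_sub, map_add]
    ring

include hσ hW hX1 hX0 hXq in
/-- The polar part, rewritten with one term for each prime to `p` exponent. -/
theorem polar_reduce {n N : ℕ} (hq : q = p ^ N) (hP : n * p ^ n ≤ P) (d f : ℕ → ResidueField B) (r : ℕ → ℕ)
    (hr : ∀ j ∈ primeParts p n, r j ≤ n + N ∧ f j ^ p ^ r j = combined p n d j)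
    (hT : ∀ i ≤ n, W.valuation ((g π)⁻¹ ^ i - X⁻¹ ^ (q * i)) ≤ 1) :
    (∑ i ∈ Finset.Icc 1 n, g (σ (d i)) * (g π)⁻¹ ^ i) -
      (∑ j ∈ primeParts p n, polarTerm σ g X (f j) (j * p ^ (n + N - r j))) ∈ asGroup (p := p) W := by
  classical
  have hbound : ∀ j ≤ n, q * (j * p ^ n) ≤ q * P := fun j hj =>
    Nat.mul_le_mul_left q ((Nat.mul_le_mul_right _ hj).trans hP)
  -- replace `π^{-i}` by `X^{-qi}`
  have h1 : (∑ i ∈ Finset.Icc 1 n, g (σ (d i)) * (g π)⁻¹ ^ i) - ∑ i ∈ Finset.Icc 1 n, polarTerm σ g X (d i) (q * i)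
      ∈ asGroup (p := p) W := by
    rw [← Finset.sum_sub_distrib]
    refine sum_mem fun i hi => mem_asGroup_of_le W ?_
    rw [polarTerm, ← mul_sub, map_mul]
    exact mul_le_one' ((W.valuation_le_one_iff _).mpr (hW.1 _)) (hT i (Finset.mem_Icc.mp hi).2)
  -- climb to the top exponent
  have h2 : (∑ i ∈ Finset.Icc 1 n, polarTerm σ g X (d i ^ p ^ (n - i.factorization p)) (q * ((ordCompl[p] i) * p ^ n))) -
      ∑ i ∈ Finset.Icc 1 n, polarTerm σ g X (d i) (q * i) ∈ asGroup (p := p) W := by
    rw [← Finset.sum_sub_distrib]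
    refine sum_mem fun i hi => ?_
    rw [Finset.mem_Icc] at hi
    have hs : i.factorization p ≤ n :=
      ((Nat.factorization_lt p (by omega)).le).trans hi.2
    have e : q * ((ordCompl[p] i) * p ^ n) = p ^ (n - i.factorization p) * (q * i) := by
      calc q * ((ordCompl[p] i) * p ^ n) = (q * ordCompl[p] i) * (p ^ (n - i.factorization p) * p ^ (i.factorization p)) := by
            rw [← pow_add, Nat.sub_add_cancel hs, mul_assoc]
        _ = p ^ (n - i.factorization p) * (q * (p ^ (i.factorization p) * ordCompl[p] i)) := by ring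
        _ = _ := by rw [Nat.ordProj_mul_ordCompl_eq_self]
    rw [e]
    exact polarTerm_climb_iter s σ hσ g hW hX1 hX0 hXq _ _ (e ▸ hbound _ ((Nat.div_le_self _ _).trans hi.2))
  -- group
  have h3 : (∑ j ∈ primeParts p n, polarTerm σ g X (combined p n d j) (q * (j * p ^ n))) -
      ∑ i ∈ Finset.Icc 1 n, polarTerm σ g X (d i ^ p ^ (n - i.factorization p)) (q * ((ordCompl[p] i) * p ^ n))
        ∈ asGroup (p := p) W := by
    rw [← Finset.sum_fiberwise_of_maps_to (t := primeParts p n) (g := fun i => ordCompl[p] i)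
      (fun i hi => Finset.mem_image_of_mem _ hi), ← Finset.sum_sub_distrib]
    refine sum_mem fun j hj => ?_
    have e : ∑ i ∈ (Finset.Icc 1 n).filter (fun i => ordCompl[p] i = j),
        polarTerm σ g X (d i ^ p ^ (n - i.factorization p)) (q * ((ordCompl[p] i) * p ^ n)) =
        ∑ i ∈ (Finset.Icc 1 n).filter (fun i => ordCompl[p] i = j),
        polarTerm σ g X (d i ^ p ^ (n - i.factorization p)) (q * (j * p ^ n)) :=
      Finset.sum_congr rfl fun i hi => by rw [(Finset.mem_filter.mp hi).2]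
    rw [e]
    exact polarTerm_sum s σ hσ g hW hX1 hX0 hXq _ _ (hbound j (of_mem_primeParts hp.out hj).2.2)
  -- descend
  have h4 : (∑ j ∈ primeParts p n, polarTerm σ g X (combined p n d j) (q * (j * p ^ n))) -
      ∑ j ∈ primeParts p n, polarTerm σ g X (f j) (j * p ^ (n + N - r j)) ∈ asGroup (p := p) W := by
    rw [← Finset.sum_sub_distrib]
    refine sum_mem fun j hj => ?_
    obtain ⟨hrj, hfj⟩ := hr j hj
    have e : q * (j * p ^ n) = p ^ r j * (j * p ^ (n + N - r j)) := by
      rw [hq, show p ^ r j * (j * p ^ (n + N - r j)) = j * (p ^ r j * p ^ (n + N - r j)) by ring,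
        ← pow_add, Nat.add_sub_cancel' hrj, pow_add]
      ring
    rw [← hfj, e]
    exact polarTerm_climb_iter s σ hσ g hW hX1 hX0 hXq _ _ (e ▸ hbound j (of_mem_primeParts hp.out hj).2.2)
  have := add_mem (sub_mem (sub_mem h1 h2) h3) h4
  convert this using 1
  ring

end Reduce

section Uniformizer

variable {B : Type u} [CommRing B] [IsDomain B] [IsDiscreteValuationRing B]
  {L : Type u} [Field L] [Algebra B L] [IsFractionRing B L]
  {π : B} (hπ : maximalIdeal B = Ideal.span {π})
  {L₁ : Type u} [Field L₁] [Algebra L L₁] [Algebra B L₁] [IsScalarTower B L L₁] (x : L₁) {q : ℕ}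
  (hxq : ∀ V : ValuationSubring L₁, EtRam.Dominates B (algebraMap B L₁) V →
    V.valuation x ^ q = V.valuation (algebraMap B L₁ π))
  (hrep : ∀ z : L₁, ∃ a : Fin q → L, z = ∑ i, algebraMap L L₁ (a i) * x ^ (i : ℕ)) (hq : 0 < q)

include hπ hxq hrep hq in
/-- If `v(x)^q = v(π)` and `x` generates in degree `q`, every element of valuation `< 1` is at most `x`. -/
theorem valuation_le_gen {V : ValuationSubring L₁} (h : EtRam.Dominates B (algebraMap B L₁) V) {z : L₁}
    (hz : V.valuation z < 1) : V.valuation z ≤ V.valuation x := by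
  classical
  obtain ⟨a, ha⟩ := hrep z
  have hzmem : z ∈ V := (V.valuation_le_one_iff _).mp hz.le
  rw [ha] at hzmem
  choose b hb using coeff_mem' hπ x hxq h a hzmem
  have hx1 := valuation_gen_lt_one hπ x hxq h
  rw [ha]
  refine V.valuation.map_sum_le fun i _ => ?_
  rcases Nat.eq_zero_or_pos (i : ℕ) with h0 | h0
  · rw [h0, pow_zero, mul_one, ← hb i, ← IsScalarTower.algebraMap_apply]
    by_cases hbm : b i ∈ maximalIdeal B
    · refine (valuation_le_pi hπ h hbm).trans ?_
      rw [← hxq V h]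
      exact pow_le_of_le_one zero_le' hx1.le hq.ne'
    · exfalso
      refine hz.ne ?_
      rw [ha, ← Finset.add_sum_erase _ _ (Finset.mem_univ i), h0, pow_zero, mul_one, ← hb i,
        ← IsScalarTower.algebraMap_apply]
      have h3 : V.valuation (∑ j ∈ Finset.univ.erase i, algebraMap L L₁ (a j) * x ^ (j : ℕ)) <
          V.valuation (algebraMap B L₁ (b i)) := by
        rw [valuation_algebraMap_eq_one h hbm]
        refine Valuation.map_sum_lt _ one_ne_zero fun j hj => ?_
        have hj0 : (j : ℕ) ≠ 0 := fun e => (Finset.mem_erase.mp hj).1 (Fin.ext (e.trans h0.symm))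
        rw [map_mul, map_pow, ← hb j, ← IsScalarTower.algebraMap_apply]
        exact lt_of_le_of_lt (mul_le_of_le_one_left' ((V.valuation_le_one_iff _).mpr (h.1 _)))
          (pow_lt_one₀ zero_le' hx1 hj0)
      rw [V.valuation.map_add_eq_of_lt_left h3, valuation_algebraMap_eq_one h hbm]
  · rw [map_mul, map_pow, ← hb i, ← IsScalarTower.algebraMap_apply]
    exact (mul_le_of_le_one_left' ((V.valuation_le_one_iff _).mpr (h.1 _))).trans
      (pow_le_of_le_one zero_le' hx1.le h0.ne')

end Uniformizer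

theorem comap_comap_eq {F G H : Type u} [Field F] [Field G] [Field H] (j : G →+* H) (i : F →+* G)
    (W : ValuationSubring H) : (W.comap j).comap i = W.comap (j.comp i) := rfl

/-- Weak unramifiedness composes. -/
theorem weaklyUnramified_comp {F G H : Type u} [Field F] [Field G] [Field H] (j : G →+* H) (i : F →+* G)
    (W : ValuationSubring H)
    (h₁ : (maximalIdeal ((W.comap j).comap i)).map (EtRam.inclOfComap (W.comap j) i) = maximalIdeal (W.comap j))
    (h₂ : (maximalIdeal (W.comap j)).map (EtRam.inclOfComap W j) = maximalIdeal W) :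
    (maximalIdeal (W.comap (j.comp i))).map (EtRam.inclOfComap W (j.comp i)) = maximalIdeal W := by
  rw [← h₂, ← h₁, Ideal.map_map]
  rfl

end GrothLib.EtRam10
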