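import Groth.Agent.Lib.EtRam10.UnrClosure
import Groth.Agent.Lib.EtRam10.Polar
import Groth.Agent.Lib.DVRExt.Compositum
import Groth.Agent.Lib.GeomRed2.Basic
import Groth.Agent.Lib.PseudoCompl.Basic
import Groth.Agent.S1983

set_option linter.all false
set_option backward.isDefEq.respectTransparency false
set_option autoImplicit false

/-!
# Weakly unramified extensions with separable residue extensions, as a relation on field maps
-/

universe u

open IsLocalRing Polynomial

namespace GrothLib.EtRam10

/-- `W ∩ F → W` is weakly unramified with geometrically reduced residue extension. -/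
def Good {F G : Type u} [Field F] [Field G] (f : F →+* G) (W : ValuationSubring G) : Prop :=
  (letI : Algebra (W.comap f) W := (EtRam.inclOfComap W f).toAlgebra
   EtRam.IsWeaklyUnramified (W.comap f) W) ∧
    @Algebra.IsGeometricallyReduced (ResidueField (W.comap f)) (ResidueField W) _ _
      (ResidueField.map (EtRam.inclOfComap W f)).toAlgebra

theorem Good.descend {F G H : Type u} [Field F] [Field G] [Field H] {f : F →+* G} {j : G →+* H}
    {W : ValuationSubring H} (h : Good (j.comp f) W) : Good f (W.comap j) :=
  ⟨GrothLib.DVRExt.weaklyUnramified_descend f j W h.1, GrothLib.DVRExt.geomReduced_descend f j W h.2⟩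

theorem Good.trans {F G H : Type u} [Field F] [Field G] [Field H] {f : F →+* G} {j : G →+* H}
    {W : ValuationSubring H} (h₁ : Good f (W.comap j)) (h₂ : Good j W) : Good (j.comp f) W := by
  refine ⟨weaklyUnramified_comp j f W h₁.1 h₂.1, ?_⟩
  letI a1 : Algebra (ResidueField (W.comap (j.comp f))) (ResidueField (W.comap j)) :=
    (ResidueField.map (EtRam.inclOfComap (W.comap j) f)).toAlgebra
  letI a2 : Algebra (ResidueField (W.comap j)) (ResidueField W) :=
    (ResidueField.map (EtRam.inclOfComap W j)).toAlgebra
  letI a3 : Algebra (ResidueField (W.comap (j.comp f))) (ResidueField W) :=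
    (ResidueField.map (EtRam.inclOfComap W (j.comp f))).toAlgebra
  haveI : IsScalarTower (ResidueField (W.comap (j.comp f))) (ResidueField (W.comap j)) (ResidueField W) :=
    .of_algebraMap_eq fun x => by
      obtain ⟨x, rfl⟩ := residue_surjective x
      rfl
  haveI : Algebra.IsGeometricallyReduced (ResidueField (W.comap (j.comp f))) (ResidueField (W.comap j)) := h₁.2
  haveI : Algebra.IsGeometricallyReduced (ResidueField (W.comap j)) (ResidueField W) := h₂.2
  exact GrothLib.PseudoCompl.isGeometricallyReduced_trans (k := ResidueField (W.comap (j.comp f)))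
    (k' := ResidueField (W.comap j)) (ResidueField W)

/-- An extension generated by roots with separable reduction is good at every place. -/
theorem good_of_generated {M F : Type u} [Field M] [Field F] [Algebra M F] (W : ValuationSubring F)
    [IsDiscreteValuationRing (W.comap (algebraMap M F))]
    (hgen : letI : Algebra (W.comap (algebraMap M F)) F :=
        ((algebraMap M F).comp (W.comap (algebraMap M F)).subtype).toAlgebra
      IsSepRedGenerated (W.comap (algebraMap M F)) M F) :
    Good (algebraMap M F) W := by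
  letI : Algebra (W.comap (algebraMap M F)) F :=
    ((algebraMap M F).comp (W.comap (algebraMap M F)).subtype).toAlgebra
  haveI : IsScalarTower (W.comap (algebraMap M F)) M F := .of_algebraMap_eq' rfl
  have hW : EtRam.Dominates (W.comap (algebraMap M F)) (algebraMap (W.comap (algebraMap M F)) F) W :=
    ⟨fun b => b.2, fun b hb => lt_of_le_of_ne ((W.valuation_le_one_iff _).mpr b.2) fun h1 =>
      hb (IsUnit.of_map (EtRam.inclOfComap W (algebraMap M F)) b ((W.valuation_eq_one_iff _).mpr h1))⟩
  have hw := weaklyUnramified_generated hgen hW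
  letI : Algebra (W.comap (algebraMap M F)) W :=
    (RingHom.codRestrict (algebraMap (W.comap (algebraMap M F)) F) W hW.1).toAlgebra
  haveI : IsLocalHom (algebraMap (W.comap (algebraMap M F)) W) := isLocalHom_of_dominates _ W hW
  haveI := residue_isSeparable_generated hgen hW
  refine ⟨hw, ?_⟩
  have key : Algebra.IsGeometricallyReduced (ResidueField (W.comap (algebraMap M F))) (ResidueField W) :=
    GrothLib.GeomRed2.isGeometricallyReduced_of_isSeparable
  convert key using 2
  refine Algebra.algebra_ext _ _ fun r => ?_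
  obtain ⟨r, rfl⟩ := residue_surjective r
  rfl

/-- A good extension stays good after a finite extension of the bottom field. -/
theorem Good.extend {F₀ G₀ F₁ G₁ : Type u} [Field F₀] [Field G₀] [Field F₁] [Field G₁] [Algebra F₀ G₀]
    [Algebra F₀ F₁] [FiniteDimensional F₀ F₁] [Algebra F₀ G₁] [Algebra G₀ G₁] [Algebra F₁ G₁]
    [IsScalarTower F₀ G₀ G₁] [IsScalarTower F₀ F₁ G₁]
    (hgen : Algebra.adjoin G₀ (Set.range (algebraMap F₁ G₁)) = ⊤) (W : ValuationSubring G₁)
    [IsDiscreteValuationRing (W.comap (algebraMap G₀ G₁))]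
    [IsDiscreteValuationRing ((W.comap (algebraMap G₀ G₁)).comap (algebraMap F₀ G₀))]
    (h : Good (algebraMap F₀ G₀) (W.comap (algebraMap G₀ G₁))) : Good (algebraMap F₁ G₁) W := by
  letI : Algebra ((W.comap (algebraMap G₀ G₁)).comap (algebraMap F₀ G₀)) (W.comap (algebraMap G₀ G₁)) :=
    (EtRam.inclOfComap (W.comap (algebraMap G₀ G₁)) (algebraMap F₀ G₀)).toAlgebra
  haveI : IsLocalHom (algebraMap ((W.comap (algebraMap G₀ G₁)).comap (algebraMap F₀ G₀)) (W.comap (algebraMap G₀ G₁))) :=
    EtRam.isLocalHom_inclOfComap _ _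
  letI : Algebra ((W.comap (algebraMap G₀ G₁)).comap (algebraMap F₀ G₀)) G₀ :=
    ((algebraMap F₀ G₀).comp ((W.comap (algebraMap G₀ G₁)).comap (algebraMap F₀ G₀)).subtype).toAlgebra
  haveI : IsScalarTower ((W.comap (algebraMap G₀ G₁)).comap (algebraMap F₀ G₀)) F₀ G₀ := .of_algebraMap_eq' rfl
  haveI : IsScalarTower ((W.comap (algebraMap G₀ G₁)).comap (algebraMap F₀ G₀)) (W.comap (algebraMap G₀ G₁)) G₀ :=
    .of_algebraMap_eq fun _ => rfl
  haveI : Algebra.IsGeometricallyReduced (ResidueField ((W.comap (algebraMap G₀ G₁)).comap (algebraMap F₀ G₀)))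
      (ResidueField (W.comap (algebraMap G₀ G₁))) := by
    convert h.2 using 2
    refine Algebra.algebra_ext _ _ fun r => ?_
    obtain ⟨r, rfl⟩ := residue_surjective r
    rfl
  refine Groth.Agent.S1983.result ((W.comap (algebraMap G₀ G₁)).comap (algebraMap F₀ G₀)) (W.comap (algebraMap G₀ G₁))
    F₀ G₀ (fun x y hxy => Subtype.ext ((algebraMap F₀ G₀).injective (congrArg Subtype.val hxy))) h.1 F₁ G₁ hgen W ?_
  exact ⟨fun b => b.2, fun b hb => lt_of_le_of_ne ((W.valuation_le_one_iff _).mpr b.2) fun h1 =>
      hb (IsUnit.of_map (EtRam.inclOfComap W (algebraMap G₀ G₁)) b ((W.valuation_eq_one_iff _).mpr h1))⟩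

end GrothLib.EtRam10
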