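import Groth.Agent.Lib.EtRam10.Generators
import Groth.Agent.Lib.EtRam10.Compositum
import Groth.Agent.Lib.EtRam10.Deform
import Groth.Agent.Lib.DVRExt.FiniteExt
import Groth.Agent.Lib.UnrMono.Basic

set_option linter.all false
set_option backward.isDefEq.respectTransparency false
set_option autoImplicit false

/-!
# The field generated by the roots of polynomials with separable reduction
-/

universe u

open IsLocalRing Polynomial

namespace GrothLib.EtRam10

/-- `x` is a root of a monic polynomial over `O` whose reduction is separable. -/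
def SepRed (O : Type u) [CommRing O] [IsLocalRing O] {F : Type u} [Field F] [Algebra O F] (x : F) : Prop :=
  ∃ f : O[X], f.Monic ∧ (f.map (residue O)).Separable ∧ aeval x f = 0

variable {O : Type u} [CommRing O] [IsDomain O] [IsDiscreteValuationRing O]
  {M : Type u} [Field M] [Algebra O M] [IsFractionRing O M]
  {F : Type u} [Field F] [Algebra M F] [Algebra O F] [IsScalarTower O M F]

variable (M) in
omit [IsDomain O] [IsDiscreteValuationRing O] [IsFractionRing O M] in
theorem SepRed.isSeparable [IsLocalRing O] {x : F} (h : SepRed O x) : IsSeparable M x := by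
  obtain ⟨f, hf, hsep, hx⟩ := h
  have h1 : (f.map (algebraMap O M)).Separable :=
    (GrothLib.UnrMono.separable_of_map_residue hf hsep).map
  exact h1.of_dvd (minpoly.dvd M x (by rw [aeval_map_algebraMap]; exact hx))

omit [IsDomain O] [IsDiscreteValuationRing O] in
theorem SepRed.map_hom [IsLocalRing O] {O' : Type u} [CommRing O'] [IsLocalRing O'] (g : O →+* O') [IsLocalHom g]
    {F' : Type u} [Field F'] [Algebra O' F'] (j : F →+* F') (hj : ∀ o, j (algebraMap O F o) = algebraMap O' F' (g o))
    {x : F} (h : SepRed O x) : SepRed O' (j x) := by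
  obtain ⟨f, hf, hsep, hx⟩ := h
  refine ⟨f.map g, hf.map g, ?_, ?_⟩
  · rw [Polynomial.map_map, ← ResidueField.map_comp_residue, ← Polynomial.map_map]
    exact hsep.map
  · rw [aeval_def, eval₂_map, show (algebraMap O' F').comp g = j.comp (algebraMap O F) from
      RingHom.ext fun o => (hj o).symm, ← hom_eval₂, ← aeval_def, hx, map_zero]

variable (O M F) in
/-- `F` is generated over `M` by roots of polynomials with separable reduction. -/
def IsSepRedGenerated : Prop :=
  IntermediateField.adjoin M {x : F | SepRed O x} = ⊤

variable (hgen : IsSepRedGenerated O M F)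

include hgen in
theorem isSeparable_of_generated : Algebra.IsSeparable M F := by
  rw [← separableClosure.eq_top_iff, eq_top_iff, ← hgen, IntermediateField.adjoin_le_iff]
  intro x hx
  rw [SetLike.mem_coe, mem_separableClosure_iff]
  exact SepRed.isSeparable M hx

include hgen in
/-- Every element lies in a finite subextension which is unramified everywhere. -/
theorem exists_unramified_level (z : F) : ∃ (E : IntermediateField M F) (_ : FiniteDimensional M E),
    z ∈ E ∧ EtRam.IsUnramifiedExt O ((algebraMap M E).comp (algebraMap O M)) := by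
  classical
  haveI := isSeparable_of_generated hgen
  obtain ⟨π, hπ⟩ := IsDiscreteValuationRing.exists_irreducible O
  obtain ⟨T, hT, hzT⟩ := IntermediateField.exists_finset_of_mem_adjoin
    (show z ∈ IntermediateField.adjoin M {x : F | SepRed O x} by rw [hgen]; trivial)
  have hsingle : ∀ (E : Type u) [Field E] [Algebra M E] (y : E) (f : O[X]), f.Monic → (f.map (residue O)).Separable →
      eval₂ ((algebraMap M E).comp (algebraMap O M)) y f = 0 → (∀ w : E, ∃ g : M[X], w = aeval y g) →
      EtRam.IsUnramifiedExt O ((algebraMap M E).comp (algebraMap O M)) := by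
    intro E _ _ y f hf hs hy hr
    letI : Algebra O E := ((algebraMap M E).comp (algebraMap O M)).toAlgebra
    haveI : IsScalarTower O M E := .of_algebraMap_eq' rfl
    exact isUnramifiedExt_of_separable_reduction (K := M) hπ.maximalIdeal_eq y f hf hy hs hr
  suffices ∀ T : Finset F, (∀ x ∈ T, SepRed O x) → ∃ (E : IntermediateField M F) (_ : FiniteDimensional M E),
      (∀ x ∈ T, x ∈ E) ∧ EtRam.IsUnramifiedExt O ((algebraMap M E).comp (algebraMap O M)) by
    obtain ⟨E, hfd, hTE, hE⟩ := this T fun x hx => hT hx
    exact ⟨E, hfd, (IntermediateField.adjoin_le_iff.mpr fun x hx => hTE x hx) hzT, hE⟩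
  intro T hT
  induction T using Finset.induction_on with
  | empty =>
    refine ⟨⊥, inferInstance, by simp, hsingle _ 0 X monic_X (by rw [Polynomial.map_X]; exact separable_X) (by simp)
      fun w => ?_⟩
    obtain ⟨m, hm⟩ := IntermediateField.mem_bot.mp w.2
    exact ⟨C m, Subtype.ext (by rw [aeval_C]; exact hm.symm)⟩
  | insert x T hxT ih =>
    obtain ⟨E, hfd, hTE, hE⟩ := ih fun y hy => hT y (Finset.mem_insert_of_mem hy)
    haveI := hfd
    obtain ⟨f, hf, hs, hx⟩ := hT x (Finset.mem_insert_self x T)
    have hxI : IsIntegral M x := (IsSeparable.isIntegral (Algebra.IsSeparable.isSeparable M x))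
    haveI := IntermediateField.adjoin.finiteDimensional hxI
    let x' : IntermediateField.adjoin M {x} := ⟨x, IntermediateField.mem_adjoin_simple_self M x⟩
    have hE' : EtRam.IsUnramifiedExt O ((algebraMap M (IntermediateField.adjoin M {x})).comp (algebraMap O M)) := by
      refine hsingle _ x' f hf hs ?_ fun w => ?_
      · apply Subtype.val_injective
        show (IntermediateField.adjoin M {x}).val.toRingHom _ = _
        rw [hom_eval₂, ZeroMemClass.coe_zero, ← hx, aeval_def, IsScalarTower.algebraMap_eq O M F]
        rfl
      · have hw : (w : F) ∈ Algebra.adjoin M {x} :=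
          IntermediateField.adjoin_simple_toSubalgebra_of_isAlgebraic hxI.isAlgebraic ▸ w.2
        rw [Algebra.adjoin_singleton_eq_range_aeval] at hw
        obtain ⟨g, hg⟩ := hw
        exact ⟨g, Subtype.ext (by rw [← hg]; exact (aeval_algHom_apply (IntermediateField.adjoin M {x}).val x' g))⟩
    refine ⟨E ⊔ IntermediateField.adjoin M {x}, IntermediateField.finiteDimensional_sup _ _, fun y hy => ?_,
      sup false E _ hE hE'⟩
    rcases Finset.mem_insert.mp hy with rfl | hy
    · exact (le_sup_right : IntermediateField.adjoin M {y} ≤ _) (IntermediateField.mem_adjoin_simple_self M y)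
    · exact (le_sup_left : E ≤ _) (hTE y hy)

variable {W : ValuationSubring F} (hW : EtRam.Dominates O (algebraMap O F) W)

include hgen hW in
/-- The restriction to a finite level: weakly unramified with separable residue extension. -/
theorem level_spec (z : F) (hz : z ∈ W) {π : O} (hπ : maximalIdeal O = Ideal.span {π}) :
    (W.valuation z < 1 → W.valuation z ≤ W.valuation (algebraMap O F π)) ∧
    (z ≠ 0 → ∃ n : ℕ, W.valuation z = W.valuation (algebraMap O F π) ^ n) ∧
    (letI : Algebra O W := (RingHom.codRestrict (algebraMap O F) W hW.1).toAlgebra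
     ∀ [IsLocalHom (algebraMap O W)], IsSeparable (ResidueField O) (residue W ⟨z, hz⟩)) := by
  obtain ⟨E, hfd, hzE, hE⟩ := exists_unramified_level hgen z
  haveI := hfd
  set V := W.comap (algebraMap E F) with hV
  letI : Algebra O E := ((algebraMap M E).comp (algebraMap O M)).toAlgebra
  haveI : IsScalarTower O M E := .of_algebraMap_eq' rfl
  have he : ∀ o, algebraMap E F (algebraMap O E o) = algebraMap O F o := fun o => by
    show algebraMap E F (algebraMap M E (algebraMap O M o)) = _
    rw [← IsScalarTower.algebraMap_apply M E F, ← IsScalarTower.algebraMap_apply O M F]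
  have hd : EtRam.Dominates O (algebraMap O E) V := by
    refine dominates_comap_of_comp (algebraMap E F) _ W ⟨fun o => ?_, fun o ho => ?_⟩
    · rw [RingHom.comp_apply, he]; exact hW.1 o
    · rw [RingHom.comp_apply, he]; exact hW.2 o ho
  haveI := GrothLib.DVRExt.isDiscreteValuationRing_of_dominates O M E V hd
  letI : Algebra O V := (RingHom.codRestrict (algebraMap O E) V hd.1).toAlgebra
  haveI : IsLocalHom (algebraMap O V) := isLocalHom_of_dominates _ V hd
  obtain ⟨hwu, hsep⟩ := hE V hd
  let z' : V := ⟨⟨z, hzE⟩, hz⟩
  let ι := EtRam.inclOfComap W (algebraMap E F)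
  have hιz : ι z' = ⟨z, hz⟩ := rfl
  have hπV : maximalIdeal V = Ideal.span {algebraMap O V π} := by
    rw [← show (maximalIdeal O).map (algebraMap O V) = _ from hwu, hπ, Ideal.map_span, Set.image_singleton]
  refine ⟨fun hlt => ?_, fun h0 => ?_, ?_⟩
  · have hzm : z' ∈ maximalIdeal V := fun hu => ((W.valuation_eq_one_iff _).mp (hu.map ι)).not_lt hlt
    rw [hπV, Ideal.mem_span_singleton] at hzm
    obtain ⟨c, hc⟩ := hzm
    have h1 : z = algebraMap O F π * algebraMap E F (c : E) := by
      have := congrArg (fun w : V => algebraMap E F (w : E)) hc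
      simp only [z', MulMemClass.coe_mul, map_mul] at this
      rw [show z = algebraMap E F ⟨z, hzE⟩ from rfl, this]
      exact congrArg (· * _) (he π)
    rw [h1, map_mul]
    exact mul_le_of_le_one_right' ((W.valuation_le_one_iff _).mpr c.2)
  · have hirr : Irreducible (algebraMap O V π) :=
      (IsDiscreteValuationRing.irreducible_iff_uniformizer _).mpr hπV
    obtain ⟨n, u, hu⟩ := IsDiscreteValuationRing.eq_unit_mul_pow_irreducible
      (show z' ≠ 0 from fun h => h0 (congrArg (fun w : V => algebraMap E F (w : E)) h |>.trans (map_zero _))) hirr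
    refine ⟨n, ?_⟩
    have h1 : z = algebraMap E F ((u : V) : E) * algebraMap O F π ^ n := by
      have := congrArg (fun w : V => algebraMap E F (w : E)) hu
      simp only [z', MulMemClass.coe_mul, SubmonoidClass.coe_pow, map_mul, map_pow] at this
      rw [show z = algebraMap E F ⟨z, hzE⟩ from rfl, this]
      exact congrArg (fun w => _ * w ^ n) (he π)
    rw [h1, map_mul, map_pow, show W.valuation (algebraMap E F ((u : V) : E)) = 1 from
      (W.valuation_eq_one_iff _).mp (u.isUnit.map ι), one_mul]
  · letI : Algebra O W := (RingHom.codRestrict (algebraMap O F) W hW.1).toAlgebra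
    intro hl
    have h1 : IsSeparable (ResidueField O) (residue V z') := Algebra.IsSeparable.isSeparable _ _
    let φ : ResidueField V →ₐ[ResidueField O] ResidueField W :=
      { ResidueField.map ι with
        commutes' := fun r => by
          obtain ⟨r, rfl⟩ := residue_surjective r
          exact congrArg (residue W) (Subtype.ext (he r)) }
    have h2 : (minpoly (ResidueField O) (φ (residue V z'))).Separable := by
      rw [minpoly.algHom_eq φ (φ : ResidueField V →+* ResidueField W).injective]
      exact h1
    exact h2

include hgen hW in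
theorem weaklyUnramified_generated :
    letI : Algebra O W := (RingHom.codRestrict (algebraMap O F) W hW.1).toAlgebra
    EtRam.IsWeaklyUnramified O W := by
  obtain ⟨π, hπ⟩ := IsDiscreteValuationRing.exists_irreducible O
  exact isWeaklyUnramified_of_forall M hπ.maximalIdeal_eq W hW fun z hz =>
    (level_spec hgen hW z ((W.valuation_le_one_iff _).mp hz.le) hπ.maximalIdeal_eq).1 hz

include hgen hW in
theorem residue_isSeparable_generated :
    letI : Algebra O W := (RingHom.codRestrict (algebraMap O F) W hW.1).toAlgebra
    ∀ [IsLocalHom (algebraMap O W)], Algebra.IsSeparable (ResidueField O) (ResidueField W) := by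
  letI : Algebra O W := (RingHom.codRestrict (algebraMap O F) W hW.1).toAlgebra
  intro hl
  obtain ⟨π, hπ⟩ := IsDiscreteValuationRing.exists_irreducible O
  refine ⟨fun y => ?_⟩
  obtain ⟨y, rfl⟩ := residue_surjective y
  exact @(level_spec hgen hW (y : F) y.2 hπ.maximalIdeal_eq).2.2 hl

include hgen hW in
theorem isDiscreteValuationRing_generated : IsDiscreteValuationRing W := by
  obtain ⟨π, hπ⟩ := IsDiscreteValuationRing.exists_irreducible O
  have hpos := valuation_pi_pos M hπ.maximalIdeal_eq W (L := F)
  have hlt : W.valuation (algebraMap O F π) < 1 := hW.2 π (hπ.maximalIdeal_eq ▸ Ideal.mem_span_singleton_self π)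
  let ϖ : W := ⟨algebraMap O F π, hW.1 π⟩
  refine IsDiscreteValuationRing.ofHasUnitMulPowIrreducibleFactorization ⟨ϖ, ?_, fun {x} hx => ?_⟩
  · refine ⟨fun hu => ((W.valuation_eq_one_iff _).mp hu).not_lt hlt, fun a b hab => ?_⟩
    by_contra hcon
    push Not at hcon
    have h1 : ∀ c : W, ¬ IsUnit c → W.valuation (c : F) ≤ W.valuation (algebraMap O F π) := fun c hc =>
      (level_spec hgen hW (c : F) c.2 hπ.maximalIdeal_eq).1 ((W.valuation_lt_one_iff c).mp hc)
    have h2 : W.valuation (algebraMap O F π) = W.valuation (a : F) * W.valuation (b : F) := by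
      rw [← map_mul]; exact congrArg (fun w : W => W.valuation (w : F)) hab
    have h3 := mul_le_mul' (h1 a hcon.1) (h1 b hcon.2)
    rw [← h2] at h3
    exact (h3.trans_lt (mul_lt_of_lt_one_right hpos hlt)).false
  · obtain ⟨n, hn⟩ := (level_spec hgen hW (x : F) x.2 hπ.maximalIdeal_eq).2.1 fun h => hx (Subtype.ext h)
    refine ⟨n, ?_⟩
    have hne : algebraMap O F π ^ n ≠ 0 :=
      pow_ne_zero _ ((Valuation.ne_zero_iff _).mp hpos.ne')
    have hv : W.valuation ((x : F) / algebraMap O F π ^ n) = 1 := by
      rw [map_div₀, map_pow, hn, div_self (pow_ne_zero _ hpos.ne')]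
    obtain ⟨u, hu⟩ := (W.valuation_eq_one_iff ⟨_, (W.valuation_le_one_iff _).mp hv.le⟩).mpr hv
    refine ⟨u, Subtype.ext ?_⟩
    rw [MulMemClass.coe_mul, SubmonoidClass.coe_pow, hu]
    exact mul_div_cancel₀ _ hne

include hgen hW in
/-- If moreover every polynomial with separable reduction splits, the residue field is a separable closure. -/
theorem isSepClosure_residue (hsplit : ∀ f : O[X], f.Monic → (f.map (residue O)).Separable →
      (f.map (algebraMap O F)).Splits) :
    letI : Algebra O W := (RingHom.codRestrict (algebraMap O F) W hW.1).toAlgebra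
    ∀ [IsLocalHom (algebraMap O W)], IsSepClosure (ResidueField O) (ResidueField W) := by
  letI : Algebra O W := (RingHom.codRestrict (algebraMap O F) W hW.1).toAlgebra
  intro hl
  haveI := residue_isSeparable_generated hgen hW
  refine ⟨IsSepClosed.of_exists_root _ fun q hqm hqi hqs => ?_, inferInstance⟩
  haveI := Fact.mk hqi
  let y := AdjoinRoot.root q
  haveI : FiniteDimensional (ResidueField W) (AdjoinRoot q) := (AdjoinRoot.powerBasis hqm.ne_zero).finite
  have hyW : IsSeparable (ResidueField W) y := by
    rw [IsSeparable, AdjoinRoot.minpoly_root hqm.ne_zero, hqm.leadingCoeff, inv_one, map_one, mul_one]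
    exact hqs
  have hy : IsSeparable (ResidueField O) y := IsSeparable.of_algebra_isSeparable_of_isSeparable (ResidueField O) hyW
  have hyI : IsIntegral (ResidueField O) y := hy.isIntegral
  obtain ⟨G, hG, -, hGm⟩ := Polynomial.lifts_and_degree_eq_and_monic
    ((Polynomial.mem_lifts _).mpr (Polynomial.map_surjective _ residue_surjective (minpoly (ResidueField O) y)))
    (minpoly.monic hyI)
  have hGs : (G.map (residue O)).Separable := hG ▸ hy
  have hspW : (G.map (algebraMap O W)).Splits := by
    refine Polynomial.Splits.of_splits_map_of_injective (i := W.subtype) Subtype.val_injective ?_ fun r hr => ?_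
    · rw [Polynomial.map_map]; exact hsplit G hGm hGs
    · have h0 : (G.map (algebraMap O F)).IsRoot r := by
        rw [Polynomial.map_map] at hr
        exact Polynomial.isRoot_of_mem_roots hr
      rw [Polynomial.IsRoot, eval_map, ← aeval_def] at h0
      exact ⟨⟨r, mem_of_isIntegral W hW.1 ⟨G, hGm, h0⟩⟩, rfl⟩
  have hsp : ((minpoly (ResidueField O) y).map (algebraMap (ResidueField O) (ResidueField W))).Splits := by
    rw [← hG, Polynomial.map_map]
    have := hspW.map (residue W)
    rw [Polynomial.map_map] at this
    exact this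
  have hdvd : q ∣ (minpoly (ResidueField O) y).map (algebraMap (ResidueField O) (ResidueField W)) := by
    have h1 := minpoly.dvd_map_of_isScalarTower (ResidueField O) (ResidueField W) y
    rwa [AdjoinRoot.minpoly_root hqm.ne_zero, hqm.leadingCoeff, inv_one, map_one, mul_one] at h1
  obtain ⟨r, hr⟩ := (Polynomial.Splits.of_dvd hsp
    ((minpoly.monic hyI).map _).ne_zero hdvd).exists_eval_eq_zero (degree_pos_of_irreducible hqi).ne'
  exact ⟨r, hr⟩

end GrothLib.EtRam10
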